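import Mathlib
import Groth.Prelude.Def_FlatCA
import Groth.Agent.Lib.EtFibre.Basic
import Groth.Agent.Lib.DevBC13.Dim

/-!
# The local dimension of the support of a fibre module under étale neighbourhoods
-/

set_option autoImplicit false
set_option linter.style.haveILetI false
set_option linter.unusedSectionVars false

universe u

open TensorProduct Topology

attribute [local instance] Algebra.TensorProduct.rightAlgebra

namespace GrothLib.RG6.Dev

/-- The trace of the support in a fibre, inside the spectrum. -/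
def fibreSupport {R S : Type u} [CommRing R] [CommRing S] [Algebra R S] (N : Type u) [AddCommGroup N] [Module S N]
    (p : Ideal R) [hp : p.IsPrime] : Set (PrimeSpectrum S) :=
  PrimeSpectrum.comap (algebraMap R S) ⁻¹' {⟨p, hp⟩} ∩ Module.support S N

/-- The support of the fibre module is the trace of the support. -/
theorem exists_homeo_support {R S : Type u} [CommRing R] [CommRing S] [Algebra R S] (N : Type u) [AddCommGroup N]
    [Module S N] [Module R N] [IsScalarTower R S N] [Module.Finite S N] (p : Ideal R) [p.IsPrime] :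
    ∃ e : Module.support (p.Fiber S) (FlatCA.fiberMod p S N) ≃ₜ fibreSupport N p, ∀ z,
      (e z).1 = PrimeSpectrum.comap (Algebra.TensorProduct.includeRight (R := R) (A := p.ResidueField) (B := S)).toRingHom z.1 := by
  let ι := PrimeSpectrum.comap (Algebra.TensorProduct.includeRight (R := R) (A := p.ResidueField) (B := S)).toRingHom
  let E := PrimeSpectrum.preimageHomeomorphFiber R S ⟨p, ‹_›⟩
  have hι : ∀ z, ι z = (E.symm z).1 := fun z => rfl
  have hemb : IsEmbedding ι := by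
    rw [show ι = Subtype.val ∘ E.symm from funext hι]
    exact IsEmbedding.subtypeVal.comp E.symm.isEmbedding
  have hsupp : Module.support (p.Fiber S) (FlatCA.fiberMod p S N) = ι ⁻¹' Module.support S N := by
    show Module.support (p.Fiber S) ((p.Fiber S) ⊗[S] N) = _
    rw [GrothLib.DevBC13.support_tensor]
    rfl
  have hr : Set.range (fun z : Module.support (p.Fiber S) (FlatCA.fiberMod p S N) => ι z.1) = fibreSupport N p := by
    ext y
    constructor
    · rintro ⟨z, rfl⟩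
      exact ⟨(E.symm z.1).2, hsupp.le z.2⟩
    · rintro ⟨hy1, hy2⟩
      have h1 : ι (E ⟨y, hy1⟩) = y := by rw [hι, Homeomorph.symm_apply_apply]
      exact ⟨⟨E ⟨y, hy1⟩, hsupp.ge (show ι (E ⟨y, hy1⟩) ∈ _ by rw [h1]; exact hy2)⟩, h1⟩
  exact ⟨(hemb.comp IsEmbedding.subtypeVal).toHomeomorph.trans (Homeomorph.setCongr hr), fun z => rfl⟩

/-- Local dimension of the support of the fibre module is invariant under étale neighbourhoods. -/
theorem localDim_support_etale {R S R₁ S₁ : Type u} [CommRing R] [CommRing S] [CommRing R₁] [CommRing S₁]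
    [Algebra R S] [Algebra R R₁] [Algebra R₁ S₁] [Algebra S S₁] [Algebra R S₁] [IsScalarTower R R₁ S₁]
    [IsScalarTower R S S₁] [Algebra.Etale R R₁] [Algebra.Etale S S₁]
    (N : Type u) [AddCommGroup N] [Module S N] [Module R N] [IsScalarTower R S N] [Module.Finite S N]
    (N₁ : Type u) [AddCommGroup N₁] [Module S₁ N₁] [Module R₁ N₁] [IsScalarTower R₁ S₁ N₁] [Module S N₁]
    [IsScalarTower S S₁ N₁] (f : N →ₗ[S] N₁) (hf : IsBaseChange S₁ f)
    (p : Ideal R) [p.IsPrime] (p₁ : Ideal R₁) [p₁.IsPrime] [p₁.LiesOver p]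
    (x₁ : PrimeSpectrum (p₁.Fiber S₁)) (x : PrimeSpectrum (p.Fiber S))
    (hxx : (PrimeSpectrum.comap (Algebra.TensorProduct.includeRight (R := R₁) (A := p₁.ResidueField) (B := S₁)).toRingHom x₁).asIdeal.comap
        (algebraMap S S₁) =
      (PrimeSpectrum.comap (Algebra.TensorProduct.includeRight (R := R) (A := p.ResidueField) (B := S)).toRingHom x).asIdeal)
    (hx : x ∈ Module.support (p.Fiber S) (FlatCA.fiberMod p S N)) :
    ∃ hx₁ : x₁ ∈ Module.support (p₁.Fiber S₁) (FlatCA.fiberMod p₁ S₁ N₁),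
      FlatMor.localDim (Module.support (p₁.Fiber S₁) (FlatCA.fiberMod p₁ S₁ N₁)) ⟨x₁, hx₁⟩ =
        FlatMor.localDim (Module.support (p.Fiber S) (FlatCA.fiberMod p S N)) ⟨x, hx⟩ := by
  haveI : Module.Finite S₁ N₁ := Module.Finite.equiv hf.equiv
  obtain ⟨e, he⟩ := exists_homeo_support (R := R) (S := S) N p
  obtain ⟨e₁, he₁⟩ := exists_homeo_support (R := R₁) (S := S₁) N₁ p₁
  let c : PrimeSpectrum S₁ → PrimeSpectrum S := PrimeSpectrum.comap (algebraMap S S₁)
  have hcS : ∀ z : PrimeSpectrum S₁, z ∈ Module.support S₁ N₁ ↔ c z ∈ Module.support S N := fun z => by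
    rw [← hf.equiv.support_eq, GrothLib.DevBC13.support_tensor]
    rfl
  let z₁ := PrimeSpectrum.comap (Algebra.TensorProduct.includeRight (R := R₁) (A := p₁.ResidueField) (B := S₁)).toRingHom x₁
  have hcz : c z₁ = (e ⟨x, hx⟩).1 := by
    rw [he]
    exact PrimeSpectrum.ext hxx
  have hz₁ : z₁ ∈ fibreSupport (R := R₁) (S := S₁) N₁ p₁ :=
    ⟨((PrimeSpectrum.preimageHomeomorphFiber R₁ S₁ ⟨p₁, ‹_›⟩).symm x₁).2, (hcS z₁).2 (hcz ▸ (e ⟨x, hx⟩).2.2)⟩
  have hx₁ : x₁ ∈ Module.support (p₁.Fiber S₁) (FlatCA.fiberMod p₁ S₁ N₁) := by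
    show x₁ ∈ Module.support (p₁.Fiber S₁) ((p₁.Fiber S₁) ⊗[S₁] N₁)
    rw [GrothLib.DevBC13.support_tensor]
    exact hz₁.2
  refine ⟨hx₁, ?_⟩
  -- fibres of an étale map of the base are discrete
  let p₀ : PrimeSpectrum R := ⟨p, ‹_›⟩
  let A := fibreSupport (R := R) (S := S) N p
  have hdisc : DiscreteTopology (PrimeSpectrum.comap (algebraMap R R₁) ⁻¹' {p₀} : Set (PrimeSpectrum R₁)) := by
    haveI : IsArtinianRing (p.Fiber R₁) := IsArtinianRing.of_finite p.ResidueField _
    exact (PrimeSpectrum.preimageHomeomorphFiber R R₁ p₀).symm.discreteTopology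
  have hfib : ∀ z, z ∈ c ⁻¹' A → PrimeSpectrum.comap (algebraMap R R₁) (PrimeSpectrum.comap (algebraMap R₁ S₁) z) = p₀ := by
    rintro z ⟨hz, -⟩
    rw [← PrimeSpectrum.comap_comp_apply, ← IsScalarTower.algebraMap_eq R R₁ S₁, IsScalarTower.algebraMap_eq R S S₁,
      PrimeSpectrum.comap_comp_apply]
    exact hz
  let proj : (c ⁻¹' A) → (PrimeSpectrum.comap (algebraMap R R₁) ⁻¹' {p₀} : Set (PrimeSpectrum R₁)) :=
    fun z => ⟨PrimeSpectrum.comap (algebraMap R₁ S₁) z.1, hfib z.1 z.2⟩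
  have hproj : Continuous proj := ((PrimeSpectrum.continuous_comap _).comp continuous_subtype_val).subtype_mk _
  have hp₁0 : PrimeSpectrum.comap (algebraMap R R₁) (⟨p₁, ‹_›⟩ : PrimeSpectrum R₁) = p₀ :=
    PrimeSpectrum.ext (p₁.over_def p).symm
  let U : Set (c ⁻¹' A) := proj ⁻¹' {⟨⟨p₁, ‹_›⟩, hp₁0⟩}
  have hU : IsOpen U := (isOpen_discrete _).preimage hproj
  have hU' : ∀ z : fibreSupport (R := R₁) (S := S₁) N₁ p₁, z.1 ∈ c ⁻¹' A := fun z => by
    refine ⟨?_, (hcS z.1).1 z.2.2⟩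
    show PrimeSpectrum.comap (algebraMap R S) (c z.1) = p₀
    rw [← PrimeSpectrum.comap_comp_apply, ← IsScalarTower.algebraMap_eq R S S₁, IsScalarTower.algebraMap_eq R R₁ S₁,
      PrimeSpectrum.comap_comp_apply, show PrimeSpectrum.comap (algebraMap R₁ S₁) z.1 = ⟨p₁, ‹_›⟩ from z.2.1, hp₁0]
  let ι : fibreSupport (R := R₁) (S := S₁) N₁ p₁ → (c ⁻¹' A) := fun z => ⟨z.1, hU' z⟩
  have hι : IsOpenEmbedding ι := by
    refine ⟨IsEmbedding.codRestrict IsEmbedding.subtypeVal _ hU', ?_⟩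
    rw [show Set.range ι = U by
      ext w
      constructor
      · rintro ⟨z, rfl⟩
        exact Subtype.ext z.2.1
      · intro hw
        exact ⟨⟨w.1, congrArg Subtype.val hw, (hcS w.1).2 w.2.2⟩, rfl⟩]
    exact hU
  let Φ : Module.support (p₁.Fiber S₁) (FlatCA.fiberMod p₁ S₁ N₁) → Module.support (p.Fiber S) (FlatCA.fiberMod p S N) :=
    fun w => e.symm (A.restrictPreimage c (ι (e₁ w)))
  have hc : Continuous c := PrimeSpectrum.continuous_comap _
  have hopen : IsOpenMap Φ := e.symm.isOpenMap.comp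
    (((PrimeSpectrum.isOpenMap_comap_of_hasGoingDown_of_finitePresentation (R := S) (S := S₁)).restrictPreimage A).comp
      (hι.isOpenMap.comp e₁.isOpenMap))
  have hcont : Continuous Φ := e.symm.continuous.comp ((hc.restrictPreimage).comp (hι.continuous.comp e₁.continuous))
  have hgen0 : GeneralizingMap c :=
    (Algebra.HasGoingDown.iff_generalizingMap_primeSpectrumComap (R := S) (S := S₁)).1 inferInstance
  have hgen : GeneralizingMap Φ := by
    intro w y hy
    have hy' : (e y).1 ⤳ c (e₁ w).1 := by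
      have := hy.map (continuous_subtype_val.comp e.continuous)
      simpa [Φ, ι] using this
    obtain ⟨u, hu, hcu⟩ := hgen0 hy'
    have huA : u ∈ c ⁻¹' A := by
      show c u ∈ A
      rw [hcu]
      exact (e y).2
    have hu1 : u ∈ fibreSupport (R := R₁) (S := S₁) N₁ p₁ := by
      refine ⟨?_, (hcS u).2 huA.2⟩
      have h1 : proj ⟨u, huA⟩ ⤳ proj (ι (e₁ w)) := ((subtype_specializes_iff _ _).2 hu).map hproj
      have h2 := congrArg Subtype.val h1.eq
      exact h2.trans (e₁ w).2.1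
    refine ⟨e₁.symm ⟨u, hu1⟩, ?_, ?_⟩
    · have h3 : (⟨u, hu1⟩ : fibreSupport (R := R₁) (S := S₁) N₁ p₁) ⤳ e₁ w := (subtype_specializes_iff _ _).2 hu
      simpa using h3.map e₁.symm.continuous
    · show e.symm (A.restrictPreimage c (ι (e₁ (e₁.symm ⟨u, hu1⟩)))) = y
      rw [e₁.apply_symm_apply, Homeomorph.symm_apply_eq]
      exact Subtype.ext hcu
  have hinc : ∀ a b, a ⤳ b → Φ a = Φ b → a = b := by
    intro a b hab hΦ
    have h1 : c (e₁ a).1 = c (e₁ b).1 := congrArg Subtype.val (e.symm.injective hΦ)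
    let s₀ := c (e₁ a).1
    haveI : IsArtinianRing (s₀.asIdeal.Fiber S₁) := IsArtinianRing.of_finite s₀.asIdeal.ResidueField _
    haveI : DiscreteTopology (c ⁻¹' {s₀} : Set (PrimeSpectrum S₁)) :=
      (PrimeSpectrum.preimageHomeomorphFiber S S₁ s₀).symm.discreteTopology
    have h2 : (⟨(e₁ a).1, rfl⟩ : (c ⁻¹' {s₀} : Set _)) ⤳ ⟨(e₁ b).1, h1.symm⟩ :=
      (subtype_specializes_iff _ _).2 (hab.map (continuous_subtype_val.comp e₁.continuous))
    exact e₁.injective (Subtype.ext (congrArg Subtype.val h2.eq :))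
  haveI hq : ∀ {B : Type u} [CommRing B] (M : Type u) [AddCommGroup M] [Module B M] [Module.Finite B M],
      QuasiSober (Module.support B M) := fun {B} _ M _ _ _ => by
    have hcl : IsClosed (Module.support B M) := by
      rw [Module.support_eq_zeroLocus]; exact PrimeSpectrum.isClosed_zeroLocus _
    exact hcl.isClosedEmbedding_subtypeVal.quasiSober
  haveI : Module.Finite (p.Fiber S) (FlatCA.fiberMod p S N) := inferInstanceAs (Module.Finite (p.Fiber S) ((p.Fiber S) ⊗[S] N))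
  haveI : Module.Finite (p₁.Fiber S₁) (FlatCA.fiberMod p₁ S₁ N₁) :=
    inferInstanceAs (Module.Finite (p₁.Fiber S₁) ((p₁.Fiber S₁) ⊗[S₁] N₁))
  haveI := hq (B := p.Fiber S) (FlatCA.fiberMod p S N)
  haveI := hq (B := p₁.Fiber S₁) (FlatCA.fiberMod p₁ S₁ N₁)
  have h := GrothLib.EtFibre.localDim_eq_of_isOpenMap hcont hopen hgen hinc ⟨x₁, hx₁⟩
  rw [← h]
  congr 1
  show e.symm (A.restrictPreimage c (ι (e₁ ⟨x₁, hx₁⟩))) = ⟨x, hx⟩
  rw [Homeomorph.symm_apply_eq]
  refine Subtype.ext ?_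
  show c (e₁ ⟨x₁, hx₁⟩).1 = _
  rw [he₁]
  exact hcz

end GrothLib.RG6.Dev
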