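import Mathlib
import Groth.Prelude.Def_FlatCA
import Groth.Agent.Lib.LocalDimAlg.Basic
import Groth.Agent.Lib.Dim.Ring

/-!
# A map to affine space adapted to a point of a fibre
-/

set_option autoImplicit false
set_option linter.style.haveILetI false
set_option linter.unusedSectionVars false

universe u

open TensorProduct MvPolynomial

namespace GrothLib.RG6.Dev

variable {R : Type u} [CommRing R]

/-- Every element of a residue field is algebraic over a subalgebra containing the image of the ring. -/
theorem isAlgebraic_residueField_over {C : Type u} [CommRing C] (q : Ideal C) [q.IsPrime] {k : Type u} [Field k]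
    [Algebra k q.ResidueField] (A₀ : Subalgebra k q.ResidueField) (h : ∀ c, algebraMap C q.ResidueField c ∈ A₀) :
    Algebra.IsAlgebraic A₀ q.ResidueField := by
  refine ⟨fun z => ?_⟩
  obtain ⟨a, b, hb, rfl⟩ := IsFractionRing.div_surjective (C ⧸ q) z
  obtain ⟨a, rfl⟩ := Ideal.Quotient.mk_surjective a
  obtain ⟨b, rfl⟩ := Ideal.Quotient.mk_surjective b
  have hmem : ∀ c, algebraMap (C ⧸ q) q.ResidueField (Ideal.Quotient.mk q c) ∈ A₀ := fun c => h c
  have ha := isAlgebraic_algebraMap (R := A₀) (A := q.ResidueField) ⟨_, hmem a⟩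
  have hb' := (isAlgebraic_algebraMap (R := A₀) (A := q.ResidueField) ⟨_, hmem b⟩).inv
  have h2 := ha.mul hb'
  rwa [← div_eq_mul_inv] at h2

/-- A point of a fibre of local dimension `n` has a map to affine `n`-space, quasi-finite at it, whose image
point has purely transcendental residue field. -/
theorem exists_adapted_map {C : Type u} [CommRing C] [Algebra R C] [Algebra.FiniteType R C]
    (p : Ideal R) [p.IsPrime] (q : Ideal C) [q.IsPrime] [hqp : q.LiesOver p] (n : ℕ)
    (Q : PrimeSpectrum (p.Fiber C))
    (hQ : Q.asIdeal.comap (Algebra.TensorProduct.includeRight (R := R) (A := p.ResidueField)) = q)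
    (hdim : FlatMor.localDim (PrimeSpectrum (p.Fiber C)) Q = n) :
    ∃ φ : MvPolynomial (Fin n) R →ₐ[R] C,
      (letI := φ.toRingHom.toAlgebra; Algebra.QuasiFiniteAt (MvPolynomial (Fin n) R) q) ∧
      ∀ _ : (q.comap φ.toRingHom).LiesOver p, FlatCA.PurelyTranscendental p (q.comap φ.toRingHom) := by
  classical
  let K := p.Fiber C
  let k := p.ResidueField
  letI : Algebra k q.ResidueField :=
    (Ideal.ResidueField.mapₐ p q (Algebra.ofId R C) hqp.over).toRingHom.toAlgebra
  haveI : IsScalarTower R k q.ResidueField := IsScalarTower.of_algebraMap_eq fun r =>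
    ((Ideal.ResidueField.mapₐ p q (Algebra.ofId R C) hqp.over).commutes r).symm
  let ρ : K →ₐ[k] q.ResidueField :=
    Algebra.TensorProduct.lift (Algebra.ofId k q.ResidueField) (IsScalarTower.toAlgHom R C q.ResidueField)
      fun _ _ => Commute.all _ _
  have hρ1 : ∀ c : C, ρ ((1 : k) ⊗ₜ[R] c) = algebraMap C q.ResidueField c := fun c => by
    show Algebra.TensorProduct.lift _ _ _ ((1 : k) ⊗ₜ[R] c) = _
    rw [Algebra.TensorProduct.lift_tmul, map_one, one_mul]
    rfl
  -- the kernel of `ρ` is the point of the fibre
  have hQeq : Q.asIdeal = RingHom.ker ρ.toRingHom := by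
    let p₀ : PrimeSpectrum R := ⟨p, ‹_›⟩
    let q₀ : (PrimeSpectrum.comap (algebraMap R C)) ⁻¹' {p₀} := ⟨⟨q, ‹_›⟩, PrimeSpectrum.ext hqp.over.symm⟩
    have h1 : (PrimeSpectrum.preimageEquivFiber R C p₀).symm Q = q₀ := Subtype.ext (PrimeSpectrum.ext hQ)
    rw [Equiv.symm_apply_eq] at h1
    rw [h1]
    rfl
  haveI hQp : Q.asIdeal.IsPrime := Q.2
  -- dimension
  haveI : IsNoetherianRing K := Algebra.FiniteType.isNoetherianRing k K
  obtain ⟨r, hr, hr'⟩ := GrothLib.Dim.exists_nat_trdeg_eq_and_ringKrullDim_eq k (K ⧸ Q.asIdeal)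
  obtain ⟨s, hsmin, hscard⟩ := Q.asIdeal.exists_finset_card_eq_height_of_isNoetherianRing
  have hn : n = s.card + r := by
    have h1 := GrothLib.LocalDimAlg.localDim_eq k (S := K) Q.asIdeal
    rw [hr', ← hscard] at h1
    have h2 := hdim.symm.trans h1
    exact_mod_cast h2
  -- generators and a transcendence basis among them
  obtain ⟨gens, hgens⟩ := Algebra.FiniteType.out (R := R) (A := C)
  let A₀ : Subalgebra k q.ResidueField := Algebra.adjoin k ((gens.image (algebraMap C q.ResidueField) : Finset _) : Set q.ResidueField)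
  haveI : Algebra.IsAlgebraic A₀ q.ResidueField := by
    refine isAlgebraic_residueField_over q A₀ fun c => ?_
    have hc : c ∈ Algebra.adjoin R (gens : Set C) := hgens ▸ Algebra.mem_top
    induction hc using Algebra.adjoin_induction with
    | mem x hx => exact Algebra.subset_adjoin (Finset.mem_image_of_mem _ hx)
    | algebraMap r =>
      rw [← IsScalarTower.algebraMap_apply R C q.ResidueField, IsScalarTower.algebraMap_apply R k q.ResidueField]
      exact A₀.algebraMap_mem _
    | add x y _ _ hx hy => rw [map_add]; exact A₀.add_mem hx hy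
    | mul x y _ _ hx hy => rw [map_mul]; exact A₀.mul_mem hx hy
  obtain ⟨t, ht, htb⟩ := exists_isTranscendenceBasis_subset (R := k)
    ((gens.image (algebraMap C q.ResidueField) : Finset _) : Set q.ResidueField)
  haveI : Finite t := ((gens.image (algebraMap C q.ResidueField)).finite_toSet.subset ht).to_subtype
  have hlift : ∀ x : t, ∃ c : C, algebraMap C q.ResidueField c = x := fun x => by
    obtain ⟨c, -, hc⟩ := Finset.mem_image.1 (ht x.2)
    exact ⟨c, hc⟩
  choose a ha using hlift
  let ρ' : K ⧸ Q.asIdeal →ₐ[k] q.ResidueField :=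
    Ideal.Quotient.liftₐ Q.asIdeal ρ fun x hx => by rwa [hQeq] at hx
  have hρ' : Function.Injective ρ' :=
    RingHom.lift_injective_of_ker_le_ideal Q.asIdeal (f := ρ.toRingHom) _ hQeq.ge
  have hcard : Nat.card t = r := by
    have h1 : Cardinal.mk t = Algebra.trdeg k q.ResidueField := htb.cardinalMk_eq_trdeg
    have hind : AlgebraicIndependent k fun x : t => Ideal.Quotient.mk Q.asIdeal ((1 : k) ⊗ₜ[R] a x) := by
      refine AlgebraicIndependent.of_comp ρ' ?_
      convert htb.1 using 1
      funext x
      exact (hρ1 (a x)).trans (ha x)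
    have h2 := hind.cardinalMk_le_trdeg
    have h3 := trdeg_le_of_injective (R := k) (A := K ⧸ Q.asIdeal) (A' := q.ResidueField) ρ' hρ'
    have h4 : Cardinal.mk t = (r : Cardinal) := le_antisymm (hr ▸ h2) (h1 ▸ hr ▸ h3)
    rw [Nat.card, h4, Cardinal.toNat_natCast]
  -- parameters
  have hb : ∀ x ∈ s, ∃ c : C, ∃ w : R, w ∉ p ∧ w • x = (1 : k) ⊗ₜ[R] c := fun x _ => by
    obtain ⟨w, hw, c, hc⟩ := Ideal.Fiber.exists_smul_eq_one_tmul p x
    exact ⟨c, w, hw, hc⟩
  choose! b w hw hwb using hb
  have hbq : ∀ x ∈ s, b x ∈ q := fun x hx => by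
    rw [← hQ, Ideal.mem_comap]
    show (1 : k) ⊗ₜ[R] b x ∈ Q.asIdeal
    rw [← hwb x hx, Algebra.smul_def]
    exact Q.asIdeal.mul_mem_left _ (hsmin.1.2 (Ideal.subset_span hx))
  haveI := Fintype.ofFinite t
  obtain ⟨e⟩ : Nonempty (Fin n ≃ t ⊕ s) := by
    refine ⟨(Fintype.equivFinOfCardEq ?_).symm⟩
    rw [Fintype.card_sum, Fintype.card_coe, ← Nat.card_eq_fintype_card, hcard, hn, add_comm]
  let f : Fin n → C := fun i => Sum.elim a (fun x : s => b x) (e i)
  let φ : MvPolynomial (Fin n) R →ₐ[R] C := aeval f
  refine ⟨φ, ?_, fun hy0 => ?_⟩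
  swap
  · -- the image point
    let y0 := q.comap φ.toRingHom
    haveI := hy0
    letI : Algebra k y0.ResidueField :=
      (Ideal.ResidueField.mapₐ p y0 (Algebra.ofId R (MvPolynomial (Fin n) R)) hy0.over).toRingHom.toAlgebra
    haveI : IsScalarTower R k y0.ResidueField := IsScalarTower.of_algebraMap_eq fun r =>
      ((Ideal.ResidueField.mapₐ p y0 (Algebra.ofId R (MvPolynomial (Fin n) R)) hy0.over).commutes r).symm
    let ω₀ := Ideal.ResidueField.mapₐ y0 q φ rfl
    have hω : (ω₀.toRingHom).comp (algebraMap k y0.ResidueField) = algebraMap k q.ResidueField := by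
      refine Ideal.ResidueField.ringHom_ext (RingHom.ext fun r => ?_)
      show ω₀ (algebraMap k y0.ResidueField (algebraMap R k r)) = algebraMap k q.ResidueField (algebraMap R k r)
      rw [← IsScalarTower.algebraMap_apply, ← IsScalarTower.algebraMap_apply, ω₀.commutes]
    let ω : y0.ResidueField →ₐ[k] q.ResidueField := { ω₀.toRingHom with commutes' := RingHom.congr_fun hω }
    let x : t → y0.ResidueField := fun i => algebraMap (MvPolynomial (Fin n) R) y0.ResidueField (X (e.symm (Sum.inl i)))
    have hωx : ∀ i, ω (x i) = (i : q.ResidueField) := fun i => by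
      show Ideal.ResidueField.map y0 q φ.toRingHom rfl (algebraMap _ _ (X (e.symm (Sum.inl i)))) = _
      rw [Ideal.ResidueField.map_algebraMap]
      show algebraMap C q.ResidueField (aeval f (X (e.symm (Sum.inl i)))) = _
      rw [aeval_X]
      simp only [f, Equiv.apply_symm_apply, Sum.elim_inl]
      exact ha i
    have hind : AlgebraicIndependent k x := by
      refine AlgebraicIndependent.of_comp ω ?_
      convert htb.1 using 1
      funext i
      exact hωx i
    have hP : ∀ g, algebraMap (MvPolynomial (Fin n) R) y0.ResidueField g ∈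
        IntermediateField.adjoin k (Set.range x) := by
      intro g
      induction g using MvPolynomial.induction_on with
      | C r =>
        rw [show algebraMap (MvPolynomial (Fin n) R) y0.ResidueField (MvPolynomial.C r) =
          algebraMap R y0.ResidueField r from rfl, IsScalarTower.algebraMap_apply R k y0.ResidueField]
        exact IntermediateField.algebraMap_mem _ _
      | add a b ha hb => rw [map_add]; exact add_mem ha hb
      | mul_X g i hg =>
        rw [map_mul]
        refine mul_mem hg ?_
        rcases h : e i with j | j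
        · exact IntermediateField.subset_adjoin _ _ ⟨j, by simp only [x]; rw [← h, e.symm_apply_apply]⟩
        · have : (X i : MvPolynomial (Fin n) R) ∈ y0 := by
            show aeval f (X i) ∈ q
            rw [aeval_X]
            simp only [f, h, Sum.elim_inr]
            exact hbq _ j.2
          rw [Ideal.algebraMap_residueField_eq_zero.2 this]
          exact zero_mem _
    have htop : IntermediateField.adjoin k (Set.range x) = ⊤ := by
      refine eq_top_iff.2 fun z _ => ?_
      obtain ⟨u, v, -, rfl⟩ := IsFractionRing.div_surjective (MvPolynomial (Fin n) R ⧸ y0) z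
      obtain ⟨u, rfl⟩ := Ideal.Quotient.mk_surjective u
      obtain ⟨v, rfl⟩ := Ideal.Quotient.mk_surjective v
      exact div_mem (hP u) (hP v)
    refine ⟨t, x, ?_, htop⟩
    rw [hind.isTranscendenceBasis_iff_isAlgebraic]
    refine ⟨fun z => ?_⟩
    have hz : z ∈ IntermediateField.adjoin k (Set.range x) := htop ▸ IntermediateField.mem_top
    obtain ⟨u, hu, v, hv, rfl⟩ := IntermediateField.mem_adjoin_iff_div.1 hz
    have h1 := isAlgebraic_algebraMap (R := Algebra.adjoin k (Set.range x)) (A := y0.ResidueField) ⟨u, hu⟩
    have h2 := (isAlgebraic_algebraMap (R := Algebra.adjoin k (Set.range x)) (A := y0.ResidueField) ⟨v, hv⟩).inv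
    exact div_eq_mul_inv u v ▸ h1.mul h2
  · -- quasi-finiteness
    letI := φ.toRingHom.toAlgebra
    haveI : IsScalarTower R (MvPolynomial (Fin n) R) C := IsScalarTower.of_algebraMap_eq fun r => (φ.commutes r).symm
    haveI : Algebra.FiniteType (MvPolynomial (Fin n) R) C := Algebra.FiniteType.of_restrictScalars_finiteType R _ C
    let y0 : PrimeSpectrum (MvPolynomial (Fin n) R) := PrimeSpectrum.comap (algebraMap _ C) ⟨q, ‹_›⟩
    refine Algebra.QuasiFiniteAt.of_isOpen_singleton_fiber ⟨q, ‹_›⟩ ?_
    let E := PrimeSpectrum.preimageHomeomorphFiber (MvPolynomial (Fin n) R) C y0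
    haveI : IsNoetherianRing (y0.asIdeal.Fiber C) := Algebra.FiniteType.isNoetherianRing y0.asIdeal.ResidueField _
    haveI : IsJacobsonRing (y0.asIdeal.Fiber C) := isJacobsonRing_of_finiteType (A := y0.asIdeal.ResidueField)
    -- the point is comparable with no other point of its fibre
    have hcomp : ∀ Q' : PrimeSpectrum C, PrimeSpectrum.comap (algebraMap (MvPolynomial (Fin n) R) C) Q' = y0 →
        (Q'.asIdeal ≤ q → Q'.asIdeal = q) ∧ (q ≤ Q'.asIdeal → Q'.asIdeal = q) := by
      intro Q' hQ'
      have hy : Q'.asIdeal.comap φ.toRingHom = q.comap φ.toRingHom := congrArg PrimeSpectrum.asIdeal hQ'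
      refine ⟨fun hle => ?_, fun hge => ?_⟩
      · haveI : Q'.asIdeal.LiesOver p := ⟨by
          ext z
          have := (SetLike.ext_iff.1 hy (MvPolynomial.C z))
          simp only [Ideal.mem_comap, AlgHom.toRingHom_eq_coe, RingHom.coe_coe, φ, algHom_C] at this
          exact (SetLike.ext_iff.1 hqp.over z).trans this.symm⟩
        let e₀ := PrimeSpectrum.primesOverOrderIsoFiber R C p
        let Q₁ := e₀ ⟨Q'.asIdeal, inferInstance, inferInstance⟩
        have hQ₁ : Q₁.asIdeal.comap (Algebra.TensorProduct.includeRight (R := R) (A := p.ResidueField)) = Q'.asIdeal := by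
          have h0 := PrimeSpectrum.coe_primesOverOrderIsoFiber_symm_apply p Q₁
          rw [OrderIso.symm_apply_apply] at h0
          exact h0.symm
        have hQ₁le : Q₁ ≤ Q := by
          have : Q = e₀ ⟨q, inferInstance, inferInstance⟩ := by
            rw [← e₀.symm_apply_eq]
            exact Subtype.ext ((PrimeSpectrum.coe_primesOverOrderIsoFiber_symm_apply p Q).trans hQ)
          rw [this, e₀.le_iff_le]
          exact hle
        have hspan : Ideal.span (s : Set K) ≤ Q₁.asIdeal := by
          rw [Ideal.span_le]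
          intro z hz
          have hbz : b z ∈ Q'.asIdeal := by
            have h0 : (X (e.symm (Sum.inr ⟨z, hz⟩)) : MvPolynomial (Fin n) R) ∈ q.comap φ.toRingHom := by
              show aeval f (X (e.symm (Sum.inr ⟨z, hz⟩))) ∈ q
              rw [aeval_X]
              simp only [f, Equiv.apply_symm_apply, Sum.elim_inr]
              exact hbq z hz
            rw [← hy] at h0
            have h1 : aeval f (X (e.symm (Sum.inr ⟨z, hz⟩))) ∈ Q'.asIdeal := h0
            rw [aeval_X] at h1
            simpa only [f, Equiv.apply_symm_apply, Sum.elim_inr] using h1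
          have h2 : (1 : k) ⊗ₜ[R] b z ∈ Q₁.asIdeal := by
            rw [← hQ₁] at hbz
            exact hbz
          rw [← hwb z hz, Algebra.smul_def] at h2
          refine (Q₁.2.mem_or_mem h2).resolve_left fun hu => Q₁.2.ne_top (Ideal.eq_top_of_isUnit_mem _ hu ?_)
          rw [IsScalarTower.algebraMap_apply R k K]
          exact (isUnit_iff_ne_zero.2 (Ideal.algebraMap_residueField_eq_zero.not.2 (hw z hz))).map _
        have : Q₁.asIdeal = Q.asIdeal := le_antisymm hQ₁le (hsmin.2 ⟨Q₁.2, hspan⟩ hQ₁le)
        rw [← hQ₁, this, hQ]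
      · by_contra hne
        obtain ⟨c, hcQ, hcq⟩ := SetLike.not_le_iff_exists.1 fun h => hne (le_antisymm h hge)
        -- the residue field of `q` is algebraic over that of `y0`
        haveI : y0.asIdeal.LiesOver p := ⟨by
          ext z
          show z ∈ p ↔ φ (MvPolynomial.C z) ∈ q
          simp only [φ, algHom_C]
          exact SetLike.ext_iff.1 hqp.over z⟩
        let ω₀ := Ideal.ResidueField.mapₐ y0.asIdeal q φ rfl
        letI : Algebra k y0.asIdeal.ResidueField :=
          (Ideal.ResidueField.mapₐ p y0.asIdeal (Algebra.ofId R (MvPolynomial (Fin n) R)) Ideal.LiesOver.over).toRingHom.toAlgebra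
        letI : Algebra y0.asIdeal.ResidueField q.ResidueField := ω₀.toRingHom.toAlgebra
        haveI : IsScalarTower R k y0.asIdeal.ResidueField := IsScalarTower.of_algebraMap_eq fun r =>
          ((Ideal.ResidueField.mapₐ p y0.asIdeal (Algebra.ofId R (MvPolynomial (Fin n) R)) Ideal.LiesOver.over).commutes r).symm
        let x : t → y0.asIdeal.ResidueField := fun i => algebraMap (MvPolynomial (Fin n) R) _ (X (e.symm (Sum.inl i)))
        let g : Algebra.adjoin k (Set.range ((↑) : t → q.ResidueField)) →+* y0.asIdeal.ResidueField :=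
          (aeval x).toRingHom.comp htb.1.aevalEquiv.symm.toRingHom
        have hωk : (algebraMap y0.asIdeal.ResidueField q.ResidueField).comp (algebraMap k _) = algebraMap k q.ResidueField := by
          refine Ideal.ResidueField.ringHom_ext (RingHom.ext fun r => ?_)
          show ω₀ (algebraMap k y0.asIdeal.ResidueField (algebraMap R k r)) = algebraMap k q.ResidueField (algebraMap R k r)
          rw [← IsScalarTower.algebraMap_apply, ← IsScalarTower.algebraMap_apply, ω₀.commutes]
        have hg : (algebraMap y0.asIdeal.ResidueField q.ResidueField).comp g =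
            (RingHom.id q.ResidueField).comp (algebraMap (Algebra.adjoin k (Set.range ((↑) : t → q.ResidueField))) q.ResidueField) := by
          ext z
          obtain ⟨m, rfl⟩ := htb.1.aevalEquiv.surjective z
          show algebraMap y0.asIdeal.ResidueField q.ResidueField (aeval x (htb.1.aevalEquiv.symm (htb.1.aevalEquiv m))) = _
          rw [AlgEquiv.symm_apply_apply]
          show _ = algebraMap (Algebra.adjoin k (Set.range ((↑) : t → q.ResidueField))) q.ResidueField (htb.1.aevalEquiv m)
          rw [AlgebraicIndependent.algebraMap_aevalEquiv]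
          induction m using MvPolynomial.induction_on with
          | C r => rw [algHom_C, algHom_C, ← RingHom.comp_apply, hωk]
          | add a b ha hb => rw [map_add, map_add, map_add, ha, hb]
          | mul_X m i hm =>
            rw [map_mul, map_mul, map_mul, hm, aeval_X, aeval_X]
            congr 1
            show Ideal.ResidueField.map y0.asIdeal q φ.toRingHom rfl
              (algebraMap (MvPolynomial (Fin n) R) y0.asIdeal.ResidueField (X (e.symm (Sum.inl i)))) = _
            erw [Ideal.ResidueField.map_algebraMap]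
            show algebraMap C q.ResidueField (aeval f (X (e.symm (Sum.inl i)))) = _
            rw [aeval_X]
            simp only [f, Equiv.apply_symm_apply, Sum.elim_inl]
            exact ha i
        have hginj : Function.Injective g := fun z₁ z₂ h => by
          have := congrArg (algebraMap y0.asIdeal.ResidueField q.ResidueField) h
          rw [← RingHom.comp_apply, ← RingHom.comp_apply, hg] at this
          exact Subtype.ext this
        haveI := htb.isAlgebraic
        haveI : Algebra.IsAlgebraic y0.asIdeal.ResidueField q.ResidueField :=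
          ⟨fun z => (Algebra.IsAlgebraic.isAlgebraic (R := Algebra.adjoin k (Set.range ((↑) : t → q.ResidueField))) z).ringHom_of_comp_eq g (RingHom.id q.ResidueField) hginj hg⟩
        haveI : IsScalarTower (MvPolynomial (Fin n) R) y0.asIdeal.ResidueField q.ResidueField :=
          IsScalarTower.of_algebraMap_eq fun m => by
            show algebraMap (MvPolynomial (Fin n) R) q.ResidueField m = Ideal.ResidueField.map _ q φ.toRingHom rfl (algebraMap _ _ m)
            rw [Ideal.ResidueField.map_algebraMap]
            rfl
        letI : Algebra (MvPolynomial (Fin n) R ⧸ y0.asIdeal) q.ResidueField :=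
          ((algebraMap y0.asIdeal.ResidueField q.ResidueField).comp (algebraMap _ y0.asIdeal.ResidueField)).toAlgebra
        haveI : IsScalarTower (MvPolynomial (Fin n) R ⧸ y0.asIdeal) y0.asIdeal.ResidueField q.ResidueField :=
          IsScalarTower.of_algebraMap_eq fun m => rfl
        haveI : IsScalarTower (MvPolynomial (Fin n) R) (MvPolynomial (Fin n) R ⧸ y0.asIdeal) q.ResidueField :=
          IsScalarTower.of_algebraMap_eq (S := MvPolynomial (Fin n) R ⧸ y0.asIdeal) fun m => by
            show algebraMap (MvPolynomial (Fin n) R) q.ResidueField m = algebraMap y0.asIdeal.ResidueField q.ResidueField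
              (algebraMap (MvPolynomial (Fin n) R ⧸ y0.asIdeal) y0.asIdeal.ResidueField (Ideal.Quotient.mk y0.asIdeal m))
            rw [Ideal.algebraMap_quotient_residueField_mk, ← IsScalarTower.algebraMap_apply]
        haveI : Algebra.IsAlgebraic (MvPolynomial (Fin n) R ⧸ y0.asIdeal) q.ResidueField :=
          ⟨fun z => (IsFractionRing.isAlgebraic_iff (MvPolynomial (Fin n) R ⧸ y0.asIdeal) y0.asIdeal.ResidueField q.ResidueField (x := z)).2
            (Algebra.IsAlgebraic.isAlgebraic (R := y0.asIdeal.ResidueField) z)⟩
        have hc0 : algebraMap C q.ResidueField c ≠ 0 := fun h => hcq (Ideal.algebraMap_residueField_eq_zero.1 h)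
        obtain ⟨m₀, hm₀, hdvd⟩ := (Algebra.IsAlgebraic.isAlgebraic (R := MvPolynomial (Fin n) R ⧸ y0.asIdeal)
          (algebraMap C q.ResidueField c)).exists_nonzero_coeff_and_aeval_eq_zero (mem_nonZeroDivisors_of_ne_zero hc0)
        obtain ⟨P', rfl⟩ : ∃ P' : Polynomial (MvPolynomial (Fin n) R), P'.map (Ideal.Quotient.mk y0.asIdeal) = m₀ :=
          Polynomial.map_surjective _ Ideal.Quotient.mk_surjective m₀
        have hP' : Polynomial.aeval c P' ∈ q := by
          rw [← Ideal.algebraMap_residueField_eq_zero, ← Polynomial.aeval_algebraMap_apply]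
          rw [show (Ideal.Quotient.mk y0.asIdeal) = algebraMap (MvPolynomial (Fin n) R) (MvPolynomial (Fin n) R ⧸ y0.asIdeal) from rfl,
            Polynomial.aeval_map_algebraMap] at hdvd
          exact hdvd
        have h0 : algebraMap (MvPolynomial (Fin n) R) C (P'.coeff 0) ∈ Q'.asIdeal := by
          have h1 := map_dvd (Polynomial.aeval c) (Polynomial.X_dvd_sub_C (p := P'))
          rw [Polynomial.aeval_X, map_sub, Polynomial.aeval_C] at h1
          have h2 : Polynomial.aeval c P' - algebraMap _ C (P'.coeff 0) ∈ Q'.asIdeal := Ideal.mem_of_dvd _ h1 hcQ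
          simpa using sub_mem (hge hP') h2
        have h1 : P'.coeff 0 ∈ y0.asIdeal := (SetLike.ext_iff.1 hy _).1 h0
        apply hm₀
        rw [Polynomial.coeff_map]
        exact Ideal.Quotient.eq_zero_iff_mem.2 h1
    rw [← E.isOpen_image, Set.image_singleton]
    refine ((PrimeSpectrum.isOpen_singleton_tfae_of_isNoetherian_of_isJacobsonRing _).out 0 2 rfl rfl).2 ⟨?_, ?_⟩
    · rw [PrimeSpectrum.isClosed_singleton_iff_isMaximal, ← PrimeSpectrum.isMax_iff]
      intro Z hZ
      let o := PrimeSpectrum.preimageOrderIsoFiber (MvPolynomial (Fin n) R) C y0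
      obtain ⟨Q', rfl⟩ := o.surjective Z
      have hZ' := o.le_iff_le.1 hZ
      have : Q'.1.asIdeal = q := (hcomp Q'.1 Q'.2).2 hZ'
      exact o.le_iff_le.2 (show Q'.1.asIdeal ≤ q from this.le)
    · intro x' z hz hx
      rw [Set.mem_singleton_iff] at hx ⊢
      subst hx
      let o := PrimeSpectrum.preimageOrderIsoFiber (MvPolynomial (Fin n) R) C y0
      have hle := (PrimeSpectrum.le_iff_specializes _ _).2 hz
      obtain ⟨Q', rfl⟩ := o.surjective z
      have hle' := o.le_iff_le.1 hle
      exact congrArg o (Subtype.ext (PrimeSpectrum.ext ((hcomp Q'.1 Q'.2).1 hle')))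

end GrothLib.RG6.Dev
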