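import Mathlib
import Groth.Prelude.Def_FlatCA
import Groth.Agent.Lib.RG6.Geom.Base

/-!
# Base change of a split quotient along an étale neighbourhood
-/

set_option autoImplicit false
set_option linter.style.haveILetI false
set_option linter.unusedSectionVars false

universe u

open TensorProduct

namespace GrothLib.RG6.Dev

/-- An étale neighbourhood of `S` on which a quotient is finite over an étale neighbourhood of the base, with a
single point over the marked point. -/
theorem exists_split_nhd {P D0 D' S : Type u} [CommRing P] [CommRing D0] [CommRing D'] [CommRing S]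
    [Algebra P D0] [Algebra D0 D'] [Algebra P D'] [IsScalarTower P D0 D'] [Algebra P S] [Algebra.Etale P D0]
    (J : Ideal S) (y0 : Ideal P) [y0.IsPrime] (y : Ideal D0) [y.IsPrime] [y.LiesOver y0]
    (hy : Function.Bijective (Ideal.ResidueField.mapₐ y0 y (Algebra.ofId P D0) (y.over_def y0)))
    (y' : Ideal D') [y'.IsPrime] (hy' : FlatCA.IsEtaleNhd D0 D' y y')
    (q : Ideal S) [q.IsPrime] [q.LiesOver y0] (hJq : J ≤ q)
    (e : D0 ⊗[P] (S ⧸ J)) (Q : Ideal (D0 ⊗[P] (S ⧸ J))) [Q.IsPrime] [Q.LiesOver y]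
    (hQq : Q.comap (Algebra.TensorProduct.includeRight (R := P) (A := D0) (B := S ⧸ J)).toRingHom =
      q.map (Ideal.Quotient.mk J))
    (heQ : e ∉ Q) [Module.Finite D0 (Localization.Away e)]
    (huniq : ∀ Q' : Ideal (D0 ⊗[P] (S ⧸ J)), Q'.IsPrime → Q'.LiesOver y → e ∉ Q' → Q' = Q) :
    ∃ (S' : Type u) (_ : CommRing S') (_ : Algebra S S') (_ : Algebra D' S')
      (_ : ∀ x : P, algebraMap S S' (algebraMap P S x) = algebraMap D' S' (algebraMap P D' x))
      (q' : Ideal S') (_ : q'.IsPrime) (_ : q'.LiesOver y'),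
      FlatCA.IsEtaleNhd S S' q q' ∧ J.map (algebraMap S S') ≤ q' ∧
      Module.Finite D' (S' ⧸ J.map (algebraMap S S')) ∧
      ∀ z : Ideal (S' ⧸ J.map (algebraMap S S')), z.IsPrime → z.LiesOver y' →
        z = q'.map (Ideal.Quotient.mk (J.map (algebraMap S S'))) := by
  obtain ⟨hetD, hy'y, hbij'⟩ := hy'
  haveI := hetD
  haveI : y'.LiesOver y0 := Ideal.LiesOver.trans y' y y0
  haveI : Algebra.Etale P D' := Algebra.Etale.comp P D0 D'
  -- the residue extension of `y'` over `y0` is trivial
  let m₀ := Ideal.ResidueField.mapₐ y0 y (Algebra.ofId P D0) (y.over_def y0)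
  let m' := Ideal.ResidueField.mapₐ y y' (Algebra.ofId D0 D') hy'y.over
  let rb := (RingEquiv.ofBijective m₀.toRingHom hy).trans (RingEquiv.ofBijective m'.toRingHom hbij')
  let g : D' →+* y0.ResidueField := rb.symm.toRingHom.comp (algebraMap D' y'.ResidueField)
  have hg : g.comp (algebraMap P D') = algebraMap P y0.ResidueField := by
    ext a
    show rb.symm (algebraMap D' y'.ResidueField (algebraMap P D' a)) = _
    rw [RingEquiv.symm_apply_eq]
    show _ = m' (m₀ (algebraMap P y0.ResidueField a))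
    rw [AlgHom.commutes, IsScalarTower.algebraMap_apply P D0 y.ResidueField, AlgHom.commutes,
      IsScalarTower.algebraMap_apply P D0 D', ← IsScalarTower.algebraMap_apply D0 D' y'.ResidueField]
  have hgker : RingHom.ker g = y' := by
    ext b
    rw [RingHom.mem_ker]
    show rb.symm (algebraMap D' y'.ResidueField b) = 0 ↔ _
    rw [EmbeddingLike.map_eq_zero_iff]
    exact Ideal.algebraMap_residueField_eq_zero
  obtain ⟨_, hbijP⟩ := GrothLib.RG6.Geom.bijective_residue_of_hom y0 y' g hg hgker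
  -- the hom to the residue field of `q`
  let jq := Ideal.ResidueField.mapₐ y0 q (Algebra.ofId P S) (q.over_def y0)
  have hgP : ∀ a : P, (jq.toRingHom.comp g) (algebraMap P D' a) = algebraMap P q.ResidueField a := fun a => by
    show jq (g (algebraMap P D' a)) = _
    rw [← RingHom.comp_apply, hg, jq.commutes]
  let u : D' →ₐ[P] q.ResidueField := { jq.toRingHom.comp g with commutes' := hgP }
  let w : D' ⊗[P] S →ₐ[P] q.ResidueField :=
    Algebra.TensorProduct.lift u (IsScalarTower.toAlgHom P S q.ResidueField) fun _ _ => Commute.all _ _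
  let π : D0 ⊗[P] S →ₐ[P] D0 ⊗[P] (S ⧸ J) :=
    Algebra.TensorProduct.map (AlgHom.id P D0) (Ideal.Quotient.mkₐ P J)
  have hπsurj : Function.Surjective π := fun z => by
    induction z using TensorProduct.induction_on with
    | zero => exact ⟨0, map_zero _⟩
    | tmul a b =>
      obtain ⟨b, rfl⟩ := Ideal.Quotient.mk_surjective b
      exact ⟨a ⊗ₜ b, by simp [π]⟩
    | add a b ha hb =>
      obtain ⟨a', rfl⟩ := ha
      obtain ⟨b', rfl⟩ := hb
      exact ⟨a' + b', map_add _ _ _⟩
  obtain ⟨e₀, he₀⟩ := hπsurj e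
  let ι₁ : D0 ⊗[P] S →ₐ[P] D' ⊗[P] S :=
    Algebra.TensorProduct.map (IsScalarTower.toAlgHom P D0 D') (AlgHom.id P S)
  let et : D' ⊗[P] S := ι₁ e₀
  -- the same hom on the quotient
  let q₀ : S ⧸ J →ₐ[P] q.ResidueField := Ideal.Quotient.liftₐ J (IsScalarTower.toAlgHom P S q.ResidueField)
    fun a ha => Ideal.algebraMap_residueField_eq_zero.2 (hJq ha)
  let u₀ : D0 →ₐ[P] q.ResidueField := u.comp (IsScalarTower.toAlgHom P D0 D')
  let w₀ : D0 ⊗[P] (S ⧸ J) →ₐ[P] q.ResidueField := Algebra.TensorProduct.lift u₀ q₀ fun _ _ => Commute.all _ _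
  have hw₀ : w.comp ι₁ = w₀.comp π := by
    refine Algebra.TensorProduct.ext' fun a b => ?_
    simp [w, ι₁, w₀, π, u₀, q₀]
  have hw₀Q : RingHom.ker w₀.toRingHom = Q := by
    haveI : (RingHom.ker w₀.toRingHom).IsPrime := RingHom.ker_isPrime _
    haveI : (RingHom.ker w₀.toRingHom).LiesOver y := ⟨by
      ext a
      show a ∈ y ↔ w₀ (a ⊗ₜ[P] 1) = 0
      rw [show w₀ (a ⊗ₜ[P] (1 : S ⧸ J)) = u₀ a * q₀ 1 from Algebra.TensorProduct.lift_tmul _ _ _ a 1, map_one, mul_one]
      show _ ↔ jq (g (algebraMap D0 D' a)) = 0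
      rw [show jq (g (algebraMap D0 D' a)) = 0 ↔ g (algebraMap D0 D' a) = 0 from
        map_eq_zero_iff jq (RingHom.injective jq.toRingHom), ← RingHom.mem_ker, hgker]
      exact SetLike.ext_iff.1 hy'y.over a⟩
    refine Ideal.eq_of_comap_eq_comap_of_bijective_residueFieldMap hy _ Q ?_
    rw [hQq]
    ext b
    obtain ⟨b, rfl⟩ := Ideal.Quotient.mk_surjective b
    show w₀ ((1 : D0) ⊗ₜ[P] Ideal.Quotient.mk J b) = 0 ↔ _
    rw [show w₀ ((1 : D0) ⊗ₜ[P] Ideal.Quotient.mk J b) = u₀ 1 * q₀ (Ideal.Quotient.mk J b) from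
      Algebra.TensorProduct.lift_tmul _ _ _ _ _, map_one, one_mul]
    show algebraMap S q.ResidueField b = 0 ↔ _
    rw [Ideal.algebraMap_residueField_eq_zero, Ideal.mem_map_iff_of_surjective _ Ideal.Quotient.mk_surjective]
    refine ⟨fun h => ⟨b, h, rfl⟩, ?_⟩
    rintro ⟨c, hc, hcb⟩
    have := hJq (Ideal.Quotient.eq.1 hcb)
    simpa using sub_mem hc this
  have hwet : IsUnit (w.toRingHom et) := by
    refine isUnit_iff_ne_zero.2 fun h => heQ (hw₀Q.le ?_)
    show w₀ e = 0
    rw [← he₀, ← AlgHom.comp_apply, ← hw₀]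
    exact h
  let S' := Localization.Away et
  letI : Algebra S (D' ⊗[P] S) := (Algebra.TensorProduct.includeRight : S →ₐ[P] D' ⊗[P] S).toRingHom.toAlgebra
  haveI : IsScalarTower P S (D' ⊗[P] S) := IsScalarTower.of_algebraMap_eq fun a =>
    ((Algebra.TensorProduct.includeRight : S →ₐ[P] D' ⊗[P] S).commutes a).symm
  have hcompat : ∀ x : P, algebraMap S S' (algebraMap P S x) = algebraMap D' S' (algebraMap P D' x) := fun x => by
    rw [IsScalarTower.algebraMap_apply S (D' ⊗[P] S) S', IsScalarTower.algebraMap_apply D' (D' ⊗[P] S) S',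
      ← IsScalarTower.algebraMap_apply P S (D' ⊗[P] S), ← IsScalarTower.algebraMap_apply P D' (D' ⊗[P] S)]
  let w' : S' →+* q.ResidueField := IsLocalization.Away.lift et hwet
  let q' : Ideal S' := RingHom.ker w'
  haveI : q'.IsPrime := RingHom.ker_isPrime _
  have hw'D : ∀ d : D', w' (algebraMap D' S' d) = jq (g d) := fun d => by
    rw [IsScalarTower.algebraMap_apply D' (D' ⊗[P] S) S', IsLocalization.Away.lift_eq]
    show w (d ⊗ₜ[P] 1) = _
    rw [show w (d ⊗ₜ[P] (1 : S)) = u d * IsScalarTower.toAlgHom P S q.ResidueField 1 from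
      Algebra.TensorProduct.lift_tmul _ _ _ d 1, map_one, mul_one]
    rfl
  have hw'S : ∀ s : S, w' (algebraMap S S' s) = algebraMap S q.ResidueField s := fun s => by
    rw [IsScalarTower.algebraMap_apply S (D' ⊗[P] S) S', IsLocalization.Away.lift_eq]
    show w ((1 : D') ⊗ₜ[P] s) = _
    rw [show w ((1 : D') ⊗ₜ[P] s) = u 1 * IsScalarTower.toAlgHom P S q.ResidueField s from
      Algebra.TensorProduct.lift_tmul _ _ _ _ _, map_one, one_mul]
    rfl
  have hq'y' : q'.LiesOver y' := ⟨by
    ext d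
    show d ∈ y' ↔ w' (algebraMap D' S' d) = 0
    rw [hw'D, show jq (g d) = 0 ↔ g d = 0 from map_eq_zero_iff jq (RingHom.injective jq.toRingHom),
      ← RingHom.mem_ker, hgker]⟩
  have hJq' : J.map (algebraMap S S') ≤ q' := Ideal.map_le_iff_le_comap.2 fun a ha =>
    show w' (algebraMap S S' a) = 0 by rw [hw'S]; exact Ideal.algebraMap_residueField_eq_zero.2 (hJq ha)
  refine ⟨S', inferInstance, inferInstance, inferInstance, hcompat, q', inferInstance, hq'y', ?_, hJq', ?_, ?_⟩
  · haveI : Algebra.Etale S (D' ⊗[P] S) := Algebra.Etale.of_equiv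
      (show S ⊗[P] D' ≃ₐ[S] D' ⊗[P] S from AlgEquiv.ofRingEquiv (f := (Algebra.TensorProduct.comm P S D').toRingEquiv) fun _ => rfl)
    haveI : Algebra.Etale (D' ⊗[P] S) S' := Algebra.Etale.of_isLocalizationAway et
    exact ⟨Algebra.Etale.comp S (D' ⊗[P] S) S',
      GrothLib.RG6.Geom.bijective_residue_of_hom q q' w' (RingHom.ext hw'S) rfl⟩
  all_goals
    let J' := J.map (algebraMap S S')
    let C := S' ⧸ J'
    haveI : IsScalarTower D0 D' C := inferInstance
    haveI : IsScalarTower P D0 C := inferInstance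
    haveI : IsScalarTower P D' C := inferInstance
    let cS : S →ₐ[P] C := { (Ideal.Quotient.mk J').comp (algebraMap S S') with
      commutes' := fun a => (congrArg (Ideal.Quotient.mk J') (hcompat a)).trans (IsScalarTower.algebraMap_apply P D' C a).symm }
    have hcS : ∀ a ∈ J, cS a = 0 := fun a ha => Ideal.Quotient.eq_zero_iff_mem.2 (Ideal.mem_map_of_mem _ ha)
    let cC : S ⧸ J →ₐ[P] C := Ideal.Quotient.liftₐ J cS hcS
    let φ₀ : D0 ⊗[P] (S ⧸ J) →ₐ[D0] C :=
      Algebra.TensorProduct.lift (Algebra.ofId D0 C) cC fun _ _ => Commute.all _ _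
    let q1 : D' ⊗[P] S →+* C := (Ideal.Quotient.mk J').comp (algebraMap (D' ⊗[P] S) S')
    have hq1 : ∀ (d : D') (s : S), q1 (d ⊗ₜ[P] s) = algebraMap D' C d * cS s := fun d s => by
      rw [show d ⊗ₜ[P] s = (d ⊗ₜ[P] (1 : S)) * ((1 : D') ⊗ₜ[P] s) by
        rw [Algebra.TensorProduct.tmul_mul_tmul, mul_one, one_mul], map_mul]
      rfl
    have hφe : φ₀ e = q1 et := by
      have : (φ₀.toRingHom).comp π.toRingHom = q1.comp ι₁.toRingHom := by
        refine Algebra.TensorProduct.ringHom_ext (RingHom.ext fun d => ?_) (RingHom.ext fun s => ?_)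
        · show φ₀ (π (d ⊗ₜ[P] 1)) = q1 (ι₁ (d ⊗ₜ[P] 1))
          rw [Algebra.TensorProduct.map_tmul, Algebra.TensorProduct.map_tmul, hq1]
          simp [φ₀]
          rfl
        · show φ₀ (π ((1 : D0) ⊗ₜ[P] s)) = q1 (ι₁ ((1 : D0) ⊗ₜ[P] s))
          rw [Algebra.TensorProduct.map_tmul, Algebra.TensorProduct.map_tmul, hq1]
          simp [φ₀]
          rfl
      rw [← he₀]
      exact RingHom.congr_fun this e₀
    have hu : IsUnit (φ₀.toRingHom e) := by
      show IsUnit (φ₀ e)
      rw [hφe]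
      exact (IsLocalization.Away.algebraMap_isUnit (S := S') et).map (Ideal.Quotient.mk J')
  · have hcomm : ∀ a : D0, (IsLocalization.Away.lift (S := Localization.Away e) e hu)
        (algebraMap D0 (Localization.Away e) a) = algebraMap D0 C a := fun a => by
      rw [IsScalarTower.algebraMap_apply D0 (D0 ⊗[P] (S ⧸ J)) (Localization.Away e), IsLocalization.Away.lift_eq]
      exact φ₀.commutes a
    let φ : Localization.Away e →ₐ[D0] C := { IsLocalization.Away.lift (S := Localization.Away e) e hu with commutes' := hcomm }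
    let χ : D' ⊗[D0] Localization.Away e →ₐ[D'] C :=
      Algebra.TensorProduct.lift (Algebra.ofId D' C) φ fun _ _ => Commute.all _ _
    refine Module.Finite.of_surjective χ.toLinearMap fun c => ?_
    have hr1 : ∀ z : D' ⊗[P] S, q1 z ∈ χ.range := fun z => by
      induction z using TensorProduct.induction_on with
      | zero => rw [map_zero]; exact zero_mem _
      | tmul d s =>
        rw [hq1]
        refine mul_mem (χ.range.algebraMap_mem d) ⟨1 ⊗ₜ algebraMap _ (Localization.Away e) ((1 : D0) ⊗ₜ[P] Ideal.Quotient.mk J s), ?_⟩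
        show χ (1 ⊗ₜ algebraMap _ (Localization.Away e) ((1 : D0) ⊗ₜ[P] Ideal.Quotient.mk J s)) = _
        rw [Algebra.TensorProduct.lift_tmul, map_one, one_mul]
        show IsLocalization.Away.lift (S := Localization.Away e) e hu _ = _
        rw [IsLocalization.Away.lift_eq]
        show φ₀ _ = _
        rw [Algebra.TensorProduct.lift_tmul, map_one, one_mul]
        rfl
      | add a b ha hb => rw [map_add]; exact add_mem ha hb
    obtain ⟨s', rfl⟩ := Ideal.Quotient.mk_surjective c
    obtain ⟨⟨z, ⟨_, k, rfl⟩⟩, hz⟩ := IsLocalization.surj (Submonoid.powers et) s'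
    have hinv : χ (1 ⊗ₜ (IsLocalization.Away.invSelf e : Localization.Away e)) * q1 et = 1 := by
      rw [Algebra.TensorProduct.lift_tmul, map_one, one_mul, ← hφe]
      show IsLocalization.Away.lift (S := Localization.Away e) e hu _ * φ₀.toRingHom e = 1
      rw [← IsLocalization.Away.lift_eq (S := Localization.Away e) e hu e, ← map_mul, mul_comm, IsLocalization.Away.mul_invSelf (S := Localization.Away e), map_one]
    have hc : Ideal.Quotient.mk J' s' = q1 z * χ (1 ⊗ₜ (IsLocalization.Away.invSelf e : Localization.Away e)) ^ k := by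
      have h1 : Ideal.Quotient.mk J' s' * q1 et ^ k = q1 z := by
        rw [← map_pow]
        show Ideal.Quotient.mk J' s' * Ideal.Quotient.mk J' (algebraMap _ S' (et ^ k)) = _
        rw [← map_mul, hz]
        rfl
      rw [← h1, mul_assoc, ← mul_pow, mul_comm (q1 et), hinv, one_pow, mul_one]
    have hi : χ (1 ⊗ₜ (IsLocalization.Away.invSelf e : Localization.Away e)) ∈ χ.range := ⟨_, rfl⟩
    have hmem : Ideal.Quotient.mk J' s' ∈ χ.range := hc ▸ mul_mem (hr1 z) (pow_mem hi k)
    exact hmem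
  · intro z hzp hzy
    let Q₁ := z.comap φ₀.toRingHom
    haveI : Q₁.IsPrime := Ideal.IsPrime.comap φ₀.toRingHom
    have hQ₁y : Q₁.LiesOver y := ⟨by
      rw [Ideal.under, Ideal.comap_comap, show φ₀.toRingHom.comp (algebraMap D0 _) = algebraMap D0 C from
        RingHom.ext φ₀.commutes, IsScalarTower.algebraMap_eq D0 D' C, ← Ideal.comap_comap]
      show y = (z.under D').comap (algebraMap D0 D')
      rw [← hzy.over]
      exact hy'y.over⟩
    have hQ₁ : Q₁ = Q := huniq Q₁ inferInstance hQ₁y fun h => hzp.ne_top (Ideal.eq_top_of_isUnit_mem _ h hu)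
    have hzS : z.comap cS.toRingHom = q := by
      ext s
      have h1 : cS s = φ₀ ((1 : D0) ⊗ₜ[P] Ideal.Quotient.mk J s) := by
        rw [Algebra.TensorProduct.lift_tmul, map_one, one_mul]
        rfl
      show cS s ∈ z ↔ s ∈ q
      rw [h1]
      show (1 : D0) ⊗ₜ[P] Ideal.Quotient.mk J s ∈ Q₁ ↔ _
      rw [hQ₁]
      have h2 := SetLike.ext_iff.1 hQq (Ideal.Quotient.mk J s)
      rw [Ideal.mem_map_iff_of_surjective _ Ideal.Quotient.mk_surjective] at h2
      refine h2.trans ⟨?_, fun h => ⟨s, h, rfl⟩⟩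
      rintro ⟨c, hc, hcs⟩
      have := hJq (Ideal.Quotient.eq.1 hcs)
      simpa using sub_mem hc this
    let z₁ := (z.comap (Ideal.Quotient.mk J')).comap (algebraMap (D' ⊗[P] S) S')
    let z₂ := q'.comap (algebraMap (D' ⊗[P] S) S')
    haveI : z₁.IsPrime := Ideal.IsPrime.comap _
    haveI : z₂.IsPrime := Ideal.IsPrime.comap _
    haveI : z₁.LiesOver y' := ⟨by
      rw [hzy.over]
      ext d
      rfl⟩
    haveI : z₂.LiesOver y' := ⟨by
      rw [hq'y'.over]
      ext d
      rfl⟩
    have h12 : z₁ = z₂ := Ideal.eq_of_comap_eq_comap_of_bijective_residueFieldMap hbijP z₁ z₂ (by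
      refine Eq.trans (show _ = z.comap cS.toRingHom from rfl) (hzS.trans ?_)
      ext s
      show s ∈ q ↔ w' (algebraMap S S' s) = 0
      rw [hw'S]
      exact Ideal.algebraMap_residueField_eq_zero.symm)
    have h3 : z.comap (Ideal.Quotient.mk J') = q' := by
      rw [← IsLocalization.map_under (Submonoid.powers et) S' (z.comap (Ideal.Quotient.mk J')),
        ← IsLocalization.map_under (Submonoid.powers et) S' q']
      exact congrArg (Ideal.map _) h12
    rw [← h3, Ideal.map_comap_of_surjective _ Ideal.Quotient.mk_surjective]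

end GrothLib.RG6.Dev
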