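import Mathlib
import Groth.Prelude.Def_FlatCA
import Groth.Agent.Lib.DevBC13.Dim

/-!
# A finitely presented closed subscheme carrying a module, exact on a fibre
-/

set_option autoImplicit false
set_option linter.style.haveILetI false
set_option linter.unusedSectionVars false

universe u

open TensorProduct Topology

attribute [local instance] Algebra.TensorProduct.rightAlgebra

namespace GrothLib.RG6.Dev

/-- Local dimension is a topological invariant. -/
theorem localDim_homeo {A B : Type u} [TopologicalSpace A] [TopologicalSpace B] (e : A ≃ₜ B) (a : A) :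
    FlatMor.localDim B (e a) = FlatMor.localDim A a := by
  have key : ∀ U : Set A, topologicalKrullDim ↥(e '' U) = topologicalKrullDim ↥U := fun U =>
    ((e.image U).isHomeomorph.topologicalKrullDim_eq _).symm
  refine le_antisymm (le_iInf fun U => ?_) (le_iInf fun V => ?_)
  · exact (iInf_le _ ⟨⟨e '' (U.1 : Set A), e.isOpenMap _ U.1.2⟩, a, U.2, rfl⟩).trans (key _).le
  · refine (iInf_le _ ⟨⟨e ⁻¹' (V.1 : Set B), V.1.2.preimage e.continuous⟩, V.2⟩).trans ?_
    refine ((key (e ⁻¹' (V.1 : Set B))).ge).trans ?_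
    rw [Set.image_preimage_eq _ e.surjective]

variable {R S : Type u} [CommRing R] [CommRing S] [Algebra R S] [Algebra.FiniteType R S]
  (N : Type u) [AddCommGroup N] [Module S N] [Module R N] [IsScalarTower R S N] [Module.Finite S N]

/-- A finitely generated ideal killing the module with the same extension to the fibre ring as the annihilator. -/
theorem exists_fg_annihilator (p : Ideal R) [p.IsPrime] :
    ∃ J : Ideal S, J.FG ∧ J ≤ Module.annihilator S N ∧
      FlatCA.fiberIdeal p (Module.annihilator S N) = FlatCA.fiberIdeal p J := by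
  classical
  let ι : S →+* p.Fiber S := (Algebra.TensorProduct.includeRight (R := R) (A := p.ResidueField) (B := S)).toRingHom
  haveI : IsNoetherianRing (p.Fiber S) := Algebra.FiniteType.isNoetherianRing p.ResidueField _
  have hfg : (Ideal.span (ι '' (Module.annihilator S N : Set S))).FG := IsNoetherian.noetherian _
  obtain ⟨s, hs, hspan⟩ := (Submodule.fg_span_iff_fg_span_finset_subset _).1 hfg
  have : ∀ z : (s : Set (p.Fiber S)), ∃ a ∈ Module.annihilator S N, ι a = z := fun z => hs z.2
  choose f hf hfz using this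
  refine ⟨Ideal.span (Set.range f), Submodule.fg_span (Set.finite_range f),
    Ideal.span_le.2 (Set.range_subset_iff.2 hf), ?_⟩
  show Ideal.map ι (Module.annihilator S N) = Ideal.map ι _
  rw [Ideal.map_span, ← Set.range_comp, show (ι ∘ f) = Subtype.val from funext hfz, Subtype.range_coe]
  exact hspan

/-- The point of the closed subscheme in the fibre, and its local dimension. -/
theorem exists_point (p : Ideal R) [p.IsPrime] (q : Ideal S) [q.IsPrime] [hqp : q.LiesOver p] (J : Ideal S)
    (hJN : J ≤ Module.annihilator S N) (hJ : FlatCA.fiberIdeal p (Module.annihilator S N) = FlatCA.fiberIdeal p J)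
    (x : PrimeSpectrum (p.Fiber S)) (hxq : x.asIdeal = FlatCA.fiberIdeal p q)
    (hx : x ∈ Module.support (p.Fiber S) (FlatCA.fiberMod p S N)) :
    J ≤ q ∧ ∃ X : PrimeSpectrum (p.Fiber (S ⧸ J)),
      X.asIdeal.comap (Algebra.TensorProduct.includeRight (R := R) (A := p.ResidueField)) = q.map (Ideal.Quotient.mk J) ∧
      FlatMor.localDim (PrimeSpectrum (p.Fiber (S ⧸ J))) X =
        FlatMor.localDim (Module.support (p.Fiber S) (FlatCA.fiberMod p S N)) ⟨x, hx⟩ := by
  let ι : S →+* p.Fiber S := (Algebra.TensorProduct.includeRight (R := R) (A := p.ResidueField) (B := S)).toRingHom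
  let π := Ideal.Quotient.mkₐ R J
  have hπ : Function.Surjective π := Ideal.Quotient.mkₐ_surjective R _
  let ψ := Algebra.TensorProduct.map (AlgHom.id R p.ResidueField) π
  have hψ : Function.Surjective ψ.toRingHom := fun z => by
    induction z using TensorProduct.induction_on with
    | zero => exact ⟨0, map_zero _⟩
    | tmul a b =>
      obtain ⟨b, rfl⟩ := hπ b
      exact ⟨a ⊗ₜ b, by simp [ψ]⟩
    | add a b ha hb =>
      obtain ⟨a', rfl⟩ := ha
      obtain ⟨b', rfl⟩ := hb
      exact ⟨a' + b', map_add _ _ _⟩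
  have hker : RingHom.ker ψ.toRingHom = FlatCA.fiberIdeal p J := by
    show RingHom.ker ψ = _
    rw [Algebra.TensorProduct.lTensor_ker _ hπ, show RingHom.ker π = J from Ideal.Quotient.mkₐ_ker R _]
    rfl
  have hsupp : Module.support (p.Fiber S) (FlatCA.fiberMod p S N) = Set.range (PrimeSpectrum.comap ψ.toRingHom) := by
    rw [range_comap_of_surjective (f := ψ.toRingHom) (hf := hψ), hker, ← hJ]
    show Module.support (p.Fiber S) ((p.Fiber S) ⊗[S] N) = _
    rw [GrothLib.DevBC13.support_tensor, Module.support_eq_zeroLocus, PrimeSpectrum.preimage_comap_zeroLocus,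
      ← PrimeSpectrum.zeroLocus_span]
    rfl
  -- the contraction of `x` is `q`
  have hxcomap : x.asIdeal.comap ι = q := by
    refine le_antisymm ?_ fun a ha => by
      show ι a ∈ x.asIdeal
      rw [hxq]; exact Ideal.mem_map_of_mem _ ha
    let p₀ : PrimeSpectrum R := ⟨p, ‹_›⟩
    let q₀ : (PrimeSpectrum.comap (algebraMap R S)) ⁻¹' {p₀} := ⟨⟨q, ‹_›⟩, PrimeSpectrum.ext hqp.over.symm⟩
    let Q := PrimeSpectrum.preimageEquivFiber R S p₀ q₀
    have hQ : Q.asIdeal.comap ι = q :=
      congrArg (fun z => z.1.asIdeal) ((PrimeSpectrum.preimageEquivFiber R S p₀).symm_apply_apply q₀)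
    refine (Ideal.comap_mono ?_).trans hQ.le
    rw [hxq]
    exact Ideal.map_le_iff_le_comap.2 hQ.ge
  have hJq : J ≤ q := fun a ha => by
    rw [← hxcomap]
    show ι a ∈ x.asIdeal
    obtain ⟨X, rfl⟩ := hsupp.le hx
    show ψ.toRingHom (ι a) ∈ X.asIdeal
    have : ψ.toRingHom (ι a) = 0 := RingHom.mem_ker.1 (hker.ge (Ideal.mem_map_of_mem _ ha))
    rw [this]
    exact zero_mem _
  refine ⟨hJq, ?_⟩
  have hemb : IsEmbedding (PrimeSpectrum.comap ψ.toRingHom) :=
    (PrimeSpectrum.isClosedEmbedding_comap_of_surjective _ _ hψ).isEmbedding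
  let h : PrimeSpectrum (p.Fiber (S ⧸ J)) ≃ₜ Module.support (p.Fiber S) (FlatCA.fiberMod p S N) :=
    hemb.toHomeomorph.trans (Homeomorph.setCongr hsupp.symm)
  refine ⟨h.symm ⟨x, hx⟩, ?_, ?_⟩
  · have h1 : PrimeSpectrum.comap ψ.toRingHom (h.symm ⟨x, hx⟩) = x :=
      congrArg Subtype.val (h.apply_symm_apply ⟨x, hx⟩)
    ext b
    obtain ⟨b, rfl⟩ := Ideal.Quotient.mk_surjective b
    have h2 : b ∈ q ↔ ψ.toRingHom (ι b) ∈ (h.symm ⟨x, hx⟩).asIdeal := by
      conv_lhs => rw [← hxcomap]
      exact (SetLike.ext_iff.1 (congrArg PrimeSpectrum.asIdeal h1) (ι b)).symm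
    show (1 : p.ResidueField) ⊗ₜ[R] Ideal.Quotient.mk J b ∈ (h.symm ⟨x, hx⟩).asIdeal ↔ _
    rw [Ideal.mem_map_iff_of_surjective _ Ideal.Quotient.mk_surjective]
    refine Iff.trans ?_ (h2.symm.trans ⟨fun h => ⟨b, h, rfl⟩, ?_⟩)
    · rw [show ψ.toRingHom (ι b) = (1 : p.ResidueField) ⊗ₜ[R] Ideal.Quotient.mk J b from rfl]
    · rintro ⟨c, hc, hcb⟩
      simpa using sub_mem hc (hJq (Ideal.Quotient.eq.1 hcb))
  · rw [← localDim_homeo h (h.symm ⟨x, hx⟩), h.apply_symm_apply]

end GrothLib.RG6.Dev
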