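import Mathlib
import Groth.Prelude.Def_FlatCA
import Groth.Agent.Lib.RG6.Dev.Adapted
import Groth.Agent.Lib.RG6.Dev.Subscheme
import Groth.Agent.Lib.RG6.Dev.Core
import Groth.Agent.Lib.RG6.Geom.Nhd
import Groth.Agent.Lib.Grass26.Smooth

/-!
# Existence of elementary dévissages
-/

set_option autoImplicit false
set_option linter.style.haveILetI false
set_option linter.unusedSectionVars false

universe u

open TensorProduct AlgebraicGeometry CategoryTheory

namespace GrothLib.RG6.Dev

/-- Pure transcendence along isomorphisms. -/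
theorem pureTrans_field {k L k' L' : Type u} [Field k] [Field L] [Field k'] [Field L'] [Algebra k L] [Algebra k' L']
    (a : k →+* k') (ha : Function.Surjective a) (b : L →+* L') (hb : Function.Surjective b)
    (hab : ∀ c, b (algebraMap k L c) = algebraMap k' L' (a c)) {ι : Type u} {x : ι → L}
    (hx : IsTranscendenceBasis k x) (htop : IntermediateField.adjoin k (Set.range x) = ⊤) :
    IsTranscendenceBasis k' (b ∘ x) ∧ IntermediateField.adjoin k' (Set.range (b ∘ x)) = ⊤ := by
  letI : Algebra k k' := a.toAlgebra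
  letI : Algebra k L' := ((algebraMap k' L').comp a).toAlgebra
  haveI : IsScalarTower k k' L' := IsScalarTower.of_algebraMap_eq fun _ => rfl
  let e : L ≃ₐ[k] L' := AlgEquiv.ofBijective ({ b with commutes' := hab } : L →ₐ[k] L') ⟨b.injective, hb⟩
  haveI : Algebra.IsAlgebraic k k' := ⟨fun z => by
    obtain ⟨c, rfl⟩ := ha z
    exact isAlgebraic_algebraMap c⟩
  refine ⟨(Algebra.IsAlgebraic.isTranscendenceBasis_iff k k').1 (e.isTranscendenceBasis hx), eq_top_iff.2 fun z _ => ?_⟩
  obtain ⟨z, rfl⟩ := hb z
  have h1 : z ∈ IntermediateField.adjoin k (Set.range x) := htop ▸ IntermediateField.mem_top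
  induction h1 using IntermediateField.adjoin_induction with
  | mem w hw =>
    obtain ⟨i, rfl⟩ := hw
    exact IntermediateField.subset_adjoin _ _ ⟨i, rfl⟩
  | algebraMap c => rw [hab]; exact IntermediateField.algebraMap_mem _ _
  | add u v _ _ hu hv => rw [map_add]; exact add_mem (hu IntermediateField.mem_top) (hv IntermediateField.mem_top)
  | inv u _ hu => rw [map_inv₀]; exact inv_mem (hu IntermediateField.mem_top)
  | mul u v _ _ hu hv => rw [map_mul]; exact mul_mem (hu IntermediateField.mem_top) (hv IntermediateField.mem_top)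

/-- Pure transcendence of a residue extension passes to neighbourhoods with trivial residue extensions. -/
theorem purelyTranscendental_map {R S R' S' : Type u} [CommRing R] [CommRing S] [CommRing R'] [CommRing S']
    [Algebra R S] [Algebra R R'] [Algebra R' S'] [Algebra R S'] [Algebra S S'] [IsScalarTower R R' S']
    [IsScalarTower R S S'] (p : Ideal R) (q : Ideal S) (p' : Ideal R') (q' : Ideal S')
    [p.IsPrime] [q.IsPrime] [p'.IsPrime] [q'.IsPrime] [hqp : q.LiesOver p] [hqp' : q'.LiesOver p']
    (hp : p'.LiesOver p) (hq : q'.LiesOver q)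
    (hpb : Function.Bijective (Ideal.ResidueField.mapₐ p p' (Algebra.ofId R R') hp.over))
    (hqb : Function.Bijective (Ideal.ResidueField.mapₐ q q' (Algebra.ofId S S') hq.over))
    (h : FlatCA.PurelyTranscendental p q) : FlatCA.PurelyTranscendental p' q' := by
  letI : Algebra p.ResidueField q.ResidueField := (Ideal.ResidueField.mapₐ p q (Algebra.ofId R S) hqp.over).toRingHom.toAlgebra
  letI : Algebra p'.ResidueField q'.ResidueField :=
    (Ideal.ResidueField.mapₐ p' q' (Algebra.ofId R' S') hqp'.over).toRingHom.toAlgebra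
  obtain ⟨ι, x, hx, htop⟩ := h
  let a := Ideal.ResidueField.mapₐ p p' (Algebra.ofId R R') hp.over
  let b := Ideal.ResidueField.mapₐ q q' (Algebra.ofId S S') hq.over
  refine ⟨ι, _, pureTrans_field a.toRingHom hpb.2 b.toRingHom hqb.2 ?_ hx htop⟩
  refine RingHom.congr_fun (f := b.toRingHom.comp (algebraMap p.ResidueField q.ResidueField))
    (g := (algebraMap p'.ResidueField q'.ResidueField).comp a.toRingHom) (Ideal.ResidueField.ringHom_ext (RingHom.ext fun r => ?_))
  show b (Ideal.ResidueField.mapₐ p q (Algebra.ofId R S) hqp.over (algebraMap R p.ResidueField r)) =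
    Ideal.ResidueField.mapₐ p' q' (Algebra.ofId R' S') hqp'.over (a (algebraMap R p.ResidueField r))
  rw [AlgHom.commutes, AlgHom.commutes, IsScalarTower.algebraMap_apply R S q.ResidueField, AlgHom.commutes,
    IsScalarTower.algebraMap_apply R R' p'.ResidueField, AlgHom.commutes,
    IsScalarTower.algebraMap_apply S S' q'.ResidueField, IsScalarTower.algebraMap_apply R' S' q'.ResidueField,
    ← IsScalarTower.algebraMap_apply R S S', ← IsScalarTower.algebraMap_apply R R' S']

/-- Affine space is smooth of relative dimension `n`. -/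
theorem smoothRelDim_mvPolynomial (R : Type u) [CommRing R] (n : ℕ) :
    FlatCA.SmoothRelDim n R (MvPolynomial (Fin n) R) := by
  show SmoothOfRelativeDimension n _
  rw [HasRingHomProperty.Spec_iff (P := @SmoothOfRelativeDimension n)]
  refine RingHom.locally_of RingHom.isStandardSmoothOfRelativeDimension_respectsIso _ ?_
  exact (RingHom.isStandardSmoothOfRelativeDimension_algebraMap n).2 (GrothLib.Grass26.mvPolynomial_standardSmooth R n)

/-- An algebra étale over one smooth of relative dimension `n` is smooth of relative dimension `n`. -/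
theorem smoothRelDim_of_etale {R P D : Type u} [CommRing R] [CommRing P] [CommRing D] [Algebra R P] [Algebra P D]
    [Algebra R D] [IsScalarTower R P D] [Algebra.Etale P D] (n : ℕ) (h : FlatCA.SmoothRelDim n R P) :
    FlatCA.SmoothRelDim n R D := by
  haveI := h
  haveI : AlgebraicGeometry.Etale (Spec.map (CommRingCat.ofHom (algebraMap P D))) := by
    rw [HasRingHomProperty.Spec_iff (P := @AlgebraicGeometry.Etale)]
    exact RingHom.etale_algebraMap.mpr inferInstance
  have h0 := smoothOfRelativeDimension_comp 0 n (Spec.map (CommRingCat.ofHom (algebraMap P D)))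
    (Spec.map (CommRingCat.ofHom (algebraMap R P)))
  rw [zero_add, ← Spec.map_comp, ← CommRingCat.ofHom_comp, ← IsScalarTower.algebraMap_eq] at h0
  exact h0

/-- Existence of elementary dévissages. -/
theorem nonempty_elemDevissage {R S : Type u} [CommRing R] [CommRing S] [Algebra R S] [Algebra.FiniteType R S]
    (N : Type u) [AddCommGroup N] [Module S N] [Module R N] [IsScalarTower R S N] [Module.Finite S N]
    (p : Ideal R) [p.IsPrime] (q : Ideal S) [q.IsPrime] [hqp : q.LiesOver p] (n : ℕ)
    (x : PrimeSpectrum (p.Fiber S)) (hxq : x.asIdeal = FlatCA.fiberIdeal p q)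
    (hx : x ∈ Module.support (p.Fiber S) (FlatCA.fiberMod p S N))
    (hn : FlatMor.localDim (Module.support (p.Fiber S) (FlatCA.fiberMod p S N)) ⟨x, hx⟩ = n) :
    Nonempty (FlatCA.ElemDevissage R S N p q n) := by
  classical
  obtain ⟨J, hJfg, hJN, hJ⟩ := exists_fg_annihilator (R := R) (S := S) N p
  obtain ⟨hJq, X, hX, hXdim⟩ := exists_point N p q J hJN hJ x hxq hx
  let C₀ := S ⧸ J
  let q₀ : Ideal C₀ := q.map (Ideal.Quotient.mk J)
  haveI : q₀.IsPrime := Ideal.map_isPrime_of_surjective Ideal.Quotient.mk_surjective (by rwa [Ideal.mk_ker])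
  have hq₀S : q₀.comap (Ideal.Quotient.mk J) = q := by
    rw [Ideal.comap_map_of_surjective _ Ideal.Quotient.mk_surjective, ← RingHom.ker_eq_comap_bot, Ideal.mk_ker,
      sup_eq_left.2 hJq]
  haveI : q₀.LiesOver p := ⟨by
    rw [hqp.over]
    show q.comap (algebraMap R S) = q₀.comap ((Ideal.Quotient.mk J).comp (algebraMap R S))
    rw [← Ideal.comap_comap, hq₀S]⟩
  haveI : Algebra.FiniteType R C₀ :=
    Algebra.FiniteType.of_surjective (Ideal.Quotient.mkₐ R J) (Ideal.Quotient.mkₐ_surjective R J)
  obtain ⟨φ, hqf, hpt⟩ := exists_adapted_map p q₀ n X hX (hXdim.trans hn)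
  -- lift to `S`
  have hlift : ∀ i, ∃ s : S, Ideal.Quotient.mk J s = φ (MvPolynomial.X i) := fun i => Ideal.Quotient.mk_surjective _
  choose sX hsX using hlift
  let ψ : MvPolynomial (Fin n) R →ₐ[R] S := MvPolynomial.aeval sX
  have hψφ : (Ideal.Quotient.mkₐ R J).comp ψ = φ := MvPolynomial.algHom_ext fun i => by
    simp [ψ, hsX]
  let P := MvPolynomial (Fin n) R
  letI : Algebra P S := ψ.toRingHom.toAlgebra
  haveI : IsScalarTower R P S := IsScalarTower.of_algebraMap_eq fun r => (ψ.commutes r).symm
  have hPC : algebraMap P C₀ = φ.toRingHom := by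
    rw [← hψφ]; rfl
  haveI : Algebra.FiniteType P C₀ := Algebra.FiniteType.of_restrictScalars_finiteType R P C₀
  let y0 : Ideal P := q₀.comap (algebraMap P C₀)
  haveI : y0.IsPrime := Ideal.IsPrime.comap _
  haveI : q₀.LiesOver y0 := ⟨rfl⟩
  haveI : Algebra.QuasiFiniteAt P q₀ := by
    have h := hqf
    convert h using 1
    exact Algebra.algebra_ext _ _ (RingHom.congr_fun hPC)
  haveI hy0p : y0.LiesOver p := Ideal.LiesOver.tower_bot q₀ y0 p
  haveI hqy0 : q.LiesOver y0 := ⟨by
    show q₀.comap ((Ideal.Quotient.mk J).comp (algebraMap P S)) = q.comap (algebraMap P S)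
    rw [← Ideal.comap_comap, hq₀S]⟩
  have hy0 : FlatCA.PurelyTranscendental p y0 := by
    have hEq : q₀.comap φ.toRingHom = y0 := by rw [← hPC]
    have h1 : (q₀.comap φ.toRingHom).LiesOver p := ⟨by rw [hEq]; exact hy0p.over⟩
    have key : ∀ (I : Ideal P) (_ : I.IsPrime), I = y0 → ∀ h : I.LiesOver p,
        FlatCA.PurelyTranscendental p I → FlatCA.PurelyTranscendental p y0 := by
      intro I _ h
      subst h
      exact fun _ h => h
    exact key _ (Ideal.IsPrime.comap _) hEq h1 (hpt h1)
  -- the étale splitting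
  obtain ⟨D0, _, _, _, y, _, _, e, he, Q, _, _, hQq, heQ, hyb, hfin, huniq⟩ :=
    Algebra.exists_etale_isIdempotentElem_forall_liesOver_eq y0 q₀
  letI : Algebra R D0 := ((algebraMap P D0).comp (algebraMap R P)).toAlgebra
  haveI : IsScalarTower R P D0 := IsScalarTower.of_algebraMap_eq fun _ => rfl
  haveI hyp : y.LiesOver p := Ideal.LiesOver.trans y y0 p
  have hsm0 : FlatCA.SmoothRelDim n R D0 := smoothRelDim_of_etale (P := P) n (smoothRelDim_mvPolynomial R n)
  have hyp0 : p.LiesOver p := ⟨(Ideal.comap_id p).symm⟩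
  have hid : Function.Bijective (Ideal.ResidueField.mapₐ p p (Algebra.ofId R R) hyp0.over) := by
    refine ⟨RingHom.injective (Ideal.ResidueField.mapₐ p p (Algebra.ofId R R) hyp0.over).toRingHom, fun z => ⟨z, ?_⟩⟩
    refine RingHom.congr_fun (f := (Ideal.ResidueField.mapₐ p p (Algebra.ofId R R) hyp0.over).toRingHom)
      (g := RingHom.id _) (Ideal.ResidueField.ringHom_ext (RingHom.ext fun r => ?_)) z
    exact (Ideal.ResidueField.mapₐ p p (Algebra.ofId R R) hyp0.over).commutes r
  have hy : FlatCA.PurelyTranscendental p y := purelyTranscendental_map p y0 p y hyp0 inferInstance hid hyb hy0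
  obtain ⟨R', D', _, _, _, _, _, _, _, _, p', y', _, _, hy'p', hR', hD', hsm, hint, -⟩ :=
    GrothLib.RG6.Geom.exists_geom_nhd n hsm0 p y hy
  letI : Algebra P D' := ((algebraMap D0 D').comp (algebraMap P D0)).toAlgebra
  haveI : IsScalarTower P D0 D' := IsScalarTower.of_algebraMap_eq fun _ => rfl
  obtain ⟨S', _, _, _, hcompat, q', _, hq'y', hS', hJq', hfinC, hzuniq⟩ :=
    exists_split_nhd J y0 y hyb y' hD' q hJq e Q hQq heQ huniq
  letI : Algebra R' S' := ((algebraMap D' S').comp (algebraMap R' D')).toAlgebra
  haveI : IsScalarTower R' D' S' := IsScalarTower.of_algebraMap_eq fun _ => rfl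
  letI : Algebra R S' := ((algebraMap R' S').comp (algebraMap R R')).toAlgebra
  haveI : IsScalarTower R R' S' := IsScalarTower.of_algebraMap_eq fun _ => rfl
  haveI : IsScalarTower R S S' := IsScalarTower.of_algebraMap_eq fun r => by
    rw [IsScalarTower.algebraMap_apply R P S, hcompat]
    show algebraMap D' S' (algebraMap R' D' (algebraMap R R' r)) = algebraMap D' S' (algebraMap D0 D' (algebraMap R D0 r))
    rw [← IsScalarTower.algebraMap_apply R R' D', ← IsScalarTower.algebraMap_apply R D0 D']
  haveI hq'p' : q'.LiesOver p' := Ideal.LiesOver.trans q' y' p'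
  let J' := J.map (algebraMap S S')
  let C := S' ⧸ J'
  let N' := S' ⊗[S] N
  have htor : Module.IsTorsionBySet S' N' (J' : Set S') := by
    rw [Module.isTorsionBySet_iff_subset_annihilator]
    refine Ideal.map_le_iff_le_comap.2 fun a ha => ?_
    show algebraMap S S' a ∈ Module.annihilator S' N'
    rw [Module.mem_annihilator]
    intro m
    induction m using TensorProduct.induction_on with
    | zero => exact smul_zero _
    | tmul s m =>
      rw [algebraMap_smul, ← TensorProduct.tmul_smul, Module.mem_annihilator.1 (hJN ha) m, TensorProduct.tmul_zero]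
    | add u v hu hv => rw [smul_add, hu, hv, add_zero]
  letI : Module C N' := htor.module
  haveI : IsScalarTower S' C N' := htor.isScalarTower
  haveI : IsScalarTower D' C N' := IsScalarTower.of_algebraMap_smul fun d m => by
    show Ideal.Quotient.mk J' (algebraMap D' S' d) • m = d • m
    rw [show Ideal.Quotient.mk J' (algebraMap D' S' d) = algebraMap S' C (algebraMap D' S' d) from rfl,
      algebraMap_smul, algebraMap_smul]
  haveI : IsScalarTower R' C N' := IsScalarTower.of_algebraMap_smul fun r m => by
    show Ideal.Quotient.mk J' (algebraMap R' S' r) • m = r • m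
    rw [show Ideal.Quotient.mk J' (algebraMap R' S' r) = algebraMap S' C (algebraMap R' S' r) from rfl,
      algebraMap_smul, algebraMap_smul]
  haveI : IsScalarTower R' D' N' := IsScalarTower.of_algebraMap_smul fun r m => by
    rw [← algebraMap_smul S' (algebraMap R' D' r) m, ← IsScalarTower.algebraMap_apply R' D' S', algebraMap_smul]
  let z : Ideal C := q'.map (Ideal.Quotient.mk J')
  haveI : z.IsPrime := Ideal.map_isPrime_of_surjective Ideal.Quotient.mk_surjective (by rwa [Ideal.mk_ker])
  have hzq' : z.comap (Ideal.Quotient.mk J') = q' := by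
    rw [Ideal.comap_map_of_surjective _ Ideal.Quotient.mk_surjective, ← RingHom.ker_eq_comap_bot, Ideal.mk_ker,
      sup_eq_left.2 hJq']
  haveI hzq : z.LiesOver q' := ⟨hzq'.symm⟩
  haveI hzy : z.LiesOver y' := Ideal.LiesOver.trans z q' y'
  obtain ⟨_, hp'over, hpb⟩ := id hR'
  obtain ⟨_, hy'over, hy'b⟩ := id hD'
  exact ⟨{
    R' := R', S' := S', C := C, D := D', N' := N', G := N'
    p' := p', q' := q', z := z, y := y'
    etaleR := hR'
    etaleS := hS'
    f := TensorProduct.mk S S' N 1
    isBaseChange := TensorProduct.isBaseChange S N S'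
    surjC := Ideal.Quotient.mk_surjective
    fpC := Algebra.FinitePresentation.quotient (hJfg.map _)
    iso := LinearEquiv.refl S' N'
    finiteDC := hfinC
    finiteG := Module.Finite.of_restrictScalars_finite S' C N'
    uniq := fun z₁ _ hz₁ => hzuniq z₁ inferInstance hz₁
    pureTrans := purelyTranscendental_map p y p' y' hp'over hy'over hpb hy'b hy
    smooth := hsm
    geomInt := hint }⟩

end GrothLib.RG6.Dev
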