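import Mathlib
import Groth.Prelude.Def_FlatCA
import Groth.Agent.Lib.RG6.Dev.Elem
import Groth.Agent.Lib.RG6.Geom.Nhd

/-!
# Plumbing for towers of étale neighbourhoods
-/

set_option autoImplicit false
set_option linter.style.haveILetI false
set_option linter.unusedSectionVars false

universe u

open TensorProduct

attribute [local instance] Algebra.TensorProduct.rightAlgebra

namespace GrothLib.RG6.Dev

/-- Étale neighbourhoods compose. -/
theorem isEtaleNhd_trans {A B C : Type u} [CommRing A] [CommRing B] [CommRing C] [Algebra A B] [Algebra B C]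
    [Algebra A C] [IsScalarTower A B C] {p : Ideal A} [p.IsPrime] {q : Ideal B} [q.IsPrime] {r : Ideal C} [r.IsPrime]
    (h₁ : FlatCA.IsEtaleNhd A B p q) (h₂ : FlatCA.IsEtaleNhd B C q r) : FlatCA.IsEtaleNhd A C p r := by
  obtain ⟨e₁, o₁, b₁⟩ := h₁
  obtain ⟨e₂, o₂, b₂⟩ := h₂
  haveI := e₁; haveI := e₂
  haveI : r.LiesOver p := Ideal.LiesOver.trans r q p
  refine ⟨Algebra.Etale.comp A B C, inferInstance, ?_⟩
  let m₁ := Ideal.ResidueField.mapₐ p q (Algebra.ofId A B) o₁.over
  let m₂ := Ideal.ResidueField.mapₐ q r (Algebra.ofId B C) o₂.over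
  let m := Ideal.ResidueField.mapₐ p r (Algebra.ofId A C) (r.over_def p)
  have h : m.toRingHom = m₂.toRingHom.comp m₁.toRingHom := by
    refine Ideal.ResidueField.ringHom_ext (RingHom.ext fun a => ?_)
    show m (algebraMap A p.ResidueField a) = m₂ (m₁ (algebraMap A p.ResidueField a))
    rw [AlgHom.commutes, AlgHom.commutes, IsScalarTower.algebraMap_apply A B q.ResidueField, AlgHom.commutes,
      ← IsScalarTower.algebraMap_apply A B r.ResidueField]
  have h' : (m : p.ResidueField → r.ResidueField) = m₂ ∘ m₁ := funext fun z => RingHom.congr_fun h z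
  exact h' ▸ b₂.comp b₁

/-- The point of a base change along a neighbourhood. -/
theorem exists_baseChange_point {A A' B : Type u} [CommRing A] [CommRing A'] [CommRing B] [Algebra A A'] [Algebra A B]
    (p : Ideal A) [p.IsPrime] (p' : Ideal A') [p'.IsPrime] (hp : p'.LiesOver p)
    (hb : Function.Bijective (Ideal.ResidueField.mapₐ p p' (Algebra.ofId A A') hp.over)) (q : Ideal B) [q.IsPrime]
    [q.LiesOver p] :
    ∃ (Q : Ideal (A' ⊗[A] B)) (_ : Q.IsPrime) (_ : Q.LiesOver p'),
      Q.comap (Algebra.TensorProduct.includeRight (R := A) (A := A') (B := B)).toRingHom = q ∧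
      (∃ h : Q.LiesOver q, Function.Bijective (Ideal.ResidueField.mapₐ q Q (Algebra.ofId B (A' ⊗[A] B)) h.over)) ∧
      ∀ Q' : Ideal (A' ⊗[A] B), Q'.IsPrime → Q'.LiesOver p' →
        Q'.comap (Algebra.TensorProduct.includeRight (R := A) (A := A') (B := B)).toRingHom = q → Q' = Q := by
  let rb := RingEquiv.ofBijective (Ideal.ResidueField.mapₐ p p' (Algebra.ofId A A') hp.over).toRingHom hb
  let g : A' →+* p.ResidueField := rb.symm.toRingHom.comp (algebraMap A' p'.ResidueField)
  have hg : ∀ a, g (algebraMap A A' a) = algebraMap A p.ResidueField a := fun a => by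
    show rb.symm (algebraMap A' p'.ResidueField (algebraMap A A' a)) = _
    rw [← IsScalarTower.algebraMap_apply, RingEquiv.symm_apply_eq]
    exact ((Ideal.ResidueField.mapₐ p p' (Algebra.ofId A A') hp.over).commutes a).symm
  let j := Ideal.ResidueField.mapₐ p q (Algebra.ofId A B) (q.over_def p)
  have hj : ∀ a, (j.toRingHom.comp g) (algebraMap A A' a) = algebraMap A q.ResidueField a := fun a => by
    show j (g (algebraMap A A' a)) = _
    rw [hg, j.commutes]
  let u : A' →ₐ[A] q.ResidueField := { j.toRingHom.comp g with commutes' := hj }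
  let w : A' ⊗[A] B →ₐ[A] q.ResidueField :=
    Algebra.TensorProduct.lift u (IsScalarTower.toAlgHom A B q.ResidueField) fun _ _ => Commute.all _ _
  have hwr : ∀ b : B, w ((1 : A') ⊗ₜ b) = algebraMap B q.ResidueField b := fun b => by
    refine (Algebra.TensorProduct.lift_tmul _ _ _ _ _).trans ?_
    rw [map_one, one_mul]
    rfl
  let Q := RingHom.ker w.toRingHom
  haveI : Q.IsPrime := RingHom.ker_isPrime _
  have hQp : Q.LiesOver p' := ⟨by
    ext a
    show a ∈ p' ↔ w (a ⊗ₜ[A] (1 : B)) = 0
    rw [show w (a ⊗ₜ[A] (1 : B)) = u a * 1 from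
      (Algebra.TensorProduct.lift_tmul _ _ _ _ _).trans (by rw [map_one]), mul_one]
    show _ ↔ j (rb.symm (algebraMap A' p'.ResidueField a)) = 0
    rw [show j (rb.symm (algebraMap A' p'.ResidueField a)) = 0 ↔ rb.symm (algebraMap A' p'.ResidueField a) = 0 from
      map_eq_zero_iff j (RingHom.injective j.toRingHom), EmbeddingLike.map_eq_zero_iff, Ideal.algebraMap_residueField_eq_zero]⟩
  have hQq : Q.comap (Algebra.TensorProduct.includeRight (R := A) (A := A') (B := B)).toRingHom = q := by
    ext b
    show w ((1 : A') ⊗ₜ b) = 0 ↔ _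
    rw [hwr]
    exact Ideal.algebraMap_residueField_eq_zero
  refine ⟨Q, inferInstance, hQp, hQq, GrothLib.RG6.Geom.bijective_residue_of_hom q Q w.toRingHom (RingHom.ext hwr) rfl, ?_⟩
  intro Q' hQ' hQ'p hQ'q
  exact Ideal.eq_of_comap_eq_comap_of_bijective_residueFieldMap hb Q' Q (hQ'q.trans hQq.symm)

/-- Relative dimension is kept by an étale algebra of the base mapping to the smooth algebra. -/
theorem smoothRelDim_of_etale_base {R R' D : Type u} [CommRing R] [CommRing R'] [CommRing D] [Algebra R R']
    [Algebra R' D] [Algebra R D] [IsScalarTower R R' D] [Algebra.Etale R R'] (n : ℕ) (h : FlatCA.SmoothRelDim n R D) :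
    FlatCA.SmoothRelDim n R' D := by
  let E := R' ⊗[R] D
  let m : E →ₐ[R'] D := Algebra.TensorProduct.lift (Algebra.ofId R' D) (AlgHom.id R D) fun _ _ => Commute.all _ _
  letI : Algebra E D := m.toRingHom.toAlgebra
  haveI : IsScalarTower R' E D := IsScalarTower.of_algebraMap_eq fun r => (m.commutes r).symm
  haveI : IsScalarTower D E D := IsScalarTower.of_algebraMap_eq fun d => by
    show d = m ((1 : R') ⊗ₜ d)
    rw [show m ((1 : R') ⊗ₜ d) = 1 * d from (Algebra.TensorProduct.lift_tmul _ _ _ _ _).trans (by rw [map_one]; rfl), one_mul]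
  haveI : Algebra.Etale D E := Algebra.Etale.of_equiv
    (show D ⊗[R] R' ≃ₐ[D] E from AlgEquiv.ofRingEquiv (f := (Algebra.TensorProduct.comm R D R').toRingEquiv) fun _ => rfl)
  haveI : Algebra.Etale E D := Algebra.Etale.of_restrictScalars D E D
  exact smoothRelDim_of_etale (R := R') (P := E) (D := D) n (GrothLib.RG6.Geom.smoothRelDim_baseChange R' D n h)

/-- Base change of a localised base change read over the bottom. -/
theorem isDomain_tensor_away_baseChange {R R₀ D L : Type u} [CommRing R] [CommRing R₀] [CommRing D] [Field L]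
    [Algebra R R₀] [Algebra R D] [Algebra R₀ L] [Algebra R L] [IsScalarTower R R₀ L] (t : R₀ ⊗[R] D)
    [IsDomain (Localization.Away (Algebra.TensorProduct.map (IsScalarTower.toAlgHom R R₀ L) (AlgHom.id R D) t))] :
    IsDomain (L ⊗[R₀] Localization.Away t) := by
  let c := Algebra.TensorProduct.cancelBaseChange R R₀ R₀ L D
  let t₁ : L ⊗[R₀] (R₀ ⊗[R] D) := (1 : L) ⊗ₜ t
  let t₂ := Algebra.TensorProduct.map (IsScalarTower.toAlgHom R R₀ L) (AlgHom.id R D) t
  have hc : c t₁ = t₂ := by
    show c ((1 : L) ⊗ₜ t) = Algebra.TensorProduct.map (IsScalarTower.toAlgHom R R₀ L) (AlgHom.id R D) t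
    induction t using TensorProduct.induction_on with
    | zero => simp
    | tmul r d =>
      simp [c, Algebra.algebraMap_eq_smul_one]
    | add a b ha hb => simp only [TensorProduct.tmul_add, map_add, ha, hb]
  have hH : (Submonoid.powers t₁).map c.toRingEquiv.toMonoidHom = Submonoid.powers t₂ := by
    rw [Submonoid.map_powers]
    exact congrArg Submonoid.powers hc
  let e : Localization.Away t₁ ≃+* Localization.Away t₂ :=
    IsLocalization.ringEquivOfRingEquiv (M := Submonoid.powers t₁) (T := Submonoid.powers t₂) _ _ c.toRingEquiv hH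
  haveI : IsDomain (Localization.Away t₁) := e.injective.isDomain e.toRingHom
  haveI : IsLocalization.Away (1 : R₀) R₀ := IsLocalization.away_of_isUnit_of_bijective R₀ isUnit_one Function.bijective_id
  exact GrothLib.RG6.Geom.isDomain_tensor_of_localization (R := R₀) (R₀ := R₀) (1 : R₀) t

/-- An open piece with geometrically integral fibres gives geometrically integral fibres to smaller opens. -/
theorem geomIntegral_of_piece {R R' D D' R₃ : Type u} [CommRing R] [CommRing R'] [CommRing D] [CommRing D'] [CommRing R₃]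
    [Algebra R R'] [Algebra R D] [Algebra R' D'] [Algebra D D'] [Algebra R D'] [IsScalarTower R R' D']
    [IsScalarTower R D D'] [Algebra R R₃] [Algebra R' R₃] [IsScalarTower R R' R₃] [Algebra.Smooth R D]
    (hint : FlatCA.GeomIntegralFibres R' D') (e : R' ⊗[R] D)
    (hext : ∀ (Ω : Type u) [Field Ω] (χ : R' ⊗[R] D →+* Ω), χ e ≠ 0 →
      ∃ χ' : D' →+* Ω, χ'.comp (GrothLib.RG6.Geom.pieceHom R R' D D').toRingHom = χ)
    (t : R₃ ⊗[R] D) (het : Algebra.TensorProduct.map (IsScalarTower.toAlgHom R R' R₃) (AlgHom.id R D) e ∣ t)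
    (hne : ∀ a : PrimeSpectrum R₃, ∃ x : PrimeSpectrum (R₃ ⊗[R] D), PrimeSpectrum.comap (algebraMap R₃ _) x = a ∧ t ∉ x.asIdeal) :
    FlatCA.GeomIntegralFibres R₃ (Localization.Away t) := by
  have halg : ∀ (L : Type u) [Field L] [IsAlgClosed L] [Algebra R₃ L], IsDomain (L ⊗[R₃] Localization.Away t) := by
    intro L _ _ _
    letI : Algebra R L := ((algebraMap R₃ L).comp (algebraMap R R₃)).toAlgebra
    haveI : IsScalarTower R R₃ L := IsScalarTower.of_algebraMap_eq fun _ => rfl
    letI : Algebra R' L := ((algebraMap R₃ L).comp (algebraMap R' R₃)).toAlgebra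
    haveI : IsScalarTower R' R₃ L := IsScalarTower.of_algebraMap_eq fun _ => rfl
    haveI : IsScalarTower R R' L := IsScalarTower.of_algebraMap_eq fun r => by
      show algebraMap R₃ L (algebraMap R R₃ r) = algebraMap R₃ L (algebraMap R' R₃ (algebraMap R R' r))
      rw [← IsScalarTower.algebraMap_apply R R' R₃]
    let F := L ⊗[R] D
    let m₃ := Algebra.TensorProduct.map (IsScalarTower.toAlgHom R R₃ L) (AlgHom.id R D)
    let a : F := m₃ t
    -- a point
    obtain ⟨x₀, hx₀, hx₀t⟩ := hne ⟨RingHom.ker (algebraMap R₃ L), RingHom.ker_isPrime _⟩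
    obtain ⟨z₁, hz₁⟩ := GrothLib.RG6.Geom.exists_point_over L x₀ (congrArg PrimeSpectrum.asIdeal hx₀) t hx₀t
    let c := Algebra.TensorProduct.cancelBaseChange R R₃ R₃ L D
    let z : PrimeSpectrum F := PrimeSpectrum.comap c.symm.toRingEquiv.toRingHom z₁
    have hz : a ∉ z.asIdeal := by
      show c.symm a ∉ z₁.asIdeal
      have hc : ∀ s : R₃ ⊗[R] D, c ((1 : L) ⊗ₜ s) = m₃ s := fun s => by
        induction s using TensorProduct.induction_on with
        | zero => simp
        | tmul r d => simp [c, m₃, Algebra.algebraMap_eq_smul_one]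
        | add a b ha hb => simp only [TensorProduct.tmul_add, map_add, ha, hb]
      rw [show c.symm a = (1 : L) ⊗ₜ t from c.symm_apply_eq.2 (hc t).symm]
      exact hz₁
    -- all points off `a` come from the piece
    have hg := hint.geometrically_isIntegral
    rw [AlgebraicGeometry.geometrically_iff_of_commRing] at hg
    haveI : IsDomain (L ⊗[R'] D') := by
      haveI : AlgebraicGeometry.IsIntegral (AlgebraicGeometry.Spec (CommRingCat.of (L ⊗[R'] D'))) :=
        hg (K := L) _ _
          (AlgebraicGeometry.isPullback_SpecMap_of_isPushout _ _ _ _ (CommRingCat.isPushout_tensorProduct R' L D')).flip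
      exact (AlgebraicGeometry.affine_isIntegral_iff _).1 this
    let ψ : F →ₐ[R] L ⊗[R'] D' := Algebra.TensorProduct.lift
      ((Algebra.TensorProduct.includeLeft : L →ₐ[R'] L ⊗[R'] D').restrictScalars R)
      (((Algebra.TensorProduct.includeRight : D' →ₐ[R'] L ⊗[R'] D').restrictScalars R).comp (IsScalarTower.toAlgHom R D D'))
      fun _ _ => Commute.all _ _
    have hmem : ∀ w : PrimeSpectrum F, a ∉ w.asIdeal → w ∈ Set.range (PrimeSpectrum.comap ψ.toRingHom) := by
      intro w hw
      let κw : F →+* w.asIdeal.ResidueField := algebraMap F _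
      let χ : R' ⊗[R] D →+* w.asIdeal.ResidueField :=
        κw.comp (Algebra.TensorProduct.map (IsScalarTower.toAlgHom R R' L) (AlgHom.id R D)).toRingHom
      have hχe : χ e ≠ 0 := by
        intro h0
        obtain ⟨u, hu⟩ := het
        refine hw ?_
        have h1 : a = m₃ (Algebra.TensorProduct.map (IsScalarTower.toAlgHom R R' R₃) (AlgHom.id R D) e) * m₃ u := by
          show m₃ t = _
          rw [hu, map_mul]
        rw [h1]
        refine Ideal.mul_mem_right _ _ (Ideal.algebraMap_residueField_eq_zero.1 ?_)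
        have h2 : m₃.comp (Algebra.TensorProduct.map (IsScalarTower.toAlgHom R R' R₃) (AlgHom.id R D)) =
            Algebra.TensorProduct.map (IsScalarTower.toAlgHom R R' L) (AlgHom.id R D) := by
          refine Algebra.TensorProduct.ext' fun r d => ?_
          simp [m₃, ← IsScalarTower.algebraMap_apply R' R₃ L]
        rw [← AlgHom.comp_apply, h2]
        exact h0
      obtain ⟨χ', hχ'⟩ := hext _ χ hχe
      let la : L →+* w.asIdeal.ResidueField := κw.comp Algebra.TensorProduct.includeLeftRingHom
      have hagree : ∀ r : R', la (algebraMap R' L r) = χ' (algebraMap R' D' r) := fun r => by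
        have h0 := RingHom.congr_fun hχ' (r ⊗ₜ[R] (1 : D))
        rw [RingHom.comp_apply, show (GrothLib.RG6.Geom.pieceHom R R' D D').toRingHom (r ⊗ₜ[R] (1 : D)) = algebraMap R' D' r * 1 from
          (Algebra.TensorProduct.lift_tmul _ _ _ _ _).trans (by rw [map_one]; rfl), mul_one] at h0
        rw [h0]
        show _ = κw (Algebra.TensorProduct.map (IsScalarTower.toAlgHom R R' L) (AlgHom.id R D) (r ⊗ₜ[R] (1 : D)))
        rw [Algebra.TensorProduct.map_tmul, map_one]
        rfl
      obtain ⟨Φ, hΦ⟩ := GrothLib.RG6.Geom.exists_pushout_lift la χ' hagree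
      have hΦψ : Φ.comp ψ.toRingHom = κw := by
        refine Algebra.TensorProduct.ringHom_ext (RingHom.ext fun l => ?_) (RingHom.ext fun d => ?_)
        · show Φ (ψ (l ⊗ₜ (1 : D))) = κw (l ⊗ₜ (1 : D))
          rw [show ψ (l ⊗ₜ (1 : D)) = l ⊗ₜ[R'] (1 : D') from (Algebra.TensorProduct.lift_tmul _ _ _ _ _).trans (by rw [map_one, mul_one]; rfl), hΦ, map_one, mul_one]
          rfl
        · show Φ (ψ ((1 : L) ⊗ₜ d)) = κw ((1 : L) ⊗ₜ d)
          rw [show ψ ((1 : L) ⊗ₜ d) = (1 : L) ⊗ₜ[R'] algebraMap D D' d from (Algebra.TensorProduct.lift_tmul _ _ _ _ _).trans (by rw [map_one, one_mul]; rfl), hΦ,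
            map_one, one_mul]
          have h0 := RingHom.congr_fun hχ' ((1 : R') ⊗ₜ[R] d)
          rw [RingHom.comp_apply, show (GrothLib.RG6.Geom.pieceHom R R' D D').toRingHom ((1 : R') ⊗ₜ[R] d) =
            1 * algebraMap D D' d from
              (Algebra.TensorProduct.lift_tmul _ _ _ _ _).trans (by rw [map_one]; rfl), one_mul] at h0
          rw [h0]
          show κw (Algebra.TensorProduct.map (IsScalarTower.toAlgHom R R' L) (AlgHom.id R D) ((1 : R') ⊗ₜ[R] d)) = _
          rw [Algebra.TensorProduct.map_tmul, map_one]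
          rfl
      refine ⟨⟨RingHom.ker Φ, RingHom.ker_isPrime _⟩, PrimeSpectrum.ext (Ideal.ext fun y => ?_)⟩
      show Φ.comp ψ.toRingHom y = 0 ↔ _
      rw [hΦψ]
      exact Ideal.algebraMap_residueField_eq_zero
    have hrange : IsPreconnected (Set.range (PrimeSpectrum.comap ψ.toRingHom)) :=
      isPreconnected_range (PrimeSpectrum.continuous_comap _)
    haveI := GrothLib.RG6.Geom.isDomain_away_of_component L F a z hz
      fun w hw => hrange.subset_connectedComponent (hmem z hz) (hmem w hw)
    exact isDomain_tensor_away_baseChange t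
  refine GrothLib.RG6.Geom.geomIntegralFibres_of_isDomain fun K _ _ => ?_
  let Kb := AlgebraicClosure K
  haveI := halg Kb
  haveI : IsDomain (Kb ⊗[K] (K ⊗[R₃] Localization.Away t)) :=
    Function.Injective.isDomain (Algebra.TensorProduct.cancelBaseChange R₃ K K Kb (Localization.Away t)).toRingHom
      (Algebra.TensorProduct.cancelBaseChange R₃ K K Kb (Localization.Away t)).injective
  exact Function.Injective.isDomain
    (Algebra.TensorProduct.includeRight : K ⊗[R₃] Localization.Away t →ₐ[K] Kb ⊗[K] (K ⊗[R₃] Localization.Away t)).toRingHom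
    (Algebra.TensorProduct.includeRight_injective (algebraMap K Kb).injective)

/-- The generic point of a fibre contracts to the generic point. -/
theorem comap_map_eq {R R₃ D B : Type u} [CommRing R] [CommRing R₃] [CommRing D] [CommRing B] [Algebra R R₃]
    [Algebra R D] [Algebra R₃ B] [Algebra D B] [Algebra R B] [IsScalarTower R R₃ B] [IsScalarTower R D B]
    [Algebra.QuasiFinite R R₃] [Module.Flat D B] (p : Ideal R) [p.IsPrime] (p₃ : Ideal R₃) [p₃.IsPrime]
    [p₃.LiesOver p] (qB : Ideal B) [qB.IsPrime] [qB.LiesOver p₃] [(p.map (algebraMap R D)).IsPrime] :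
    (p₃.map (algebraMap R₃ B)).comap (algebraMap D B) = p.map (algebraMap R D) := by
  let ξ := p.map (algebraMap R D)
  have hle : ξ ≤ (p₃.map (algebraMap R₃ B)).comap (algebraMap D B) := by
    refine Ideal.map_le_iff_le_comap.2 fun r hr => ?_
    show algebraMap D B (algebraMap R D r) ∈ p₃.map (algebraMap R₃ B)
    rw [← IsScalarTower.algebraMap_apply, IsScalarTower.algebraMap_apply R R₃ B]
    exact Ideal.mem_map_of_mem _ ((p₃.over_def p).le hr)
  refine le_antisymm ?_ hle
  haveI : qB.LiesOver p := Ideal.LiesOver.trans qB p₃ p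
  let y := qB.comap (algebraMap D B)
  haveI : qB.LiesOver y := ⟨rfl⟩
  have hξy : ξ ≤ y := Ideal.map_le_iff_le_comap.2 fun r hr => by
    show algebraMap D B (algebraMap R D r) ∈ qB
    rw [← IsScalarTower.algebraMap_apply]
    exact (qB.over_def p).le hr
  haveI : y.IsPrime := Ideal.IsPrime.comap _
  obtain ⟨Q, hQle, hQ, hQξ⟩ := Ideal.exists_ideal_le_liesOver_of_le (p := ξ) (q := y) qB hξy
  haveI := hQ
  have h1 : Q.comap (algebraMap R₃ B) = p₃ := by
    refine Algebra.QuasiFinite.eq_of_le_of_under_eq (R := R) _ p₃ ?_ ?_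
    · rw [qB.over_def p₃]; exact Ideal.comap_mono hQle
    · refine le_antisymm ?_ ?_
      · intro r hr
        refine (p₃.over_def p).le ((qB.over_def p).ge (hQle ?_))
        rw [IsScalarTower.algebraMap_apply R R₃ B]
        exact hr
      · intro r hr
        show algebraMap R₃ B (algebraMap R R₃ r) ∈ Q
        rw [← IsScalarTower.algebraMap_apply, IsScalarTower.algebraMap_apply R D B]
        exact hQξ.over.le (Ideal.mem_map_of_mem _ ((p₃.over_def p).ge hr))
  intro d hd
  refine hQξ.over.ge ?_
  exact (Ideal.map_le_iff_le_comap.2 h1.ge) hd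

end GrothLib.RG6.Dev
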