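import Mathlib
import Groth.Prelude.Def_FlatCA

/-!
# Building complete dévissages step by step
-/

set_option autoImplicit false
set_option linter.style.haveILetI false
set_option linter.unusedSectionVars false

universe u

open TensorProduct

namespace GrothLib.RG6.Dev

/-- The data of one step of a complete dévissage at a prime, without its continuation. -/
structure TopStep (R : Type u) [CommRing R] (p : Ideal R) [p.IsPrime] (S : Type u) [CommRing S] [Algebra R S]
    (N : Type u) [AddCommGroup N] [Module S N] [Module R N] (q : Ideal S) [q.IsPrime] : Type (u + 1) where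
  /-- the ring carrying the module -/
  A : Type u
  /-- the smooth algebra -/
  B : Type u
  [cA : CommRing A] [cB : CommRing B] [aRA : Algebra R A] [aRB : Algebra R B] [aBA : Algebra B A]
  [tRBA : IsScalarTower R B A] [aSA : Algebra S A] [tRSA : IsScalarTower R S A]
  [mAN : Module A N] [tSAN : IsScalarTower S A N] [mBN : Module B N] [tBAN : IsScalarTower B A N]
  [tRBN : IsScalarTower R B N]
  [hp : (p.map (algebraMap R B)).IsPrime]
  surj : Function.Surjective (algebraMap S A)
  fp : Algebra.FinitePresentation S A
  finiteBA : Module.Finite B A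
  finiteN : Module.Finite A N
  smooth : Algebra.Smooth R B
  geomIrred : FlatCA.GeomIrredFibres R B
  /-- the rank -/
  r : ℕ
  /-- the map from the free module -/
  α : (Fin r → B) →ₗ[B] N
  fibreIso : Function.Bijective (α.baseChange (p.map (algebraMap R B)).ResidueField)
  /-- the point of `B` -/
  qB : Ideal B
  /-- the point of `A` -/
  qA : Ideal A
  [hqB : qB.IsPrime] [hqA : qA.IsPrime] [overB : qB.LiesOver p] [overA : qA.LiesOver qB]
  pureTrans : FlatCA.PurelyTranscendental p qB
  uniq : ∀ (Q : Ideal A) [Q.IsPrime], Q.LiesOver qB → Q = qA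
  q0 : qA.comap (algebraMap S A) = q
  /-- the relative dimension -/
  d : ℕ
  relDim : FlatCA.SmoothRelDim d R B
  locDim : ∃ (x : PrimeSpectrum (p.Fiber B)) (hx : x ∈ Module.support (p.Fiber B) (FlatCA.fiberMod p B N)),
    x.asIdeal = FlatCA.fiberIdeal p qB ∧
    FlatMor.localDim (Module.support (p.Fiber B) (FlatCA.fiberMod p B N)) ⟨x, hx⟩ = d

attribute [instance] TopStep.cA TopStep.cB TopStep.aRA TopStep.aRB TopStep.aBA TopStep.tRBA TopStep.aSA TopStep.tRSA
  TopStep.mAN TopStep.tSAN TopStep.mBN TopStep.tBAN TopStep.tRBN TopStep.hp TopStep.hqB TopStep.hqA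
  TopStep.overB TopStep.overA

variable {R : Type u} [CommRing R] {p : Ideal R} [p.IsPrime] {S : Type u} [CommRing S] [Algebra R S]
  {N : Type u} [AddCommGroup N] [Module S N] [Module R N] {q : Ideal S} [q.IsPrime]

/-- A step with surjective map is a complete dévissage. -/
theorem TopStep.single (T : TopStep R p S N q) (hα : Function.Surjective T.α) :
    FlatCA.HasCompleteDevissageAt R S N p q := by
  let aid : Algebra T.B T.A := T.aBA
  let D : FlatCA.CompleteDevissage R S N p :=
    { n := 1
      pos := Nat.one_pos
      A := fun _ => T.A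
      B := fun _ => T.B
      M := fun _ => N
      r := fun _ => T.r
      mAM := fun _ => T.mAN
      mBM := fun _ => T.mBN
      mRM := fun _ => (inferInstance : Module R N)
      α := fun _ => T.α
      surjSA := T.surj
      fpSA := T.fp
      surjBA' := fun i hi => absurd hi (by omega)
      fpBA' := fun i hi => absurd hi (by omega)
      finiteBA := fun _ _ => T.finiteBA
      smooth := fun _ _ => T.smooth
      geomIrred := fun _ _ => T.geomIrred
      finiteM := fun _ _ => T.finiteN
      isoN := LinearEquiv.refl S N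
      isoCoker := fun i hi => absurd hi (by omega)
      fibreIso := fun _ _ => T.fibreIso
      cokerLast := hα }
  exact ⟨D, ⟨
    { qB := fun _ => T.qB
      qA := fun _ => T.qA
      pureTrans := fun _ _ => T.pureTrans
      uniq := fun _ _ Q _ hQ => T.uniq Q hQ
      q0 := T.q0
      qStep := fun i hi => absurd hi (show ¬(i + 1 < 1) by omega)
      d := fun _ => T.d
      relDim := fun _ _ => T.relDim
      locDim := fun _ _ => T.locDim }⟩⟩

/-- Prefix a family by a first term. -/
def consFam {α : Sort*} (a : α) (f : ℕ → α) : ℕ → α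
  | 0 => a
  | i + 1 => f i

/-- A step followed by a complete dévissage of its cokernel is a complete dévissage. -/
theorem TopStep.cons (T : TopStep R p S N q)
    (h : FlatCA.HasCompleteDevissageAt R T.B (N ⧸ LinearMap.range T.α) p T.qB) :
    FlatCA.HasCompleteDevissageAt R S N p q := by
  obtain ⟨D, ⟨E⟩⟩ := h
  let A : ℕ → Type u := consFam T.A D.A
  let B : ℕ → Type u := consFam T.B D.B
  let M : ℕ → Type u := consFam N D.M
  letI iA : ∀ i, CommRing (A i) := fun i => match i with | 0 => T.cA | j + 1 => D.cA j
  letI iB : ∀ i, CommRing (B i) := fun i => match i with | 0 => T.cB | j + 1 => D.cB j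
  letI iRA : ∀ i, Algebra R (A i) := fun i => match i with | 0 => T.aRA | j + 1 => D.aRA j
  letI iRB : ∀ i, Algebra R (B i) := fun i => match i with | 0 => T.aRB | j + 1 => D.aRB j
  letI iBA : ∀ i, Algebra (B i) (A i) := fun i => match i with | 0 => T.aBA | j + 1 => D.aBA j
  haveI iT1 : ∀ i, IsScalarTower R (B i) (A i) := fun i => match i with | 0 => T.tRBA | j + 1 => D.tRBA j
  letI iS : Algebra S (A 0) := T.aSA
  haveI iT2 : IsScalarTower R S (A 0) := T.tRSA
  letI iBA' : ∀ i, Algebra (B i) (A (i + 1)) := fun i => match i with | 0 => D.aSA | j + 1 => D.aBA' j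
  haveI iT3 : ∀ i, IsScalarTower R (B i) (A (i + 1)) := fun i => match i with | 0 => D.tRSA | j + 1 => D.tRBA' j
  letI iM : ∀ i, AddCommGroup (M i) := fun i => match i with | 0 => (inferInstance : AddCommGroup N) | j + 1 => D.gM j
  letI iAM : ∀ i, Module (A i) (M i) := fun i => match i with | 0 => T.mAN | j + 1 => D.mAM j
  letI iBM : ∀ i, Module (B i) (M i) := fun i => match i with | 0 => T.mBN | j + 1 => D.mBM j
  haveI iT4 : ∀ i, IsScalarTower (B i) (A i) (M i) := fun i => match i with | 0 => T.tBAN | j + 1 => D.tBAM j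
  letI iRM : ∀ i, Module R (M i) := fun i => match i with | 0 => (inferInstance : Module R N) | j + 1 => D.mRM j
  haveI iT5 : ∀ i, IsScalarTower R (B i) (M i) := fun i => match i with | 0 => T.tRBN | j + 1 => D.tRBM j
  letI iSM : Module S (M 0) := (inferInstance : Module S N)
  haveI iT6 : IsScalarTower S (A 0) (M 0) := T.tSAN
  letI iB'M : ∀ i, Module (B i) (M (i + 1)) := fun i => match i with | 0 => D.mSM | j + 1 => D.mB'M j
  haveI iT7 : ∀ i, IsScalarTower (B i) (A (i + 1)) (M (i + 1)) := fun i => match i with | 0 => D.tSAM | j + 1 => D.tB'AM j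
  haveI ip : ∀ i, (p.map (algebraMap R (B i))).IsPrime := fun i => match i with | 0 => T.hp | j + 1 => D.hp j
  let r : ℕ → ℕ := consFam T.r D.r
  let D' : FlatCA.CompleteDevissage R S N p :=
    { n := D.n + 1
      pos := Nat.succ_pos _
      A := A
      B := B
      M := M
      r := r
      mAM := iAM
      mBM := iBM
      mRM := iRM
      mB'M := iB'M
      α := fun i => match i with | 0 => T.α | j + 1 => D.α j
      surjSA := T.surj
      fpSA := T.fp
      surjBA' := fun i hi => match i, hi with | 0, _ => D.surjSA | j + 1, hi => D.surjBA' j (Nat.succ_lt_succ_iff.1 hi)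
      fpBA' := fun i hi => match i, hi with | 0, _ => D.fpSA | j + 1, hi => D.fpBA' j (Nat.succ_lt_succ_iff.1 hi)
      finiteBA := fun i hi => match i, hi with | 0, _ => T.finiteBA | j + 1, hi => D.finiteBA j (Nat.succ_lt_succ_iff.1 hi)
      smooth := fun i hi => match i, hi with | 0, _ => T.smooth | j + 1, hi => D.smooth j (Nat.succ_lt_succ_iff.1 hi)
      geomIrred := fun i hi => match i, hi with | 0, _ => T.geomIrred | j + 1, hi => D.geomIrred j (Nat.succ_lt_succ_iff.1 hi)
      finiteM := fun i hi => match i, hi with | 0, _ => T.finiteN | j + 1, hi => D.finiteM j (Nat.succ_lt_succ_iff.1 hi)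
      isoN := LinearEquiv.refl S N
      isoCoker := fun i hi => match i, hi with | 0, _ => D.isoN | j + 1, hi => D.isoCoker j (Nat.succ_lt_succ_iff.1 hi)
      fibreIso := fun i hi => match i, hi with | 0, _ => T.fibreIso | j + 1, hi => D.fibreIso j (Nat.succ_lt_succ_iff.1 hi)
      cokerLast := by
        have h := D.cokerLast
        show Function.Surjective _
        obtain ⟨m, hm⟩ : ∃ m, D.n = m + 1 := ⟨D.n - 1, (Nat.succ_pred_eq_of_pos D.pos).symm⟩
        rw [hm, Nat.add_sub_cancel] at h
        rw [hm, Nat.add_sub_cancel]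
        exact h }
  let qB : ∀ i, Ideal (B i) := fun i => match i with | 0 => T.qB | j + 1 => E.qB j
  let qA : ∀ i, Ideal (A i) := fun i => match i with | 0 => T.qA | j + 1 => E.qA j
  exact ⟨D', ⟨
    { qB := qB
      qA := qA
      hqB := fun i => match i with | 0 => T.hqB | j + 1 => E.hqB j
      hqA := fun i => match i with | 0 => T.hqA | j + 1 => E.hqA j
      overB := fun i => match i with | 0 => T.overB | j + 1 => E.overB j
      overA := fun i => match i with | 0 => T.overA | j + 1 => E.overA j
      pureTrans := fun i hi => match i, hi with | 0, _ => T.pureTrans | j + 1, hi => E.pureTrans j (Nat.succ_lt_succ_iff.1 hi)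
      uniq := fun i hi => match i, hi with
        | 0, _ => fun Q hQ h => @TopStep.uniq _ _ _ _ _ _ _ _ _ _ _ _ _ T Q hQ h
        | j + 1, hi => E.uniq j (Nat.succ_lt_succ_iff.1 hi)
      q0 := T.q0
      qStep := fun i hi => match i, hi with | 0, _ => E.q0 | j + 1, hi => E.qStep j (Nat.succ_lt_succ_iff.1 hi)
      d := consFam T.d E.d
      relDim := fun i hi => match i, hi with | 0, _ => T.relDim | j + 1, hi => E.relDim j (Nat.succ_lt_succ_iff.1 hi)
      locDim := fun i hi => match i, hi with | 0, _ => T.locDim | j + 1, hi => E.locDim j (Nat.succ_lt_succ_iff.1 hi) }⟩⟩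

end GrothLib.RG6.Dev
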