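import Mathlib
import Groth.Prelude.Def_FlatCA
import Groth.Agent.Lib.RG6.Dev.Subscheme
import Groth.Agent.Lib.RG6.Geom.Base
import Groth.Agent.Lib.LocalDimAlg.Basic
import Groth.Agent.Lib.FibreDimAt6.Smooth
import Groth.Agent.Lib.FibreDimRing.Basic

/-!
# Fibres of smooth algebras with geometrically integral fibres, and supports in them
-/

set_option autoImplicit false
set_option linter.style.haveILetI false
set_option linter.unusedSectionVars false

universe u

open TensorProduct AlgebraicGeometry CategoryTheory Topology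

attribute [local instance] Algebra.TensorProduct.rightAlgebra

namespace GrothLib.RG6.Dev

variable {R B : Type u} [CommRing R] [CommRing B] [Algebra R B] (p : Ideal R) [p.IsPrime]

/-- The fibre ring of a geometrically integral algebra is a domain. -/
theorem isDomain_fiber (h : FlatCA.GeomIntegralFibres R B) : IsDomain (p.Fiber B) := by
  have hg := h.geometrically_isIntegral
  rw [geometrically_iff_of_commRing] at hg
  haveI : IsIntegral (Spec (CommRingCat.of (p.ResidueField ⊗[R] B))) :=
    hg (K := p.ResidueField) _ _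
      (isPullback_SpecMap_of_isPushout _ _ _ _ (CommRingCat.isPushout_tensorProduct R p.ResidueField B)).flip
  exact (affine_isIntegral_iff _).1 this

/-- For a flat algebra with domain fibre, the extended prime is the kernel of the map to the fibre. -/
theorem mem_map_iff_fiber [Module.Flat R B] (b : B) :
    b ∈ p.map (algebraMap R B) ↔ (1 : p.ResidueField) ⊗ₜ[R] b = 0 := by
  constructor
  · intro hb
    refine (Ideal.map_le_iff_le_comap.2 (fun r hr => ?_) :
      p.map (algebraMap R B) ≤ RingHom.ker (Algebra.TensorProduct.includeRight : B →ₐ[R] p.ResidueField ⊗[R] B).toRingHom) hb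
    show (Algebra.TensorProduct.includeRight : B →ₐ[R] p.ResidueField ⊗[R] B) (algebraMap R B r) = 0
    rw [AlgHom.commutes, IsScalarTower.algebraMap_apply R p.ResidueField, Ideal.algebraMap_residueField_eq_zero.2 hr,
      map_zero]
  · intro hb
    -- `κ(p) ⊗ B` contains `(R ⧸ p) ⊗ B`
    let ι : (R ⧸ p) →ₗ[R] p.ResidueField := (IsScalarTower.toAlgHom R (R ⧸ p) p.ResidueField).toLinearMap
    have hι : Function.Injective ι := IsFractionRing.injective (R ⧸ p) p.ResidueField
    have h1 : Function.Injective (ι.rTensor B) := Module.Flat.rTensor_preserves_injective_linearMap ι hι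
    have h2 : (1 : R ⧸ p) ⊗ₜ[R] b = 0 := by
      apply h1
      rw [LinearMap.rTensor_tmul, map_zero, show ι 1 = 1 from map_one (algebraMap (R ⧸ p) p.ResidueField)]
      exact hb
    have h3 : RingHom.ker (Algebra.TensorProduct.includeRight : B →ₐ[R] (R ⧸ p) ⊗[R] B).toRingHom ≤
        p.map (algebraMap R B) := by
      intro c hc
      have := congrArg (TensorProduct.quotTensorEquivQuotSMul B p) (show (1 : R ⧸ p) ⊗ₜ[R] c = 0 from hc)
      rw [map_zero, show (1 : R ⧸ p) = Ideal.Quotient.mk p 1 from rfl, TensorProduct.quotTensorEquivQuotSMul_mk_tmul,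
        one_smul, Submodule.Quotient.mk_eq_zero] at this
      rw [Ideal.smul_top_eq_map] at this
      exact this
    exact h3 h2

/-- The extended prime is prime. -/
theorem isPrime_map [Module.Flat R B] [IsDomain (p.Fiber B)] : (p.map (algebraMap R B)).IsPrime := by
  have h : p.map (algebraMap R B) =
      (⊥ : Ideal (p.Fiber B)).comap (Algebra.TensorProduct.includeRight : B →ₐ[R] p.Fiber B).toRingHom := by
    ext b
    rw [mem_map_iff_fiber]
    rfl
  rw [h]
  haveI : (⊥ : Ideal (p.Fiber B)).IsPrime := Ideal.isPrime_bot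
  exact Ideal.IsPrime.comap _

/-- A point of the fibre ring over a given prime. -/
theorem exists_fibre_prime (q : Ideal B) [q.IsPrime] [hqp : q.LiesOver p] :
    ∃ Q : PrimeSpectrum (p.Fiber B), Q.asIdeal = FlatCA.fiberIdeal p q ∧
      Q.asIdeal.comap (Algebra.TensorProduct.includeRight (R := R) (A := p.ResidueField) (B := B)).toRingHom = q := by
  let p₀ : PrimeSpectrum R := ⟨p, ‹_›⟩
  let q₀ : (PrimeSpectrum.comap (algebraMap R B)) ⁻¹' {p₀} := ⟨⟨q, ‹_›⟩, PrimeSpectrum.ext hqp.over.symm⟩
  let Q := PrimeSpectrum.preimageEquivFiber R B p₀ q₀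
  have hQ : Q.asIdeal.comap (Algebra.TensorProduct.includeRight (R := R) (A := p.ResidueField) (B := B)).toRingHom = q :=
    congrArg (fun z => z.1.asIdeal) ((PrimeSpectrum.preimageEquivFiber R B p₀).symm_apply_apply q₀)
  refine ⟨Q, le_antisymm (fun z hz => ?_) (Ideal.map_le_iff_le_comap.2 hQ.ge), hQ⟩
  obtain ⟨w, hw, s, hs⟩ := Ideal.Fiber.exists_smul_eq_one_tmul p z
  have hu : IsUnit (algebraMap R (p.Fiber B) w) := by
    rw [IsScalarTower.algebraMap_apply R p.ResidueField (p.Fiber B)]
    exact (isUnit_iff_ne_zero.2 (Ideal.algebraMap_residueField_eq_zero.not.2 hw)).map _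
  refine (Ideal.unit_mul_mem_iff_mem _ hu).1 ?_
  rw [← Algebra.smul_def, hs]
  refine Ideal.mem_map_of_mem _ ?_
  rw [← hQ]
  show (1 : p.ResidueField) ⊗ₜ[R] s ∈ Q.asIdeal
  rw [← hs, Algebra.smul_def]
  exact Ideal.mul_mem_left _ _ hz

variable {p}

/-- The local dimension of the fibre of an algebra smooth of relative dimension `n`. -/
theorem localDim_fiber {n : ℕ} (hsm : FlatCA.SmoothRelDim n R B) (Q : PrimeSpectrum (p.Fiber B)) :
    FlatMor.localDim (PrimeSpectrum (p.Fiber B)) Q = n := by
  haveI := hsm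
  let q : PrimeSpectrum B := PrimeSpectrum.comap (Algebra.TensorProduct.includeRight (R := R) (A := p.ResidueField) (B := B)).toRingHom Q
  have hqp : q.asIdeal.under R = p := by
    let p₀ : PrimeSpectrum R := ⟨p, ‹_›⟩
    exact congrArg PrimeSpectrum.asIdeal ((PrimeSpectrum.preimageEquivFiber R B p₀).symm Q).2
  exact (GrothLib.FibreDimRing.fibreDimAt_eq_localDim q p hqp Q rfl).symm.trans
    (GrothLib.FibreDimAt6.fibreDimAt_eq_of_smooth n (Spec.map (CommRingCat.ofHom (algebraMap R B))) q)

/-- The dimension of a domain fibre. -/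
theorem ringKrullDim_fiber {n : ℕ} (hsm : FlatCA.SmoothRelDim n R B) [IsDomain (p.Fiber B)] :
    ringKrullDim (p.Fiber B) = n := by
  haveI := GrothLib.RG6.Geom.smooth_of_smoothRelDim hsm
  haveI : (⊥ : Ideal (p.Fiber B)).IsPrime := Ideal.isPrime_bot
  have h := GrothLib.LocalDimAlg.localDim_eq p.ResidueField (S := p.Fiber B) ⊥
  rw [localDim_fiber hsm, Ideal.height_bot, ringKrullDim_eq_of_ringEquiv (RingEquiv.quotientBot (p.Fiber B))] at h
  simpa using h.symm

/-- A module finite over a smooth algebra whose support contains the generic point of the fibre. -/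
theorem locDim_of_generic {n : ℕ} (hsm : FlatCA.SmoothRelDim n R B) [IsDomain (p.Fiber B)] (M : Type u) [AddCommGroup M]
    [Module B M] [Module R M] [IsScalarTower R B M] [Module.Finite B M]
    (hM : Module.annihilator B M ≤ p.map (algebraMap R B)) (q : Ideal B) [q.IsPrime] [q.LiesOver p] :
    ∃ (x : PrimeSpectrum (p.Fiber B)) (hx : x ∈ Module.support (p.Fiber B) (FlatCA.fiberMod p B M)),
      x.asIdeal = FlatCA.fiberIdeal p q ∧
      FlatMor.localDim (Module.support (p.Fiber B) (FlatCA.fiberMod p B M)) ⟨x, hx⟩ = n := by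
  haveI := GrothLib.RG6.Geom.smooth_of_smoothRelDim hsm
  have hsupp : Module.support (p.Fiber B) (FlatCA.fiberMod p B M) = Set.univ := by
    show Module.support (p.Fiber B) ((p.Fiber B) ⊗[B] M) = _
    rw [GrothLib.DevBC13.support_tensor, Module.support_eq_zeroLocus, PrimeSpectrum.preimage_comap_zeroLocus,
      PrimeSpectrum.zeroLocus_eq_univ_iff]
    rintro _ ⟨a, ha, rfl⟩
    rw [nilradical_eq_zero]
    exact (mem_map_iff_fiber p a).1 (hM ha)
  obtain ⟨x, hxq, -⟩ := exists_fibre_prime p q
  have hx : x ∈ Module.support (p.Fiber B) (FlatCA.fiberMod p B M) := by rw [hsupp]; trivial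
  let h : PrimeSpectrum (p.Fiber B) ≃ₜ Module.support (p.Fiber B) (FlatCA.fiberMod p B M) :=
    (Homeomorph.Set.univ _).symm.trans (Homeomorph.setCongr hsupp.symm)
  refine ⟨x, hx, hxq, ?_⟩
  rw [← localDim_fiber hsm x, ← localDim_homeo h x]
  rfl

/-- A finite map killing an element factors the dimension through the quotient. -/
theorem ringKrullDim_le_quotient {A Z : Type u} [CommRing A] [CommRing Z] (φ : A →+* Z) (hφ : φ.Finite) (a : A)
    (ha : φ a = 0) : ringKrullDim Z ≤ ringKrullDim (A ⧸ Ideal.span {a}) := by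
  let φ₁ : A ⧸ Ideal.span {a} →+* Z := Ideal.Quotient.lift _ φ fun b hb => by
    obtain ⟨c, rfl⟩ := Ideal.mem_span_singleton'.1 hb
    rw [map_mul, ha, mul_zero]
  have hφ₁ : φ₁.Finite := RingHom.Finite.of_comp_finite (f := Ideal.Quotient.mk (Ideal.span {a})) hφ
  letI := φ₁.toAlgebra
  haveI : Module.Finite (A ⧸ Ideal.span {a}) Z := hφ₁
  exact GrothLib.Dim.ringKrullDim_le_of_isIntegral (R := A ⧸ Ideal.span {a}) (S := Z)

/-- The support in a fibre of a module killed by an element generically invertible on a finite slice is small. -/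
theorem localDim_support_lt {n : ℕ} (hsm : FlatCA.SmoothRelDim n R B) [IsDomain (p.Fiber B)]
    {S : Type u} [CommRing S] [Algebra R S] [Algebra B S] [IsScalarTower R B S] (J : Ideal S)
    [Module.Finite B (S ⧸ J)]
    (N : Type u) [AddCommGroup N] [Module S N] [Module R N] [IsScalarTower R S N] [Module.Finite S N]
    (hJN : J ≤ Module.annihilator S N) (f : B) (hf : f ∉ p.map (algebraMap R B))
    (hfN : algebraMap B S f ∈ Module.annihilator S N)
    (x : PrimeSpectrum (p.Fiber S)) (hx : x ∈ Module.support (p.Fiber S) (FlatCA.fiberMod p S N)) :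
    FlatMor.localDim (Module.support (p.Fiber S) (FlatCA.fiberMod p S N)) ⟨x, hx⟩ < n := by
  haveI := GrothLib.RG6.Geom.smooth_of_smoothRelDim hsm
  let F := p.Fiber B
  let J' : Ideal S := J ⊔ Ideal.span {algebraMap B S f}
  have hJ'N : J' ≤ Module.annihilator S N := sup_le hJN ((Ideal.span_singleton_le_iff_mem _).2 hfN)
  haveI : Module.Finite B (S ⧸ J') :=
    Module.Finite.of_surjective (Ideal.Quotient.factorₐ B (show J ≤ J' from le_sup_left)).toLinearMap
      (Ideal.Quotient.factor_surjective (show J ≤ J' from le_sup_left))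
  let π := Ideal.Quotient.mkₐ R J'
  have hπ : Function.Surjective π := Ideal.Quotient.mkₐ_surjective R _
  let ψ := Algebra.TensorProduct.map (AlgHom.id R p.ResidueField) π
  have hψ : Function.Surjective ψ.toRingHom := fun z => by
    induction z using TensorProduct.induction_on with
    | zero => exact ⟨0, map_zero _⟩
    | tmul a b =>
      obtain ⟨b, rfl⟩ := hπ b
      exact ⟨a ⊗ₜ b, by simp [ψ]⟩
    | add a b ha hb =>
      obtain ⟨a', rfl⟩ := ha
      obtain ⟨b', rfl⟩ := hb
      exact ⟨a' + b', map_add _ _ _⟩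
  have hker : RingHom.ker ψ.toRingHom = FlatCA.fiberIdeal p J' := by
    show RingHom.ker ψ = _
    rw [Algebra.TensorProduct.lTensor_ker _ hπ, show RingHom.ker π = J' from Ideal.Quotient.mkₐ_ker R _]
    rfl
  have hsub : Module.support (p.Fiber S) (FlatCA.fiberMod p S N) ⊆ Set.range (PrimeSpectrum.comap ψ.toRingHom) := by
    rw [range_comap_of_surjective (f := ψ.toRingHom) (hf := hψ), hker]
    show Module.support (p.Fiber S) ((p.Fiber S) ⊗[S] N) ⊆ _
    rw [GrothLib.DevBC13.support_tensor, Module.support_eq_zeroLocus, PrimeSpectrum.preimage_comap_zeroLocus,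
      ← PrimeSpectrum.zeroLocus_span]
    exact PrimeSpectrum.zeroLocus_anti_mono_ideal (Ideal.map_mono hJ'N)
  have hemb : IsEmbedding (PrimeSpectrum.comap ψ.toRingHom) :=
    (PrimeSpectrum.isClosedEmbedding_comap_of_surjective _ _ hψ).isEmbedding
  have hdim1 : FlatMor.localDim (Module.support (p.Fiber S) (FlatCA.fiberMod p S N)) ⟨x, hx⟩ ≤
      ringKrullDim (p.Fiber (S ⧸ J')) := by
    refine (iInf_le _ ⟨⊤, trivial⟩).trans ?_
    rw [← PrimeSpectrum.topologicalKrullDim_eq_ringKrullDim]
    let ι : ((⊤ : TopologicalSpace.Opens (Module.support (p.Fiber S) (FlatCA.fiberMod p S N))) :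
        Set (Module.support (p.Fiber S) (FlatCA.fiberMod p S N))) → PrimeSpectrum (p.Fiber (S ⧸ J')) :=
      fun z => hemb.toHomeomorph.symm ⟨z.1.1, hsub z.1.2⟩
    have hι : IsInducing ι :=
      hemb.toHomeomorph.symm.isInducing.comp
        (IsInducing.codRestrict (IsInducing.subtypeVal.comp IsInducing.subtypeVal) fun z => hsub z.1.2)
    exact hι.topologicalKrullDim_le
  -- the fibre of the slice is finite over a proper closed subscheme
  let φ : F →ₐ[R] p.Fiber (S ⧸ J') :=
    Algebra.TensorProduct.map (AlgHom.id R p.ResidueField) (IsScalarTower.toAlgHom R B (S ⧸ J'))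
  have hφ : φ.toRingHom.Finite :=
    RingHom.Finite.tensorProductMap (f := AlgHom.id R p.ResidueField) (g := IsScalarTower.toAlgHom R B (S ⧸ J'))
      (RingHom.Finite.id _) (RingHom.finite_algebraMap.2 inferInstance)
  let fb : F := (1 : p.ResidueField) ⊗ₜ[R] f
  have hfb : φ fb = 0 := by
    show φ ((1 : p.ResidueField) ⊗ₜ[R] f) = 0
    rw [Algebra.TensorProduct.map_tmul]
    show (1 : p.ResidueField) ⊗ₜ[R] algebraMap B (S ⧸ J') f = 0
    rw [show algebraMap B (S ⧸ J') f = Ideal.Quotient.mk J' (algebraMap B S f) from rfl,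
      Ideal.Quotient.eq_zero_iff_mem.2 (Ideal.mem_sup_right (Ideal.mem_span_singleton_self _)), TensorProduct.tmul_zero]
  have hdim2 := ringKrullDim_le_quotient φ.toRingHom hφ fb hfb
  have hfb0 : fb ∈ nonZeroDivisors F := mem_nonZeroDivisors_of_ne_zero fun h => hf ((mem_map_iff_fiber p f).2 h)
  have hdim3 := ringKrullDim_quotient_succ_le_of_nonZeroDivisor hfb0
  rw [ringKrullDim_fiber hsm] at hdim3
  refine lt_of_le_of_lt (hdim1.trans hdim2) ?_
  generalize ringKrullDim (F ⧸ Ideal.span {fb}) = a at hdim3 ⊢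
  induction a with
  | bot => exact WithBot.bot_lt_coe _
  | coe a =>
    induction a using ENat.recTopCoe with
    | top =>
      have h' : ((⊤ : ℕ∞) + 1 : ℕ∞) ≤ (n : ℕ∞) := WithBot.coe_le_coe.1 hdim3
      simp at h'
    | coe a =>
      have : a + 1 ≤ n := by exact_mod_cast hdim3
      exact_mod_cast this

end GrothLib.RG6.Dev
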