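import Mathlib
import Groth.Prelude.Def_FlatCA
import Groth.Agent.Lib.RG6.Dev.Cons
import Groth.Agent.Lib.RG6.Dev.Fibre

/-!
# One step of a complete dévissage from a split slice
-/

set_option autoImplicit false
set_option linter.style.haveILetI false
set_option linter.unusedSectionVars false

universe u

open TensorProduct

namespace GrothLib.RG6.Dev

/-- Base change of a module along a slice: a module over the base-changed slice is the base change over the slice base. -/
theorem isBaseChange_slice {B T D S₁ : Type u} [CommRing B] [CommRing T] [CommRing D] [CommRing S₁]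
    [Algebra B T] [Algebra D B] [Algebra D S₁] [Algebra S₁ T] [Algebra D T] [IsScalarTower D B T] [IsScalarTower D S₁ T]
    (J : Ideal S₁) (π : B ⊗[D] (S₁ ⧸ J) →+* T ⧸ J.map (algebraMap S₁ T))
    (τ : T →+* B ⊗[D] (S₁ ⧸ J)) (hπτ : π.comp τ = Ideal.Quotient.mk _)
    (hπl : ∀ b : B, π (b ⊗ₜ 1) = Ideal.Quotient.mk _ (algebraMap B T b))
    (hπr : ∀ s : S₁, π ((1 : B) ⊗ₜ Ideal.Quotient.mk J s) = Ideal.Quotient.mk _ (algebraMap S₁ T s))
    (hτB : ∀ b : B, τ (algebraMap B T b) = b ⊗ₜ 1)
    (hτS : ∀ s : S₁, τ (algebraMap S₁ T s) = (1 : B) ⊗ₜ Ideal.Quotient.mk J s)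
    (N₁ : Type u) [AddCommGroup N₁] [Module S₁ N₁] [Module D N₁] [IsScalarTower D S₁ N₁]
    (hJN : J ≤ Module.annihilator S₁ N₁)
    (NT : Type u) [AddCommGroup NT] [Module T NT] [Module S₁ NT] [IsScalarTower S₁ T NT]
    [Module B NT] [IsScalarTower B T NT] [Module D NT] [IsScalarTower D B NT] [IsScalarTower D S₁ NT]
    (f : N₁ →ₗ[S₁] NT) (hf : IsBaseChange T f) :
    IsBaseChange B (f.restrictScalars D) := by
  let C := S₁ ⧸ J
  let fD : N₁ →ₗ[D] NT := f.restrictScalars D
  -- torsion of the modules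
  have htorN : Module.IsTorsionBySet S₁ N₁ (J : Set S₁) := by
    rw [Module.isTorsionBySet_iff_subset_annihilator]; exact hJN
  letI : Module C N₁ := htorN.module
  haveI : IsScalarTower S₁ C N₁ := htorN.isScalarTower
  haveI : IsScalarTower D C N₁ := IsScalarTower.of_algebraMap_smul fun d m => by
    rw [IsScalarTower.algebraMap_apply D S₁ C, algebraMap_smul, algebraMap_smul]
  let JT := J.map (algebraMap S₁ T)
  have htorT : ∀ t ∈ JT, ∀ w : NT, t • w = 0 := by
    intro t ht
    induction ht using Submodule.span_induction with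
    | mem t ht =>
      obtain ⟨s, hs, rfl⟩ := ht
      intro w
      induction w using hf.inductionOn with
      | zero => rw [smul_zero]
      | tmul m => rw [algebraMap_smul, ← map_smul, Module.mem_annihilator.1 (hJN hs) m, map_zero]
      | smul a w hw => rw [smul_comm, hw, smul_zero]
      | add a b ha hb => rw [smul_add, ha, hb, add_zero]
    | zero => intro w; rw [zero_smul]
    | add a b _ _ ha hb => intro w; rw [add_smul, ha, hb, add_zero]
    | smul a b _ hb => intro w; rw [smul_assoc, hb, smul_zero]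
  -- the inverse
  let X := B ⊗[D] N₁
  let lB : B →ₐ[D] Module.End D X :=
    { toFun := fun b => LinearMap.rTensor N₁ (LinearMap.mulLeft D b)
      map_one' := by ext a m; simp
      map_mul' := fun a b => by ext c m; simp [mul_assoc]
      map_zero' := by ext c m; simp
      map_add' := fun a b => by ext c m; simp [add_mul, TensorProduct.add_tmul]
      commutes' := fun d => by ext c m; simp [Algebra.algebraMap_eq_smul_one, ← TensorProduct.smul_tmul'] }
  let lC : C →ₐ[D] Module.End D X :=
    { toFun := fun c => LinearMap.lTensor B (DistribSMul.toLinearMap D N₁ c)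
      map_one' := by ext a m; simp
      map_mul' := fun a b => by ext c m; simp [mul_smul]
      map_zero' := by ext c m; simp
      map_add' := fun a b => by ext c m; simp [add_smul, TensorProduct.tmul_add]
      commutes' := fun d => by ext c m; simp [Algebra.algebraMap_eq_smul_one] }
  let ρ : B ⊗[D] C →ₐ[D] Module.End D X := Algebra.TensorProduct.lift lB lC fun b c => by
    show lB b * lC c = lC c * lB b
    ext a m
    simp [lB, lC]
  have hρ : ∀ (b : B) (c : C) (a : B) (m : N₁), ρ (b ⊗ₜ c) (a ⊗ₜ m) = (b * a) ⊗ₜ (c • m) := fun b c a m => by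
    show (ρ (b ⊗ₜ c)) (a ⊗ₜ m) = _
    rw [show ρ (b ⊗ₜ c) = lB b * lC c from Algebra.TensorProduct.lift_tmul _ _ _ b c, Module.End.mul_apply]
    rfl
  letI : Module T X := Module.compHom X (ρ.toRingHom.comp τ)
  letI : Module S₁ X := Module.compHom X (algebraMap S₁ T)
  haveI : IsScalarTower S₁ T X := IsScalarTower.of_algebraMap_smul fun _ _ => rfl
  let h : N₁ →ₗ[S₁] X :=
    { toFun := fun m => (1 : B) ⊗ₜ m
      map_add' := fun a b => TensorProduct.tmul_add _ _ _
      map_smul' := fun s m => by
        show (1 : B) ⊗ₜ[D] (s • m) = ρ (τ (algebraMap S₁ T s)) ((1 : B) ⊗ₜ m)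
        rw [hτS, hρ, one_mul, ← algebraMap_smul (S₁ ⧸ J) s m]
        rfl }
  let inv : NT →ₗ[T] X := hf.lift h
  have hinvf : ∀ m, inv (f m) = (1 : B) ⊗ₜ m := hf.lift_eq h
  let g : X →ₗ[B] NT := fD.liftBaseChange B
  have hg : ∀ (b : B) (m : N₁), g (b ⊗ₜ m) = b • f m := fun b m => LinearMap.liftBaseChange_tmul B fD b m
  have hleft : ∀ x, inv (g x) = x := fun x => by
    induction x using TensorProduct.induction_on with
    | zero => rw [map_zero, map_zero]
    | tmul b m =>
      rw [hg, ← algebraMap_smul T b (f m), map_smul, hinvf]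
      show ρ (τ (algebraMap B T b)) ((1 : B) ⊗ₜ m) = b ⊗ₜ m
      rw [hτB, hρ, mul_one, one_smul]
    | add a b ha hb => rw [map_add, map_add, ha, hb]
  have htor' : Module.IsTorsionBySet T NT (JT : Set T) := fun w a => htorT a.1 a.2 w
  letI : Module (T ⧸ JT) NT := htor'.module
  haveI : IsScalarTower T (T ⧸ JT) NT := htor'.isScalarTower
  have hmk : ∀ (t : T) (w : NT), Ideal.Quotient.mk JT t • w = t • w := fun t w => algebraMap_smul (T ⧸ JT) t w
  have hrange : ∀ (z : B ⊗[D] C) (w : NT), w ∈ LinearMap.range g → π z • w ∈ LinearMap.range g := by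
    intro z w hw
    induction z using TensorProduct.induction_on with
    | zero => rw [map_zero, zero_smul]; exact zero_mem _
    | tmul b c =>
      obtain ⟨s, rfl⟩ := Ideal.Quotient.mk_surjective c
      rw [show b ⊗ₜ[D] Ideal.Quotient.mk J s = (b ⊗ₜ[D] (1 : C)) * ((1 : B) ⊗ₜ[D] Ideal.Quotient.mk J s) by
        rw [Algebra.TensorProduct.tmul_mul_tmul, mul_one, one_mul], map_mul, mul_smul, hπl, hπr, hmk, hmk,
        algebraMap_smul, algebraMap_smul]
      refine Submodule.smul_mem _ b ?_
      obtain ⟨x, rfl⟩ := hw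
      induction x using TensorProduct.induction_on with
      | zero => rw [map_zero, smul_zero]; exact zero_mem _
      | tmul a m =>
        rw [hg, ← algebraMap_smul T a (f m), ← algebraMap_smul T s, smul_comm, algebraMap_smul, algebraMap_smul, ← map_smul]
        exact Submodule.smul_mem _ a ⟨(1 : B) ⊗ₜ (s • m), by rw [hg, one_smul]⟩
      | add a b ha hb => rw [map_add, smul_add]; exact add_mem ha hb
    | add a b ha hb => rw [map_add, add_smul]; exact add_mem ha hb
  have hsurj : Function.Surjective g := fun w => by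
    induction w using hf.inductionOn with
    | zero => exact ⟨0, map_zero g⟩
    | tmul m => exact ⟨(1 : B) ⊗ₜ m, by rw [hg, one_smul]⟩
    | smul t w hw =>
      show t • w ∈ LinearMap.range g
      rw [← hmk, ← show π (τ t) = Ideal.Quotient.mk JT t from RingHom.congr_fun hπτ t]
      exact hrange (τ t) w hw
    | add a b ha hb =>
      obtain ⟨a', rfl⟩ := ha
      obtain ⟨b', rfl⟩ := hb
      exact ⟨a' + b', map_add g _ _⟩
  exact IsBaseChange.of_equiv (LinearEquiv.ofBijective g ⟨Function.LeftInverse.injective hleft, hsurj⟩) fun m => by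
    show g ((1 : B) ⊗ₜ m) = f m
    rw [hg, one_smul]

/-- The cokernel of a map of free modules commutes with base change. -/
theorem isBaseChange_coker {B D : Type u} [CommRing B] [CommRing D] [Algebra D B] {N₁ NT : Type u} [AddCommGroup N₁]
    [AddCommGroup NT] [Module D N₁] [Module B NT] [Module D NT] [IsScalarTower D B NT] (fD : N₁ →ₗ[D] NT)
    (hfD : IsBaseChange B fD) {r : ℕ} (v : Fin r → N₁) :
    ∃ f₃ : (N₁ ⧸ LinearMap.range (Fintype.linearCombination D v)) →ₗ[D]
        NT ⧸ LinearMap.range (Fintype.linearCombination B (fD ∘ v)), IsBaseChange B f₃ := by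
  classical
  let P := LinearMap.range (Fintype.linearCombination D v)
  let Q := LinearMap.range (Fintype.linearCombination B (fD ∘ v))
  have hsingle : ∀ i, fD (v i) ∈ Q := fun i => ⟨Pi.single i 1, by simp⟩
  have hvP : ∀ i, v i ∈ P := fun i => ⟨Pi.single i 1, by simp⟩
  let f₃ : (N₁ ⧸ P) →ₗ[D] NT ⧸ Q := P.liftQ ((Q.mkQ.restrictScalars D).comp fD) (by
    rintro _ ⟨c, rfl⟩
    show Q.mkQ (fD (Fintype.linearCombination D v c)) = 0
    rw [Fintype.linearCombination_apply, map_sum, map_sum]
    refine Finset.sum_eq_zero fun i _ => ?_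
    rw [map_smul, ← algebraMap_smul B (c i) (fD (v i)), map_smul, Submodule.mkQ_apply,
      (Submodule.Quotient.mk_eq_zero Q).2 (hsingle i), smul_zero])
  let g := f₃.liftBaseChange B
  have hg : ∀ (b : B) (m : N₁), g (b ⊗ₜ P.mkQ m) = b • Q.mkQ (fD m) := fun b m => by
    rw [LinearMap.liftBaseChange_tmul]; rfl
  let l : NT →ₗ[B] B ⊗[D] (N₁ ⧸ P) := (P.mkQ.baseChange B).comp hfD.equiv.symm.toLinearMap
  have hl : ∀ m, l (fD m) = (1 : B) ⊗ₜ P.mkQ m := fun m => by
    show P.mkQ.baseChange B (hfD.equiv.symm (fD m)) = _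
    rw [show fD m = hfD.equiv ((1 : B) ⊗ₜ m) by rw [hfD.equiv_tmul, one_smul], LinearEquiv.symm_apply_apply,
      LinearMap.baseChange_tmul]
  let inv : (NT ⧸ Q) →ₗ[B] B ⊗[D] (N₁ ⧸ P) := Q.liftQ l (by
    rintro _ ⟨c, rfl⟩
    show l _ = 0
    rw [Fintype.linearCombination_apply, map_sum]
    refine Finset.sum_eq_zero fun i _ => ?_
    rw [map_smul, Function.comp_apply, hl, Submodule.mkQ_apply, (Submodule.Quotient.mk_eq_zero P).2 (hvP i),
      TensorProduct.tmul_zero, smul_zero])
  refine ⟨f₃, IsBaseChange.of_equiv (LinearEquiv.ofBijective g ⟨Function.LeftInverse.injective (g := inv) fun x => ?_, ?_⟩)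
    fun m => ?_⟩
  · induction x using TensorProduct.induction_on with
    | zero => rw [map_zero, map_zero]
    | tmul b m =>
      obtain ⟨m, rfl⟩ := P.mkQ_surjective m
      rw [hg, map_smul]
      show b • l (fD m) = _
      rw [hl, TensorProduct.smul_tmul', smul_eq_mul, mul_one]
    | add a b ha hb => rw [map_add, map_add, ha, hb]
  · intro w
    obtain ⟨w, rfl⟩ := Q.mkQ_surjective w
    induction w using hfD.inductionOn with
    | zero => exact ⟨0, by rw [map_zero, map_zero]⟩
    | tmul m => exact ⟨(1 : B) ⊗ₜ P.mkQ m, by rw [hg, one_smul]⟩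
    | smul b w hw =>
      obtain ⟨x, hx⟩ := hw
      exact ⟨b • x, by rw [map_smul, hx, map_smul]⟩
    | add a b ha hb =>
      obtain ⟨a', ha⟩ := ha
      obtain ⟨b', hb⟩ := hb
      exact ⟨a' + b', by rw [map_add, map_add, ha, hb]⟩
  · show g ((1 : B) ⊗ₜ m) = f₃ m
    rw [LinearMap.liftBaseChange_tmul, one_smul]

/-- A basis of a fibre stays a basis in a larger fibre after base change. -/
theorem bijective_fibre_map {B D : Type u} [CommRing B] [CommRing D] [Algebra D B] {N₁ NT : Type u} [AddCommGroup N₁]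
    [AddCommGroup NT] [Module D N₁] [Module B NT] [Module D NT] [IsScalarTower D B NT] (fD : N₁ →ₗ[D] NT)
    (hfD : IsBaseChange B fD) (ξ : Ideal D) [ξ.IsPrime] (η : Ideal B) [η.IsPrime] (hη : η.comap (algebraMap D B) = ξ)
    {r : ℕ} (v : Fin r → N₁) (b : Module.Basis (Fin r) ξ.ResidueField (ξ.ResidueField ⊗[D] N₁))
    (hb : ∀ i, b i = (1 : ξ.ResidueField) ⊗ₜ v i) :
    Function.Bijective ((Fintype.linearCombination B (fD ∘ v)).baseChange η.ResidueField) ∧
      (0 < r → Module.annihilator B NT ≤ η) := by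
  classical
  let k := ξ.ResidueField
  let K := η.ResidueField
  let m := Ideal.ResidueField.mapₐ ξ η (Algebra.ofId D B) hη.symm
  letI : Algebra k K := m.toRingHom.toAlgebra
  haveI : IsScalarTower D k K := IsScalarTower.of_algebraMap_eq fun d => (m.commutes d).symm
  have hK : IsBaseChange K (((TensorProduct.mk B K NT 1).restrictScalars D).comp fD) :=
    hfD.comp (TensorProduct.isBaseChange B NT K)
  let e : K ⊗[k] (k ⊗[D] N₁) ≃ₗ[K] K ⊗[B] NT :=
    (TensorProduct.AlgebraTensorModule.cancelBaseChange D k K K N₁).trans hK.equiv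
  let w := (Algebra.TensorProduct.basis K b).map e
  have hw : ∀ i, w i = (1 : K) ⊗ₜ[B] fD (v i) := fun i => by
    simp only [w, e, Module.Basis.map_apply, Algebra.TensorProduct.basis_apply, hb, LinearEquiv.trans_apply]
    rw [TensorProduct.AlgebraTensorModule.cancelBaseChange_tmul, one_smul, hK.equiv_tmul, one_smul]
    rfl
  let u := Algebra.TensorProduct.basis K (Pi.basisFun B (Fin r))
  have hL : (Fintype.linearCombination B (fD ∘ v)).baseChange K = (u.equiv w (Equiv.refl _)).toLinearMap := by
    refine u.ext fun i => ?_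
    rw [LinearEquiv.coe_coe, Module.Basis.equiv_apply, Equiv.refl_apply, hw]
    simp [u]
  refine ⟨by rw [hL]; exact (u.equiv w (Equiv.refl _)).bijective, fun hr a ha => ?_⟩
  have h0 : algebraMap B K a • w ⟨0, hr⟩ = 0 := by
    rw [hw, algebraMap_smul, ← TensorProduct.tmul_smul, Module.mem_annihilator.1 ha, TensorProduct.tmul_zero]
  exact Ideal.algebraMap_residueField_eq_zero.1 ((smul_eq_zero.1 h0).resolve_right (w.ne_zero _))

/-- One step of a complete dévissage from a split slice, given the dévissage of the cokernel. -/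
theorem complete_step {R : Type u} [CommRing R] (p : Ideal R) [p.IsPrime] {B T D S₁ : Type u}
    [CommRing B] [CommRing T] [CommRing D] [CommRing S₁]
    [Algebra R B] [Algebra B T] [Algebra R T] [IsScalarTower R B T] [Algebra D B] [Algebra D S₁] [Algebra S₁ T]
    [Algebra D T] [IsScalarTower D B T] [IsScalarTower D S₁ T]
    (J : Ideal S₁) (hJfg : J.FG) [Module.Finite D (S₁ ⧸ J)]
    (y : Ideal D) [y.IsPrime] (q₁ : Ideal S₁) [q₁.IsPrime] (hJq : J ≤ q₁)
    (huniq : ∀ z : Ideal (S₁ ⧸ J), z.IsPrime → z.LiesOver y → z = q₁.map (Ideal.Quotient.mk J))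
    (qB : Ideal B) [qB.IsPrime] [qB.LiesOver p] [qB.LiesOver y]
    (hyb : Function.Bijective (Ideal.ResidueField.mapₐ y qB (Algebra.ofId D B) (qB.over_def y)))
    (qT : Ideal T) [qT.IsPrime] [qT.LiesOver qB] [qT.LiesOver q₁]
    (hext : ∀ (X : Type u) [CommRing X] (a b : T →+* X), a.comp (algebraMap B T) = b.comp (algebraMap B T) →
      a.comp (algebraMap S₁ T) = b.comp (algebraMap S₁ T) → a = b)
    (τ : T →+* B ⊗[D] (S₁ ⧸ J)) (hτB : ∀ b : B, τ (algebraMap B T b) = b ⊗ₜ 1)
    (hτS : ∀ s : S₁, τ (algebraMap S₁ T s) = (1 : B) ⊗ₜ Ideal.Quotient.mk J s)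
    {n : ℕ} (hsm : FlatCA.SmoothRelDim n R B) (hgeo : FlatCA.GeomIntegralFibres R B)
    (hpt : FlatCA.PurelyTranscendental p qB)
    (N₁ : Type u) [AddCommGroup N₁] [Module S₁ N₁] [Module D N₁] [IsScalarTower D S₁ N₁] [Module.Finite S₁ N₁]
    (hJN : J ≤ Module.annihilator S₁ N₁)
    (NT : Type u) [AddCommGroup NT] [Module T NT] [Module S₁ NT] [IsScalarTower S₁ T NT]
    (f : N₁ →ₗ[S₁] NT) (hf : IsBaseChange T f)
    (ξ : Ideal D) [ξ.IsPrime] (hξ : (p.map (algebraMap R B)).comap (algebraMap D B) = ξ)
    {r : ℕ} (v : Fin r → N₁) (b : Module.Basis (Fin r) ξ.ResidueField (ξ.ResidueField ⊗[D] N₁))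
    (hb : ∀ i, b i = (1 : ξ.ResidueField) ⊗ₜ v i) (hr : 0 < r)
    (lower : ∀ (M₃ : Type u) [AddCommGroup M₃] [Module B M₃] [Module D M₃] [IsScalarTower D B M₃]
      (f₃ : (N₁ ⧸ LinearMap.range (Fintype.linearCombination D v)) →ₗ[D] M₃), IsBaseChange B f₃ →
        Subsingleton M₃ ∨ FlatCA.HasCompleteDevissageAt R B M₃ p qB) :
    FlatCA.HasCompleteDevissageAt R T NT p qT := by
  classical
  let C := S₁ ⧸ J
  let JT := J.map (algebraMap S₁ T)
  let A := T ⧸ JT
  let cC : C →ₐ[D] A := Ideal.Quotient.liftₐ J ((IsScalarTower.toAlgHom D T A).comp (IsScalarTower.toAlgHom D S₁ T))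
    fun a ha => Ideal.Quotient.eq_zero_iff_mem.2 (Ideal.mem_map_of_mem _ ha)
  let π : B ⊗[D] C →ₐ[B] A := Algebra.TensorProduct.lift (Algebra.ofId B A) cC fun _ _ => Commute.all _ _
  have hπl : ∀ b : B, π (b ⊗ₜ 1) = Ideal.Quotient.mk JT (algebraMap B T b) := fun b => by simp [π]; rfl
  have hπr : ∀ s : S₁, π ((1 : B) ⊗ₜ Ideal.Quotient.mk J s) = Ideal.Quotient.mk JT (algebraMap S₁ T s) := fun s => by
    simp [π]; rfl
  have hπτ : π.toRingHom.comp τ = Ideal.Quotient.mk JT := hext A _ _
    (RingHom.ext fun b => by show π (τ (algebraMap B T b)) = _; rw [hτB, hπl]; rfl)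
    (RingHom.ext fun s => by show π (τ (algebraMap S₁ T s)) = _; rw [hτS, hπr]; rfl)
  have hπsurj : Function.Surjective π := fun a => by
    obtain ⟨t, rfl⟩ := Ideal.Quotient.mk_surjective a
    exact ⟨τ t, RingHom.congr_fun hπτ t⟩
  haveI : Module.Finite B A := Module.Finite.of_surjective π.toLinearMap hπsurj
  have hJT : JT ≤ qT := Ideal.map_le_iff_le_comap.2 (hJq.trans (qT.over_def q₁).le)
  let z : Ideal A := qT.map (Ideal.Quotient.mk JT)
  haveI : z.IsPrime := Ideal.map_isPrime_of_surjective Ideal.Quotient.mk_surjective (by rwa [Ideal.mk_ker])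
  have hzT : z.comap (Ideal.Quotient.mk JT) = qT := by
    rw [Ideal.comap_map_of_surjective _ Ideal.Quotient.mk_surjective, ← RingHom.ker_eq_comap_bot, Ideal.mk_ker,
      sup_eq_left.2 hJT]
  haveI hzB : z.LiesOver qB := ⟨by
    show qB = z.comap ((Ideal.Quotient.mk JT).comp (algebraMap B T))
    rw [← Ideal.comap_comap, hzT]
    exact qT.over_def qB⟩
  have huniqA : ∀ (Q : Ideal A) [Q.IsPrime], Q.LiesOver qB → Q = z := by
    have key : ∀ (Q : Ideal A) [Q.IsPrime], Q.LiesOver qB →
        (Q.comap π.toRingHom).comap (Algebra.TensorProduct.includeRight (R := D) (A := B) (B := C)).toRingHom =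
          q₁.map (Ideal.Quotient.mk J) := by
      intro Q _ hQ
      rw [Ideal.comap_comap]
      refine huniq _ (Ideal.IsPrime.comap _) ⟨?_⟩
      rw [qB.over_def y, hQ.over]
      show (Q.comap (algebraMap B A)).comap (algebraMap D B) = _
      rw [Ideal.comap_comap]
      show _ = Q.comap ((π.toRingHom.comp (Algebra.TensorProduct.includeRight (R := D) (A := B) (B := C)).toRingHom).comp (algebraMap D C))
      congr 1
      ext d
      show algebraMap B A (algebraMap D B d) = π ((1 : B) ⊗ₜ algebraMap D C d)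
      rw [show (1 : B) ⊗ₜ[D] algebraMap D C d = algebraMap D B d ⊗ₜ (1 : C) by
        rw [Algebra.algebraMap_eq_smul_one, Algebra.algebraMap_eq_smul_one, ← TensorProduct.smul_tmul], hπl]
      rfl
    have hover : ∀ (Q : Ideal A) [Q.IsPrime], Q.LiesOver qB → (Q.comap π.toRingHom).LiesOver qB := fun Q _ hQ => ⟨by
      rw [hQ.over]
      ext b
      show algebraMap B A b ∈ Q ↔ π (algebraMap B (B ⊗[D] C) b) ∈ Q
      rw [AlgHom.commutes]⟩
    intro Q _ hQ
    haveI := hover Q hQ
    haveI := hover z hzB
    haveI : (Q.comap π.toRingHom).IsPrime := Ideal.IsPrime.comap _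
    haveI : (z.comap π.toRingHom).IsPrime := Ideal.IsPrime.comap _
    exact Ideal.comap_injective_of_surjective π.toRingHom hπsurj
      (Ideal.eq_of_comap_eq_comap_of_bijective_residueFieldMap hyb (Q.comap π.toRingHom) (z.comap π.toRingHom)
        ((key Q hQ).trans (key z hzB).symm))
  -- module structures
  letI : Module B NT := Module.compHom NT (algebraMap B T)
  haveI : IsScalarTower B T NT := IsScalarTower.of_algebraMap_smul fun _ _ => rfl
  letI : Module R NT := Module.compHom NT (algebraMap R T)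
  haveI : IsScalarTower R T NT := IsScalarTower.of_algebraMap_smul fun _ _ => rfl
  haveI : IsScalarTower R B NT := IsScalarTower.of_algebraMap_smul fun c w => by
    show algebraMap B T (algebraMap R B c) • w = algebraMap R T c • w
    rw [← IsScalarTower.algebraMap_apply R B T]
  letI : Module D NT := Module.compHom NT (algebraMap D T)
  haveI : IsScalarTower D B NT := IsScalarTower.of_algebraMap_smul fun c w => by
    show algebraMap B T (algebraMap D B c) • w = algebraMap D T c • w
    rw [← IsScalarTower.algebraMap_apply D B T]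
  haveI : IsScalarTower D S₁ NT := IsScalarTower.of_algebraMap_smul fun c w => by
    rw [← algebraMap_smul T (algebraMap D S₁ c) w, ← IsScalarTower.algebraMap_apply D S₁ T]
    rfl
  haveI : Module.Finite T NT := Module.Finite.equiv hf.equiv
  have htor : Module.IsTorsionBySet T NT (JT : Set T) := by
    rw [Module.isTorsionBySet_iff_subset_annihilator]
    refine Ideal.map_le_iff_le_comap.2 fun a ha => Module.mem_annihilator.2 fun w => ?_
    induction w using hf.inductionOn with
    | zero => rw [smul_zero]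
    | tmul m => rw [algebraMap_smul, ← map_smul, Module.mem_annihilator.1 (hJN ha) m, map_zero]
    | smul a w hw => rw [smul_comm, hw, smul_zero]
    | add a b ha hb => rw [smul_add, ha, hb, add_zero]
  letI : Module A NT := htor.module
  haveI : IsScalarTower T A NT := htor.isScalarTower
  haveI : IsScalarTower B A NT := IsScalarTower.of_algebraMap_smul fun c w => by
    rw [IsScalarTower.algebraMap_apply B T A, algebraMap_smul, algebraMap_smul]
  haveI : Module.Finite A NT := Module.Finite.of_restrictScalars_finite T A NT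
  haveI : Module.Finite B NT := Module.Finite.trans A NT
  haveI : IsDomain (p.Fiber B) := isDomain_fiber p hgeo
  haveI hsmB : Algebra.Smooth R B := GrothLib.RG6.Geom.smooth_of_smoothRelDim hsm
  haveI hpB : (p.map (algebraMap R B)).IsPrime := isPrime_map p
  -- base change over `B`
  have hfD : IsBaseChange B (f.restrictScalars D) :=
    isBaseChange_slice J π.toRingHom τ hπτ hπl hπr hτB hτS N₁ hJN NT f hf
  obtain ⟨hbij, hann⟩ := bijective_fibre_map (f.restrictScalars D) hfD ξ (p.map (algebraMap R B)) hξ v b hb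
  let T₀ : TopStep R p T NT qT :=
    { A := A, B := B
      surj := Ideal.Quotient.mk_surjective
      fp := Algebra.FinitePresentation.quotient (hJfg.map _)
      finiteBA := inferInstance
      finiteN := inferInstance
      smooth := hsmB
      geomIrred := haveI := hgeo; inferInstance
      r := r
      α := Fintype.linearCombination B (f.restrictScalars D ∘ v)
      fibreIso := hbij
      qB := qB
      qA := z
      pureTrans := hpt
      uniq := fun Q _ hQ => huniqA Q hQ
      q0 := hzT
      d := n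
      relDim := hsm
      locDim := locDim_of_generic hsm NT (hann hr) qB }
  obtain ⟨f₃, hf₃⟩ := isBaseChange_coker (f.restrictScalars D) hfD v
  rcases lower _ f₃ hf₃ with h | h
  · exact T₀.single (LinearMap.range_eq_top.1 (Submodule.Quotient.subsingleton_iff.1 h))
  · exact T₀.cons h

end GrothLib.RG6.Dev
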