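import Mathlib
import Groth.Prelude.Def_FlatCA
import Groth.Agent.Lib.RG6.Dev.Step
import Groth.Agent.Lib.RG6.Dev.Nbhd

/-!
# The shrinkable form of admitting complete dévissages
-/

set_option autoImplicit false
set_option linter.style.haveILetI false
set_option linter.unusedSectionVars false

universe u

open TensorProduct

namespace GrothLib.RG6.Dev

/-- `T` is the principal open `t` of the base change. -/
def IsAwayPiece (R R₃ S T : Type u) [CommRing R] [CommRing R₃] [CommRing S] [CommRing T] [Algebra R R₃] [Algebra R S]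
    [Algebra R₃ T] [Algebra S T] [Algebra R T] [IsScalarTower R R₃ T] [IsScalarTower R S T] (t : R₃ ⊗[R] S) : Prop :=
  @IsLocalization.Away (R₃ ⊗[R] S) _ t T _ (GrothLib.RG6.Geom.pieceHom R R₃ S T).toRingHom.toAlgebra

/-- After shrinking around the point, and further étale localisations of the base, the module admits complete
dévissages at the point or vanishes. -/
def Devissable {R S : Type u} [CommRing R] [CommRing S] [Algebra R S] (p : Ideal R) [p.IsPrime] (q : Ideal S) [q.IsPrime]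
    (N : Type u) [AddCommGroup N] [Module S N] : Prop :=
  ∀ (R'' : Type u) [CommRing R''] [Algebra R R''] (p'' : Ideal R'') [p''.IsPrime], FlatCA.IsEtaleNhd R R'' p p'' →
    ∀ s : R'' ⊗[R] S, (∀ (Q : Ideal (R'' ⊗[R] S)), Q.IsPrime → Q.LiesOver p'' →
        Q.comap (Algebra.TensorProduct.includeRight (R := R) (A := R'') (B := S)).toRingHom = q → s ∉ Q) →
      ∃ g : R'', g ∉ p'' ∧ ∃ t : R'' ⊗[R] S, s ∣ t ∧ (∀ (Q : Ideal (R'' ⊗[R] S)), Q.IsPrime → Q.LiesOver p'' →
          Q.comap (Algebra.TensorProduct.includeRight (R := R) (A := R'') (B := S)).toRingHom = q → t ∉ Q) ∧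
        ∀ (R₃ : Type u) [CommRing R₃] [Algebra R'' R₃] [Algebra R R₃] [IsScalarTower R R'' R₃]
          (p₃ : Ideal R₃) [p₃.IsPrime], FlatCA.IsEtaleNhd R'' R₃ p'' p₃ → IsUnit (algebraMap R'' R₃ g) →
          ∀ (T : Type u) [CommRing T] [Algebra R₃ T] [Algebra S T] [Algebra R T] [IsScalarTower R R₃ T]
            [IsScalarTower R S T],
            IsAwayPiece R R₃ S T (Algebra.TensorProduct.map (IsScalarTower.toAlgHom R R'' R₃) (AlgHom.id R S) t) →
            ∀ (q₃ : Ideal T) [q₃.IsPrime], q₃.LiesOver p₃ → q₃.LiesOver q →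
              ∀ (N₃ : Type u) [AddCommGroup N₃] [Module T N₃] [Module S N₃] [IsScalarTower S T N₃]
                (f : N →ₗ[S] N₃), IsBaseChange T f →
                Subsingleton N₃ ∨ FlatCA.HasCompleteDevissageAt R₃ T N₃ p₃ q₃

/-- A module killed outside the point is dévissable. -/
theorem devissable_of_annihilator {R S : Type u} [CommRing R] [CommRing S] [Algebra R S] (p : Ideal R) [p.IsPrime]
    (q : Ideal S) [q.IsPrime] (N : Type u) [AddCommGroup N] [Module S N] (h : ¬ Module.annihilator S N ≤ q) :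
    Devissable p q N := by
  obtain ⟨s₀, hs₀, hs₀q⟩ := SetLike.not_le_iff_exists.1 h
  intro R'' _ _ p'' _ _ s hs
  refine ⟨1, fun h => ‹p''.IsPrime›.ne_top ((Ideal.eq_top_iff_one _).2 h), s * ((1 : R'') ⊗ₜ s₀), dvd_mul_right _ _, ?_, ?_⟩
  · intro Q hQ hQp hQq hmem
    refine (hQ.mem_or_mem hmem).elim (hs Q hQ hQp hQq) fun h => hs₀q ?_
    rw [← hQq]
    exact h
  · intro R₃ _ _ _ _ p₃ _ _ _ T _ _ _ _ _ _ hT q₃ _ _ _ N₃ _ _ _ _ f hf
    left
    letI := (GrothLib.RG6.Geom.pieceHom R R₃ S T).toRingHom.toAlgebra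
    haveI : IsLocalization.Away _ T := hT
    have hu : IsUnit (GrothLib.RG6.Geom.pieceHom R R₃ S T
        (Algebra.TensorProduct.map (IsScalarTower.toAlgHom R R'' R₃) (AlgHom.id R S) (s * ((1 : R'') ⊗ₜ s₀)))) :=
      IsLocalization.Away.algebraMap_isUnit (S := T)
        (Algebra.TensorProduct.map (IsScalarTower.toAlgHom R R'' R₃) (AlgHom.id R S) (s * ((1 : R'') ⊗ₜ s₀)))
    rw [map_mul, map_mul] at hu
    have hu' : IsUnit (algebraMap S T s₀) := by
      have h2 := isUnit_of_mul_isUnit_right hu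
      rw [Algebra.TensorProduct.map_tmul, map_one, AlgHom.id_apply] at h2
      rwa [show GrothLib.RG6.Geom.pieceHom R R₃ S T ((1 : R₃) ⊗ₜ s₀) = algebraMap S T s₀ from
        (Algebra.TensorProduct.lift_tmul _ _ _ _ _).trans (by rw [map_one, one_mul]; rfl)] at h2
    have hkill : ∀ w : N₃, algebraMap S T s₀ • w = 0 := fun w => by
      induction w using hf.inductionOn with
      | zero => rw [smul_zero]
      | tmul m => rw [algebraMap_smul, ← map_smul, Module.mem_annihilator.1 hs₀ m, map_zero]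
      | smul a w hw => rw [smul_comm, hw, smul_zero]
      | add a b ha hb => rw [smul_add, ha, hb, add_zero]
    exact subsingleton_of_forall_eq 0 fun w => (hu'.smul_eq_zero).1 (hkill w)

/-- An element avoiding the only point over `qB` of a finite algebra divides a power of one from the base avoiding `qB`. -/
theorem exists_dvd_pow {B A : Type u} [CommRing B] [CommRing A] [Algebra B A] [Module.Finite B A] (qB : Ideal B)
    [qB.IsPrime] (a : A) (ha : ∀ Q : Ideal A, Q.IsPrime → Q.LiesOver qB → a ∉ Q) :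
    ∃ h ∉ qB, ∃ m : ℕ, a ∣ algebraMap B A h ^ m := by
  have hclosed : IsClosed (PrimeSpectrum.comap (algebraMap B A) '' PrimeSpectrum.zeroLocus {a}) :=
    PrimeSpectrum.isClosedMap_comap_of_isIntegral _ (algebraMap_isIntegral_iff.2 inferInstance) _
      (PrimeSpectrum.isClosed_zeroLocus _)
  have hmem : (⟨qB, ‹_›⟩ : PrimeSpectrum B) ∈ (PrimeSpectrum.comap (algebraMap B A) '' PrimeSpectrum.zeroLocus {a})ᶜ := by
    rintro ⟨Q, hQ, hQq⟩
    exact ha Q.asIdeal Q.2 ⟨(congrArg PrimeSpectrum.asIdeal hQq).symm⟩ (hQ rfl)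
  obtain ⟨_, ⟨h, rfl⟩, hh, hsub⟩ :=
    PrimeSpectrum.isTopologicalBasis_basic_opens.exists_subset_of_mem_open hmem hclosed.isOpen_compl
  refine ⟨h, hh, ?_⟩
  have hrad : algebraMap B A h ∈ (Ideal.span {a}).radical := by
    rw [Ideal.radical_eq_sInf, Ideal.mem_sInf]
    rintro Q ⟨hQa, hQ⟩
    by_contra hn
    exact hsub hn ⟨⟨Q, hQ⟩, fun x hx => by rw [hx]; exact hQa (Ideal.mem_span_singleton_self _), rfl⟩
  obtain ⟨m, hm⟩ := hrad
  exact ⟨m, Ideal.mem_span_singleton.1 hm⟩

/-- A principal open around the point is an étale neighbourhood of it. -/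
theorem isEtaleNhd_away {A : Type u} [CommRing A] (A₀ : Type u) [CommRing A₀] [Algebra A A₀] (g : A)
    [IsLocalization.Away g A₀] (p : Ideal A) [p.IsPrime] (p₀ : Ideal A₀) [p₀.IsPrime]
    (hp : p₀.comap (algebraMap A A₀) = p) : FlatCA.IsEtaleNhd A A₀ p p₀ := by
  refine GrothLib.RG6.Geom.isEtaleNhd_of_localization g hp ⟨inferInstance, ⟨(Ideal.comap_id p₀).symm⟩, ?_⟩
  have hover : p₀.LiesOver p₀ := ⟨(Ideal.comap_id p₀).symm⟩
  refine ⟨RingHom.injective (Ideal.ResidueField.mapₐ p₀ p₀ (Algebra.ofId A₀ A₀) hover.over).toRingHom, fun z => ⟨z, ?_⟩⟩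
  refine RingHom.congr_fun (f := (Ideal.ResidueField.mapₐ p₀ p₀ (Algebra.ofId A₀ A₀) hover.over).toRingHom)
    (g := RingHom.id _) (Ideal.ResidueField.ringHom_ext (RingHom.ext fun r => ?_)) z
  exact (Ideal.ResidueField.mapₐ p₀ p₀ (Algebra.ofId A₀ A₀) hover.over).commutes r

/-- A point over a given point of the base and off an element. -/
theorem exists_point_baseChange {R R'' R₃ D : Type u} [CommRing R] [CommRing R''] [CommRing R₃] [CommRing D]
    [Algebra R R''] [Algebra R'' R₃] [Algebra R R₃] [IsScalarTower R R'' R₃] [Algebra R D] (t : R'' ⊗[R] D)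
    (x : PrimeSpectrum (R'' ⊗[R] D)) (hx : t ∉ x.asIdeal) (a : PrimeSpectrum R₃)
    (hxa : x.asIdeal.comap (algebraMap R'' (R'' ⊗[R] D)) = a.asIdeal.comap (algebraMap R'' R₃)) :
    ∃ z : PrimeSpectrum (R₃ ⊗[R] D), PrimeSpectrum.comap (algebraMap R₃ _) z = a ∧
      Algebra.TensorProduct.map (IsScalarTower.toAlgHom R R'' R₃) (AlgHom.id R D) t ∉ z.asIdeal := by
  let L := a.asIdeal.ResidueField
  have hker : x.asIdeal.comap (algebraMap R'' (R'' ⊗[R] D)) = RingHom.ker (algebraMap R'' L) := by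
    rw [hxa]
    ext r
    show algebraMap R'' R₃ r ∈ a.asIdeal ↔ algebraMap R'' L r = 0
    rw [IsScalarTower.algebraMap_apply R'' R₃ L, Ideal.algebraMap_residueField_eq_zero]
  obtain ⟨z, hz⟩ := GrothLib.RG6.Geom.exists_point_over L x hker t hx
  obtain ⟨φ, hφ⟩ := GrothLib.RG6.Geom.exists_pushout_lift (k := R)
    ((Algebra.TensorProduct.includeLeftRingHom : L →+* L ⊗[R''] (R'' ⊗[R] D)).comp (algebraMap R₃ L))
    (((Algebra.TensorProduct.includeRight : R'' ⊗[R] D →ₐ[R''] L ⊗[R''] (R'' ⊗[R] D)).toRingHom).comp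
      (Algebra.TensorProduct.includeRight : D →ₐ[R] R'' ⊗[R] D).toRingHom) (fun c => by
      show algebraMap R₃ L (algebraMap R R₃ c) ⊗ₜ[R''] (1 : R'' ⊗[R] D) =
        (Algebra.TensorProduct.includeRight : R'' ⊗[R] D →ₐ[R''] L ⊗[R''] (R'' ⊗[R] D))
          ((Algebra.TensorProduct.includeRight : D →ₐ[R] R'' ⊗[R] D) (algebraMap R D c))
      rw [AlgHom.commutes, IsScalarTower.algebraMap_apply R R'' (R'' ⊗[R] D), AlgHom.commutes,
        IsScalarTower.algebraMap_apply R R'' R₃]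
      rfl)
  refine ⟨PrimeSpectrum.comap φ z, PrimeSpectrum.ext (Ideal.ext fun c => ?_), ?_⟩
  · show φ (c ⊗ₜ[R] (1 : D)) ∈ z.asIdeal ↔ c ∈ a.asIdeal
    rw [hφ, map_one, mul_one]
    show algebraMap L (L ⊗[R''] (R'' ⊗[R] D)) (algebraMap R₃ L c) ∈ z.asIdeal ↔ _
    refine ⟨fun h => ?_, fun h => by rw [Ideal.algebraMap_residueField_eq_zero.2 h, map_zero]; exact zero_mem _⟩
    by_contra hn
    exact z.2.ne_top (Ideal.eq_top_of_isUnit_mem _ h
      ((isUnit_iff_ne_zero.2 (Ideal.algebraMap_residueField_eq_zero.not.2 hn)).map _))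
  · show φ _ ∉ z.asIdeal
    have h : φ.comp (Algebra.TensorProduct.map (IsScalarTower.toAlgHom R R'' R₃) (AlgHom.id R D)).toRingHom =
        (Algebra.TensorProduct.includeRight : R'' ⊗[R] D →ₐ[R''] L ⊗[R''] (R'' ⊗[R] D)).toRingHom := by
      refine Algebra.TensorProduct.ringHom_ext (RingHom.ext fun c => ?_) (RingHom.ext fun d => ?_)
      · show φ (Algebra.TensorProduct.map (IsScalarTower.toAlgHom R R'' R₃) (AlgHom.id R D) (c ⊗ₜ[R] (1 : D))) = _
        rw [Algebra.TensorProduct.map_tmul, hφ, map_one, map_one, mul_one]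
        exact ((Algebra.TensorProduct.includeRight : R'' ⊗[R] D →ₐ[R''] L ⊗[R''] (R'' ⊗[R] D)).commutes c).symm
      · show φ (Algebra.TensorProduct.map (IsScalarTower.toAlgHom R R'' R₃) (AlgHom.id R D) ((1 : R'') ⊗ₜ[R] d)) = _
        rw [Algebra.TensorProduct.map_tmul, map_one, hφ, map_one, one_mul]
        rfl
    rw [show φ (Algebra.TensorProduct.map (IsScalarTower.toAlgHom R R'' R₃) (AlgHom.id R D) t) = (1 : L) ⊗ₜ[R''] t from
      RingHom.congr_fun h t]
    exact hz

end GrothLib.RG6.Dev
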