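import Mathlib
import Groth.Prelude.Def_FlatCA
import Groth.Agent.Lib.RG6.Dev.Devissable
import Groth.Agent.Lib.RG6.Geom.Nhd

/-!
# Propagating dévissability through one elementary step
-/

set_option autoImplicit false
set_option linter.style.haveILetI false
set_option linter.unusedSectionVars false
set_option maxHeartbeats 1000000

universe u

open TensorProduct

attribute [local instance] Algebra.TensorProduct.rightAlgebra

namespace GrothLib.RG6.Dev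

open GrothLib.RG6.Geom (pieceHom exists_pushout_lift)

/-- The value of the piece map on a pure tensor. -/
theorem pieceHom_tmul (R R' D D' : Type u) [CommRing R] [CommRing R'] [CommRing D] [CommRing D'] [Algebra R R']
    [Algebra R D] [Algebra R' D'] [Algebra D D'] [Algebra R D'] [IsScalarTower R R' D'] [IsScalarTower R D D']
    (a : R') (b : D) : pieceHom R R' D D' (a ⊗ₜ b) = algebraMap R' D' a * algebraMap D D' b :=
  Algebra.TensorProduct.lift_tmul _ _ _ a b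

/-- Maps out of a principal open of a base change are determined on the factors. -/
theorem piece_hom_ext {R R₃ S T X : Type u} [CommRing R] [CommRing R₃] [CommRing S] [CommRing T] [CommRing X]
    [Algebra R R₃] [Algebra R S] [Algebra R₃ T] [Algebra S T] [Algebra R T] [IsScalarTower R R₃ T] [IsScalarTower R S T]
    {t : R₃ ⊗[R] S} (h : IsAwayPiece R R₃ S T t) {a b : T →+* X} (h₁ : a.comp (algebraMap R₃ T) = b.comp (algebraMap R₃ T))
    (h₂ : a.comp (algebraMap S T) = b.comp (algebraMap S T)) : a = b := by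
  letI := (pieceHom R R₃ S T).toRingHom.toAlgebra
  haveI : IsLocalization.Away t T := h
  refine IsLocalization.ringHom_ext (Submonoid.powers t) (Algebra.TensorProduct.ringHom_ext (RingHom.ext fun r => ?_)
    (RingHom.ext fun s => ?_))
  · show a (pieceHom R R₃ S T (r ⊗ₜ 1)) = b (pieceHom R R₃ S T (r ⊗ₜ 1))
    rw [pieceHom_tmul, map_one, mul_one]
    exact RingHom.congr_fun h₁ r
  · show a (pieceHom R R₃ S T (1 ⊗ₜ s)) = b (pieceHom R R₃ S T (1 ⊗ₜ s))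
    rw [pieceHom_tmul, map_one, one_mul]
    exact RingHom.congr_fun h₂ s

/-- Existence of maps out of a principal open of a base change. -/
theorem exists_piece_lift {R R₃ S T X : Type u} [CommRing R] [CommRing R₃] [CommRing S] [CommRing T] [CommRing X]
    [Algebra R R₃] [Algebra R S] [Algebra R₃ T] [Algebra S T] [Algebra R T] [IsScalarTower R R₃ T] [IsScalarTower R S T]
    {t : R₃ ⊗[R] S} (h : IsAwayPiece R R₃ S T t) (φ : R₃ ⊗[R] S →+* X) (hφ : IsUnit (φ t)) :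
    ∃ ψ : T →+* X, ∀ z, ψ (pieceHom R R₃ S T z) = φ z := by
  letI := (pieceHom R R₃ S T).toRingHom.toAlgebra
  haveI : IsLocalization.Away t T := h
  exact ⟨IsLocalization.Away.lift t hφ, fun z => IsLocalization.Away.lift_eq t hφ z⟩

/-- One step of the recursion. -/
theorem devissable_step {R₁ D S₁ R₂ D₂ : Type u} [CommRing R₁] [CommRing D] [CommRing S₁] [CommRing R₂] [CommRing D₂]
    [Algebra R₁ D] [Algebra D S₁] [Algebra R₁ S₁] [IsScalarTower R₁ D S₁] [Algebra R₁ R₂] [Algebra R₂ D₂]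
    [Algebra D D₂] [Algebra R₁ D₂] [IsScalarTower R₁ R₂ D₂] [IsScalarTower R₁ D D₂]
    (p₁ : Ideal R₁) [p₁.IsPrime] (y : Ideal D) [y.IsPrime] [y.LiesOver p₁] (q₁ : Ideal S₁) [q₁.IsPrime] [q₁.LiesOver y]
    (J : Ideal S₁) (hJfg : J.FG) (hJq : J ≤ q₁) [Module.Finite D (S₁ ⧸ J)]
    (huniq : ∀ z : Ideal (S₁ ⧸ J), z.IsPrime → z.LiesOver y → z = q₁.map (Ideal.Quotient.mk J))
    (n : ℕ) (hsm : FlatCA.SmoothRelDim n R₁ D) (hpt : FlatCA.PurelyTranscendental p₁ y)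
    (p₂ : Ideal R₂) [p₂.IsPrime] (y₂ : Ideal D₂) [y₂.IsPrime] [y₂.LiesOver p₂]
    (hR₂ : FlatCA.IsEtaleNhd R₁ R₂ p₁ p₂) (hD₂ : FlatCA.IsEtaleNhd D D₂ y y₂)
    (N₁ : Type u) [AddCommGroup N₁] [Module S₁ N₁] [Module D N₁] [IsScalarTower D S₁ N₁] [Module.Finite S₁ N₁]
    (hJN : J ≤ Module.annihilator S₁ N₁) [(p₁.map (algebraMap R₁ D)).IsPrime]
    {r : ℕ} (v : Fin r → N₁)
    (b : Module.Basis (Fin r) (p₁.map (algebraMap R₁ D)).ResidueField ((p₁.map (algebraMap R₁ D)).ResidueField ⊗[D] N₁))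
    (hb : ∀ i, b i = (1 : (p₁.map (algebraMap R₁ D)).ResidueField) ⊗ₜ v i) (hr : 0 < r)
    (hlow : ∀ (M₂ : Type u) [AddCommGroup M₂] [Module D₂ M₂] [Module D M₂] [IsScalarTower D D₂ M₂]
      (f₂ : (N₁ ⧸ LinearMap.range (Fintype.linearCombination D v)) →ₗ[D] M₂), IsBaseChange D₂ f₂ → Devissable p₂ y₂ M₂) :
    ∃ (R₃ S' : Type u) (_ : CommRing R₃) (_ : CommRing S') (_ : Algebra R₁ R₃) (_ : Algebra S₁ S') (_ : Algebra R₃ S')
      (p₃ : Ideal R₃) (q' : Ideal S') (_ : p₃.IsPrime) (_ : q'.IsPrime),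
      (∀ c : R₁, algebraMap R₃ S' (algebraMap R₁ R₃ c) = algebraMap S₁ S' (algebraMap R₁ S₁ c)) ∧
      FlatCA.IsEtaleNhd R₁ R₃ p₁ p₃ ∧ FlatCA.IsEtaleNhd S₁ S' q₁ q' ∧ q'.LiesOver p₃ ∧
      ∀ (N' : Type u) [AddCommGroup N'] [Module S' N'] [Module S₁ N'] [IsScalarTower S₁ S' N'] (f' : N₁ →ₗ[S₁] N'),
        IsBaseChange S' f' → Devissable p₃ q' N' := by
  classical
  haveI : Algebra.Etale R₁ R₂ := hR₂.1
  haveI : Algebra.Etale D D₂ := hD₂.1
  haveI := GrothLib.RG6.Geom.smooth_of_smoothRelDim hsm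
  have hsm₂' : FlatCA.SmoothRelDim n R₁ D₂ := smoothRelDim_of_etale (P := D) n hsm
  have hsm₂ : FlatCA.SmoothRelDim n R₂ D₂ := smoothRelDim_of_etale_base n hsm₂'
  haveI := GrothLib.RG6.Geom.smooth_of_smoothRelDim hsm₂
  obtain ⟨_, hR₂o, hR₂b⟩ := id hR₂
  obtain ⟨_, hD₂o, hD₂b⟩ := id hD₂
  have hpt₂ : FlatCA.PurelyTranscendental p₂ y₂ := purelyTranscendental_map p₁ y p₂ y₂ hR₂o hD₂o hR₂b hD₂b hpt
  obtain ⟨R₃, D₃, _, _, _, _, _, _, _, _, p₃, y₃, _, _, hy₃p₃, hR₃, hD₃, -, hint, e, heu, hext, -⟩ :=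
    GrothLib.RG6.Geom.exists_geom_nhd n hsm₂ p₂ y₂ hpt₂
  haveI : Algebra.Etale R₂ R₃ := hR₃.1
  obtain ⟨_, hR₃o, hR₃b⟩ := id hR₃
  obtain ⟨_, hD₃o, -⟩ := id hD₃
  let E := R₃ ⊗[R₂] D₂
  obtain ⟨yE, _, hyEp, hyEr, ⟨hyEy, hyEb⟩, hyEu⟩ := exists_baseChange_point (A' := R₃) p₂ p₃ hR₃o hR₃b y₂
  -- `e` avoids the point
  have he : e ∉ yE := by
    haveI : (y₃.comap (pieceHom R₂ R₃ D₂ D₃).toRingHom).IsPrime := Ideal.IsPrime.comap _
    have hQ : y₃.comap (pieceHom R₂ R₃ D₂ D₃).toRingHom = yE := by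
      refine hyEu _ inferInstance ⟨?_⟩ ?_
      · ext c
        show c ∈ p₃ ↔ pieceHom R₂ R₃ D₂ D₃ (c ⊗ₜ 1) ∈ y₃
        rw [pieceHom_tmul, map_one, mul_one]
        exact SetLike.ext_iff.1 hy₃p₃.over c
      · ext c
        show pieceHom R₂ R₃ D₂ D₃ (1 ⊗ₜ c) ∈ y₃ ↔ c ∈ y₂
        rw [pieceHom_tmul, map_one, one_mul]
        exact (SetLike.ext_iff.1 hD₃o.over c).symm
    rw [← hQ]
    exact fun h => ‹y₃.IsPrime›.ne_top (Ideal.eq_top_of_isUnit_mem _ h heu)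
  letI : Algebra D E := ((algebraMap D₂ E).comp (algebraMap D D₂)).toAlgebra
  haveI : IsScalarTower D D₂ E := IsScalarTower.of_algebraMap_eq fun _ => rfl
  have hE : FlatCA.IsEtaleNhd D E y yE := by
    haveI : Algebra.Etale D₂ E := Algebra.Etale.of_equiv
      (show D₂ ⊗[R₂] R₃ ≃ₐ[D₂] E from AlgEquiv.ofRingEquiv (f := (Algebra.TensorProduct.comm R₂ D₂ R₃).toRingEquiv) fun _ => rfl)
    exact isEtaleNhd_trans hD₂ ⟨inferInstance, hyEy, hyEb⟩
  obtain ⟨_, hyEyD, hyEbD⟩ := id hE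
  haveI : Algebra.Etale D E := hE.1
  let S' := E ⊗[D] S₁
  obtain ⟨q', _, hq'yE, hq'r, ⟨hq'q, hq'b⟩, hq'u⟩ := exists_baseChange_point (A' := E) y yE hyEyD hyEbD q₁
  letI : Algebra R₁ R₃ := ((algebraMap R₂ R₃).comp (algebraMap R₁ R₂)).toAlgebra
  haveI : IsScalarTower R₁ R₂ R₃ := IsScalarTower.of_algebraMap_eq fun _ => rfl
  have hcompat : ∀ c : R₁, algebraMap R₃ S' (algebraMap R₁ R₃ c) = algebraMap S₁ S' (algebraMap R₁ S₁ c) := fun c => by
    show (algebraMap R₂ R₃ (algebraMap R₁ R₂ c) ⊗ₜ[R₂] (1 : D₂)) ⊗ₜ[D] (1 : S₁) = (1 : E) ⊗ₜ[D] algebraMap R₁ S₁ c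
    rw [IsScalarTower.algebraMap_apply R₁ D S₁, Algebra.algebraMap_eq_smul_one (A := S₁) (algebraMap R₁ D c),
      ← TensorProduct.smul_tmul, ← Algebra.algebraMap_eq_smul_one]
    congr 1
    show _ = (1 : R₃) ⊗ₜ[R₂] algebraMap D D₂ (algebraMap R₁ D c)
    rw [← IsScalarTower.algebraMap_apply R₁ D D₂, IsScalarTower.algebraMap_apply R₁ R₂ D₂,
      Algebra.algebraMap_eq_smul_one (A := D₂) (algebraMap R₁ R₂ c), ← TensorProduct.smul_tmul,
      ← Algebra.algebraMap_eq_smul_one]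
  haveI hq'p₃ : q'.LiesOver p₃ := Ideal.LiesOver.trans q' yE p₃
  refine ⟨R₃, S', inferInstance, inferInstance, inferInstance, inferInstance, inferInstance, p₃, q', inferInstance,
    inferInstance, hcompat, isEtaleNhd_trans hR₂ hR₃, ⟨?_, hq'q, hq'b⟩, hq'p₃, ?_⟩
  · exact Algebra.Etale.of_equiv
      (show S₁ ⊗[D] E ≃ₐ[S₁] S' from AlgEquiv.ofRingEquiv (f := (Algebra.TensorProduct.comm D S₁ E).toRingEquiv) fun _ => rfl)
  intro N' _ _ _ _ f' hf'
  intro R'' _ _ p'' _ hR'' s hs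
  haveI : Algebra.Etale R₃ R'' := hR''.1
  letI : Algebra R₂ R'' := ((algebraMap R₃ R'').comp (algebraMap R₂ R₃)).toAlgebra
  haveI : IsScalarTower R₂ R₃ R'' := IsScalarTower.of_algebraMap_eq fun _ => rfl
  have hR₂'' : FlatCA.IsEtaleNhd R₂ R'' p₂ p'' := isEtaleNhd_trans hR₃ hR''
  obtain ⟨_, hR''o, -⟩ := id hR''
  obtain ⟨_, hR₂''o, hR₂''b⟩ := id hR₂''
  let E'' := R'' ⊗[R₂] D₂
  obtain ⟨y'', _, hy''p, hy''r, ⟨hy''y, hy''b⟩, hy''u⟩ := exists_baseChange_point (A' := R'') p₂ p'' hR₂''o hR₂''b y₂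
  letI : Algebra D E'' := ((algebraMap D₂ E'').comp (algebraMap D D₂)).toAlgebra
  haveI : IsScalarTower D D₂ E'' := IsScalarTower.of_algebraMap_eq fun _ => rfl
  let ε : E →ₐ[R₂] E'' := Algebra.TensorProduct.map (IsScalarTower.toAlgHom R₂ R₃ R'') (AlgHom.id R₂ D₂)
  have hεD : ∀ d : D, ε (algebraMap D E d) = algebraMap D E'' d := fun d => by
    show Algebra.TensorProduct.map _ _ ((1 : R₃) ⊗ₜ[R₂] algebraMap D D₂ d) = (1 : R'') ⊗ₜ[R₂] algebraMap D D₂ d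
    rw [Algebra.TensorProduct.map_tmul, map_one]
    rfl
  have hεy : y''.comap ε.toRingHom = yE := by
    refine hyEu _ (Ideal.IsPrime.comap _) ⟨?_⟩ ?_
    · ext c
      show c ∈ p₃ ↔ Algebra.TensorProduct.map _ _ (c ⊗ₜ[R₂] (1 : D₂)) ∈ y''
      rw [Algebra.TensorProduct.map_tmul, map_one]
      exact (SetLike.ext_iff.1 hR''o.over c).trans (SetLike.ext_iff.1 hy''p.over (algebraMap R₃ R'' c))
    · ext c
      show Algebra.TensorProduct.map _ _ ((1 : R₃) ⊗ₜ[R₂] c) ∈ y'' ↔ c ∈ y₂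
      rw [Algebra.TensorProduct.map_tmul, map_one]
      exact SetLike.ext_iff.1 hy''r c
  -- the finite slice over `E''`
  let C := S₁ ⧸ J
  let q₁C : Ideal C := q₁.map (Ideal.Quotient.mk J)
  haveI : q₁C.IsPrime := Ideal.map_isPrime_of_surjective Ideal.Quotient.mk_surjective (by rwa [Ideal.mk_ker])
  have hq₁C : q₁C.comap (Ideal.Quotient.mk J) = q₁ := by
    rw [Ideal.comap_map_of_surjective _ Ideal.Quotient.mk_surjective, ← RingHom.ker_eq_comap_bot, Ideal.mk_ker,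
      sup_eq_left.2 hJq]
  haveI : q₁C.LiesOver y := ⟨by
    show y = q₁C.comap ((Ideal.Quotient.mk J).comp (algebraMap D S₁))
    rw [← Ideal.comap_comap, hq₁C]
    exact q₁.over_def y⟩
  let A'' := E'' ⊗[D] C
  have hE'' : FlatCA.IsEtaleNhd D E'' y y'' := by
    haveI : Algebra.Etale R₂ R'' := hR₂''.1
    haveI : Algebra.Etale D₂ E'' := Algebra.Etale.of_equiv
      (show D₂ ⊗[R₂] R'' ≃ₐ[D₂] E'' from AlgEquiv.ofRingEquiv (f := (Algebra.TensorProduct.comm R₂ D₂ R'').toRingEquiv) fun _ => rfl)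
    exact isEtaleNhd_trans hD₂ ⟨inferInstance, hy''y, hy''b⟩
  obtain ⟨_, hy''yD, hy''bD⟩ := id hE''
  obtain ⟨z'', _, hz''y, hz''r, -, hz''u⟩ := exists_baseChange_point (A' := E'') y y'' hy''yD hy''bD q₁C
  obtain ⟨σ', hσ'⟩ := exists_pushout_lift (k := D) (L := E) (B := S₁) (C := A'')
    ((algebraMap E'' A'').comp ε.toRingHom)
    ((Algebra.TensorProduct.includeRight : C →ₐ[D] A'').toRingHom.comp (Ideal.Quotient.mk J)) (fun d => by
      show algebraMap E'' A'' (ε (algebraMap D E d)) = (Algebra.TensorProduct.includeRight : C →ₐ[D] A'') (algebraMap D C d)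
      rw [hεD, AlgHom.commutes]
      rfl)
  have hσ'E : ∀ x : E, σ' (x ⊗ₜ[D] (1 : S₁)) = algebraMap E'' A'' (ε x) := fun x => by
    rw [hσ', map_one, mul_one]; rfl
  obtain ⟨μ, hμ⟩ := exists_pushout_lift (k := R₃) (L := R'') (B := S') (C := A'')
    ((algebraMap E'' A'').comp (algebraMap R'' E'')) σ' (fun c => by
      show algebraMap E'' A'' (algebraMap R'' E'' (algebraMap R₃ R'' c)) = σ' ((c ⊗ₜ[R₂] (1 : D₂)) ⊗ₜ[D] (1 : S₁))
      rw [hσ'E]
      congr 1)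
  have hμs : ∀ Q : Ideal A'', Q.IsPrime → Q.LiesOver y'' → μ s ∉ Q := by
    intro Q hQ hQy
    have hQC : Q.comap (Algebra.TensorProduct.includeRight (R := D) (A := E'') (B := C)).toRingHom = q₁C := by
      refine huniq _ (Ideal.IsPrime.comap _) ⟨?_⟩
      rw [hy''yD.over, hQy.over]
      ext d
      show algebraMap E'' A'' (algebraMap D E'' d) ∈ Q ↔ (Algebra.TensorProduct.includeRight : C →ₐ[D] A'') (algebraMap D C d) ∈ Q
      rw [AlgHom.commutes]
      rfl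
    have h1 : ∀ x : E, σ' (x ⊗ₜ[D] (1 : S₁)) ∈ Q ↔ x ∈ yE := fun x => by
      rw [hσ'E, ← hεy]
      exact (SetLike.ext_iff.1 hQy.over (ε x)).symm
    have h2 : Q.comap σ' = q' := by
      refine hq'u _ (Ideal.IsPrime.comap _) ⟨?_⟩ ?_
      · ext x
        exact (h1 x).symm
      · ext a
        show σ' ((1 : E) ⊗ₜ[D] a) ∈ Q ↔ a ∈ q₁
        rw [hσ', map_one, one_mul, ← hq₁C, ← hQC]
        rfl
    intro hmem
    refine hs (Q.comap μ) (Ideal.IsPrime.comap _) ⟨?_⟩ ?_ hmem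
    · ext c
      show c ∈ p'' ↔ μ (c ⊗ₜ[R₃] (1 : S')) ∈ Q
      rw [hμ, map_one, mul_one]
      exact (SetLike.ext_iff.1 hy''p.over c).trans (SetLike.ext_iff.1 hQy.over (algebraMap R'' E'' c))
    · ext x
      show μ ((1 : R'') ⊗ₜ[R₃] x) ∈ Q ↔ x ∈ q'
      rw [hμ, map_one, one_mul, ← h2]
      rfl
  haveI : Module.Finite E'' A'' := inferInstance
  obtain ⟨h, hh, m, hdvd⟩ := exists_dvd_pow y'' (μ s) hμs
  -- the lower level
  let M₁ := N₁ ⧸ LinearMap.range (Fintype.linearCombination D v)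
  let M₂ := D₂ ⊗[D] M₁
  have hlowD : Devissable p₂ y₂ M₂ := hlow M₂ (TensorProduct.mk D D₂ M₁ 1) (TensorProduct.isBaseChange D M₁ D₂)
  obtain ⟨gl, hgl, tl, htl, htlQ, hlow₃⟩ := hlowD R'' p'' hR₂'' (h * ε e) (by
    intro Q hQ hQp hQr hmem
    have := hy''u Q hQ hQp hQr
    subst this
    exact (hQ.mem_or_mem hmem).elim hh fun hee => he (hεy.le hee))
  have htly : tl ∉ y'' := htlQ y'' inferInstance hy''p hy''r
  haveI : Algebra.Smooth R'' E'' := inferInstance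
  have himo : IsOpen (PrimeSpectrum.comap (algebraMap R'' E'') '' (PrimeSpectrum.basicOpen tl : Set _)) :=
    PrimeSpectrum.isOpenMap_comap_of_hasGoingDown_of_finitePresentation _ (PrimeSpectrum.basicOpen tl).isOpen
  obtain ⟨_, ⟨g₀, rfl⟩, hg₀, hg₀Im⟩ := PrimeSpectrum.isTopologicalBasis_basic_opens.exists_subset_of_mem_open
    (a := (⟨p'', ‹_›⟩ : PrimeSpectrum R''))
    ((Set.mem_image _ _ _).2 ⟨⟨y'', inferInstance⟩, htly, PrimeSpectrum.ext hy''p.over.symm⟩) himo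
  obtain ⟨ν, hν'⟩ := exists_pushout_lift (k := R₂) (L := R'') (B := D₂) (C := R'' ⊗[R₃] S')
    (algebraMap R'' (R'' ⊗[R₃] S'))
    (((Algebra.TensorProduct.includeRight : S' →ₐ[R₃] R'' ⊗[R₃] S').toRingHom.comp (algebraMap E S')).comp
      (Algebra.TensorProduct.includeRight : D₂ →ₐ[R₂] E).toRingHom) (fun c => by
      show (algebraMap R₃ R'' (algebraMap R₂ R₃ c)) ⊗ₜ[R₃] (1 : S') =
        (1 : R'') ⊗ₜ[R₃] algebraMap E S' ((1 : R₃) ⊗ₜ[R₂] algebraMap R₂ D₂ c)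
      rw [show (1 : R₃) ⊗ₜ[R₂] algebraMap R₂ D₂ c = algebraMap R₂ R₃ c ⊗ₜ[R₂] (1 : D₂) by
          rw [Algebra.algebraMap_eq_smul_one, Algebra.algebraMap_eq_smul_one, TensorProduct.smul_tmul],
        show algebraMap E S' (algebraMap R₂ R₃ c ⊗ₜ[R₂] (1 : D₂)) = algebraMap R₃ S' (algebraMap R₂ R₃ c) from rfl,
        Algebra.algebraMap_eq_smul_one (A := R''), Algebra.algebraMap_eq_smul_one (A := S'), TensorProduct.smul_tmul])
  have hνl : ∀ c : R'', ν (c ⊗ₜ[R₂] (1 : D₂)) = c ⊗ₜ[R₃] (1 : S') := fun c => by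
    refine (hν' _ _).trans ?_
    rw [map_one]
    exact mul_one (c ⊗ₜ[R₃] (1 : S'))
  have hνr : ∀ d : D₂, ν ((1 : R'') ⊗ₜ[R₂] d) = (1 : R'') ⊗ₜ[R₃] (((1 : R₃) ⊗ₜ[R₂] d) ⊗ₜ[D] (1 : S₁)) := fun d => by
    refine (hν' _ _).trans ?_
    rw [map_one]
    exact one_mul (M := R'' ⊗[R₃] S') _
  refine ⟨gl * g₀, fun h' => (‹p''.IsPrime›.mem_or_mem h').elim hgl hg₀, s * ν tl, dvd_mul_right _ _, ?_, ?_⟩
  · intro Q hQ hQp hQr hmem
    refine (hQ.mem_or_mem hmem).elim (hs Q hQ hQp hQr) fun hν => ?_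
    refine htlQ (Q.comap ν) (Ideal.IsPrime.comap _) ⟨?_⟩ ?_ hν
    · ext c
      show c ∈ p'' ↔ ν (c ⊗ₜ[R₂] (1 : D₂)) ∈ Q
      rw [hνl]
      exact SetLike.ext_iff.1 hQp.over c
    · ext d
      show ν ((1 : R'') ⊗ₜ[R₂] d) ∈ Q ↔ d ∈ y₂
      rw [hνr]
      refine (SetLike.ext_iff.1 hQr _).trans ((SetLike.ext_iff.1 hq'yE.over _).symm.trans ?_)
      exact SetLike.ext_iff.1 hyEr d
  -- a model of the localisation
  intro R₄ _ _ _ _ p₄ _ hR₄ hgu T _ _ _ _ _ _ hT q₄ _ hq₄p hq₄q N₄ _ _ _ _ f hf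
  rw [map_mul] at hgu
  have hglu : IsUnit (algebraMap R'' R₄ gl) := isUnit_of_mul_isUnit_left hgu
  have hg₀u : IsUnit (algebraMap R'' R₄ g₀) := isUnit_of_mul_isUnit_right hgu
  haveI : Algebra.Etale R'' R₄ := hR₄.1
  obtain ⟨_, hR₄o, -⟩ := id hR₄
  letI : Algebra R₂ R₄ := ((algebraMap R'' R₄).comp (algebraMap R₂ R'')).toAlgebra
  haveI : IsScalarTower R₂ R'' R₄ := IsScalarTower.of_algebraMap_eq fun _ => rfl
  haveI : IsScalarTower R₂ R₃ R₄ := IsScalarTower.of_algebraMap_eq fun c => by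
    show algebraMap R'' R₄ (algebraMap R₃ R'' (algebraMap R₂ R₃ c)) = _
    rw [← IsScalarTower.algebraMap_apply R₃ R'' R₄]
  letI : Algebra R₁ R₄ := ((algebraMap R₂ R₄).comp (algebraMap R₁ R₂)).toAlgebra
  haveI : IsScalarTower R₁ R₂ R₄ := IsScalarTower.of_algebraMap_eq fun _ => rfl
  have hR₂₄ : FlatCA.IsEtaleNhd R₂ R₄ p₂ p₄ := isEtaleNhd_trans hR₂'' hR₄
  have hR₁₄ : FlatCA.IsEtaleNhd R₁ R₄ p₁ p₄ := isEtaleNhd_trans hR₂ hR₂₄
  haveI : Algebra.Etale R₂ R₄ := hR₂₄.1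
  haveI : Algebra.Etale R₁ R₄ := hR₁₄.1
  obtain ⟨_, hR₂₄o, hR₂₄b⟩ := id hR₂₄
  obtain ⟨_, hR₁₄o, hR₁₄b⟩ := id hR₁₄
  let E₄ := R₄ ⊗[R₂] D₂
  let mt : E'' →ₐ[R₂] E₄ := Algebra.TensorProduct.map (IsScalarTower.toAlgHom R₂ R'' R₄) (AlgHom.id R₂ D₂)
  let t₄ : E₄ := mt tl
  obtain ⟨y₄, _, hy₄p, hy₄r, ⟨hy₄y, hy₄b⟩, hy₄u⟩ := exists_baseChange_point (A' := R₄) p₂ p₄ hR₂₄o hR₂₄b y₂
  have hy₄mt : y₄.comap mt.toRingHom = y'' := by
    refine hy''u _ (Ideal.IsPrime.comap _) ⟨?_⟩ ?_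
    · ext c
      show c ∈ p'' ↔ Algebra.TensorProduct.map _ _ (c ⊗ₜ[R₂] (1 : D₂)) ∈ y₄
      rw [Algebra.TensorProduct.map_tmul, map_one]
      exact (SetLike.ext_iff.1 hR₄o.over c).trans (SetLike.ext_iff.1 hy₄p.over (algebraMap R'' R₄ c))
    · ext c
      show Algebra.TensorProduct.map _ _ ((1 : R'') ⊗ₜ[R₂] c) ∈ y₄ ↔ c ∈ y₂
      rw [Algebra.TensorProduct.map_tmul, map_one]
      exact SetLike.ext_iff.1 hy₄r c
  have ht₄ : t₄ ∉ y₄ := fun h' => htly (hy₄mt.le h')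
  let B := Localization.Away t₄
  let qB : Ideal B := y₄.map (algebraMap E₄ B)
  have hdisj : Disjoint (Submonoid.powers t₄ : Set E₄) ↑y₄ := (Ideal.disjoint_powers_iff_notMem_of_isPrime _).2 ht₄
  haveI : qB.IsPrime := IsLocalization.isPrime_of_isPrime_disjoint _ _ y₄ ‹_› hdisj
  have hqB : qB.comap (algebraMap E₄ B) = y₄ := IsLocalization.under_map_of_isPrime_disjoint _ _ ‹_› hdisj
  haveI : IsScalarTower D₂ E₄ B := inferInstance
  haveI : IsScalarTower R₂ D₂ B := IsScalarTower.of_algebraMap_eq fun c => by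
    show algebraMap R₂ B c = algebraMap E₄ B (algebraMap D₂ E₄ (algebraMap R₂ D₂ c))
    rw [← IsScalarTower.algebraMap_apply R₂ D₂ E₄, ← IsScalarTower.algebraMap_apply R₂ E₄ B]
  letI : Algebra D B := ((algebraMap D₂ B).comp (algebraMap D D₂)).toAlgebra
  haveI : IsScalarTower D D₂ B := IsScalarTower.of_algebraMap_eq fun _ => rfl
  have hpieceB : pieceHom R₂ R₄ D₂ B = IsScalarTower.toAlgHom R₂ E₄ B := by
    refine Algebra.TensorProduct.ext' fun c d => ?_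
    rw [pieceHom_tmul]
    show algebraMap E₄ B (c ⊗ₜ[R₂] (1 : D₂)) * algebraMap E₄ B ((1 : R₄) ⊗ₜ[R₂] d) = algebraMap E₄ B (c ⊗ₜ[R₂] d)
    rw [← map_mul, Algebra.TensorProduct.tmul_mul_tmul, mul_one, one_mul]
  have hBpiece : IsAwayPiece R₂ R₄ D₂ B t₄ := by
    have halg : (pieceHom R₂ R₄ D₂ B).toRingHom.toAlgebra = (inferInstance : Algebra E₄ B) :=
      Algebra.algebra_ext _ _ fun z => by
        show pieceHom R₂ R₄ D₂ B z = _
        rw [hpieceB]
        rfl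
    unfold IsAwayPiece
    rw [halg]
    infer_instance
  haveI hqBp₄ : qB.LiesOver p₄ := ⟨by
    show p₄ = qB.comap (algebraMap R₄ B)
    rw [IsScalarTower.algebraMap_eq R₄ E₄ B, ← Ideal.comap_comap, hqB]
    exact hy₄p.over⟩
  haveI hqBy₂ : qB.LiesOver y₂ := ⟨by
    show y₂ = qB.comap ((algebraMap E₄ B).comp (algebraMap D₂ E₄))
    rw [← Ideal.comap_comap, hqB]
    exact hy₄y.over⟩
  haveI hqBy : qB.LiesOver y := Ideal.LiesOver.trans qB y₂ y
  haveI : Algebra.Etale D₂ E₄ := Algebra.Etale.of_equiv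
    (show D₂ ⊗[R₂] R₄ ≃ₐ[D₂] E₄ from AlgEquiv.ofRingEquiv (f := (Algebra.TensorProduct.comm R₂ D₂ R₄).toRingEquiv) fun _ => rfl)
  have hDB : FlatCA.IsEtaleNhd D B y qB :=
    isEtaleNhd_trans hD₂ (isEtaleNhd_trans (B := E₄) ⟨inferInstance, hy₄y, hy₄b⟩ (isEtaleNhd_away B t₄ y₄ qB hqB))
  haveI : Algebra.Etale D B := hDB.1
  obtain ⟨_, hDBo, hDBb⟩ := id hDB
  -- the maps between the slices
  letI : Algebra S₁ T := ((algebraMap S' T).comp (algebraMap S₁ S')).toAlgebra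
  haveI : IsScalarTower S₁ S' T := IsScalarTower.of_algebraMap_eq fun _ => rfl
  let E₃T : E →+* T := (algebraMap S' T).comp (algebraMap E S')
  have hr₂T : ∀ c : R₂, algebraMap R₄ T (algebraMap R₂ R₄ c) = E₃T ((1 : R₃) ⊗ₜ[R₂] algebraMap R₂ D₂ c) := fun c => by
    rw [show (1 : R₃) ⊗ₜ[R₂] algebraMap R₂ D₂ c = algebraMap R₂ R₃ c ⊗ₜ[R₂] (1 : D₂) by
        rw [Algebra.algebraMap_eq_smul_one, Algebra.algebraMap_eq_smul_one, TensorProduct.smul_tmul],
      IsScalarTower.algebraMap_apply R₂ R₃ R₄, ← IsScalarTower.algebraMap_apply R₃ R₄ T]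
    show _ = algebraMap S' T (algebraMap R₃ S' (algebraMap R₂ R₃ c))
    rw [← IsScalarTower.algebraMap_apply R₃ S' T]
  obtain ⟨bE, hbE⟩ := exists_pushout_lift (k := R₂) (L := R₄) (B := D₂) (C := T) (algebraMap R₄ T)
    (E₃T.comp (Algebra.TensorProduct.includeRight : D₂ →ₐ[R₂] E).toRingHom) hr₂T
  let P := pieceHom R₃ R₄ S' T
  let mt' : R'' ⊗[R₃] S' →ₐ[R₃] R₄ ⊗[R₃] S' :=
    Algebra.TensorProduct.map (IsScalarTower.toAlgHom R₃ R'' R₄) (AlgHom.id R₃ S')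
  have hbEmt : (P.toRingHom.comp mt'.toRingHom).comp ν = bE.comp mt.toRingHom := by
    refine Algebra.TensorProduct.ringHom_ext (RingHom.ext fun c => ?_) (RingHom.ext fun d => ?_)
    · show P (mt' (ν (c ⊗ₜ[R₂] (1 : D₂)))) = bE (mt (c ⊗ₜ[R₂] (1 : D₂)))
      rw [hνl, Algebra.TensorProduct.map_tmul, Algebra.TensorProduct.map_tmul, map_one, map_one, pieceHom_tmul, hbE,
        map_one, map_one]
      rfl
    · show P (mt' (ν ((1 : R'') ⊗ₜ[R₂] d))) = bE (mt ((1 : R'') ⊗ₜ[R₂] d))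
      rw [hνr, Algebra.TensorProduct.map_tmul, Algebra.TensorProduct.map_tmul, map_one, map_one, pieceHom_tmul, hbE,
        map_one]
      rfl
  have hbEt : IsUnit (bE t₄) := by
    have hu : IsUnit (P (mt' (s * ν tl))) := by
      letI := P.toRingHom.toAlgebra
      haveI : IsLocalization.Away (mt' (s * ν tl)) T := hT
      exact IsLocalization.Away.algebraMap_isUnit (S := T) (mt' (s * ν tl))
    rw [map_mul, map_mul] at hu
    have h2 := isUnit_of_mul_isUnit_right hu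
    rw [show P (mt' (ν tl)) = bE (mt tl) from RingHom.congr_fun hbEmt tl] at h2
    exact h2
  obtain ⟨bT, hbT⟩ := exists_piece_lift hBpiece bE hbEt
  letI : Algebra B T := bT.toAlgebra
  have hBT : ∀ z : E₄, algebraMap B T (algebraMap E₄ B z) = bE z := fun z => by
    show bT (algebraMap E₄ B z) = _
    rw [← hbT z, hpieceB]
    rfl
  haveI : IsScalarTower R₄ B T := IsScalarTower.of_algebraMap_eq fun c => by
    rw [IsScalarTower.algebraMap_apply R₄ E₄ B, hBT]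
    show _ = bE (c ⊗ₜ[R₂] (1 : D₂))
    rw [hbE, map_one, mul_one]
  letI : Algebra D T := ((algebraMap S₁ T).comp (algebraMap D S₁)).toAlgebra
  haveI : IsScalarTower D S₁ T := IsScalarTower.of_algebraMap_eq fun _ => rfl
  haveI : IsScalarTower D B T := IsScalarTower.of_algebraMap_eq fun d => by
    show algebraMap S' T ((1 : E) ⊗ₜ[D] algebraMap D S₁ d) =
      algebraMap B T (algebraMap E₄ B (algebraMap D₂ E₄ (algebraMap D D₂ d)))
    rw [hBT, show algebraMap D₂ E₄ (algebraMap D D₂ d) = (1 : R₄) ⊗ₜ[R₂] algebraMap D D₂ d from rfl, hbE, map_one, one_mul,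
      Algebra.algebraMap_eq_smul_one (A := S₁) d, ← TensorProduct.smul_tmul, ← Algebra.algebraMap_eq_smul_one]
    rfl
  let BC := B ⊗[D] C
  obtain ⟨σ₄, hσ₄⟩ := exists_pushout_lift (k := D) (L := E) (B := S₁) (C := BC)
    (((algebraMap B BC).comp (algebraMap E₄ B)).comp (mt.toRingHom.comp ε.toRingHom))
    ((Algebra.TensorProduct.includeRight : C →ₐ[D] BC).toRingHom.comp (Ideal.Quotient.mk J)) (fun d => by
      show algebraMap B BC (algebraMap E₄ B (mt (ε (algebraMap D E d)))) =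
        (Algebra.TensorProduct.includeRight : C →ₐ[D] BC) (algebraMap D C d)
      rw [hεD, AlgHom.commutes, show mt (algebraMap D E'' d) = algebraMap D₂ E₄ (algebraMap D D₂ d) by
        show Algebra.TensorProduct.map _ _ ((1 : R'') ⊗ₜ[R₂] algebraMap D D₂ d) = (1 : R₄) ⊗ₜ[R₂] algebraMap D D₂ d
        rw [Algebra.TensorProduct.map_tmul, map_one]; rfl]
      rfl)
  have hσ₄E : ∀ x : E, σ₄ (x ⊗ₜ[D] (1 : S₁)) = algebraMap B BC (algebraMap E₄ B (mt (ε x))) := fun x => by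
    rw [hσ₄, map_one, mul_one]; rfl
  obtain ⟨μ₄, hμ₄⟩ := exists_pushout_lift (k := R₃) (L := R₄) (B := S') (C := BC)
    ((algebraMap B BC).comp (algebraMap R₄ B)) σ₄ (fun c => by
      show algebraMap B BC (algebraMap R₄ B (algebraMap R₃ R₄ c)) = σ₄ ((c ⊗ₜ[R₂] (1 : D₂)) ⊗ₜ[D] (1 : S₁))
      rw [hσ₄E, IsScalarTower.algebraMap_apply R₄ E₄ B]
      congr 2
      show _ = Algebra.TensorProduct.map _ _ (Algebra.TensorProduct.map _ _ (c ⊗ₜ[R₂] (1 : D₂)))
      rw [Algebra.TensorProduct.map_tmul, Algebra.TensorProduct.map_tmul, map_one, map_one]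
      show algebraMap R₃ R₄ c ⊗ₜ[R₂] (1 : D₂) = algebraMap R'' R₄ (algebraMap R₃ R'' c) ⊗ₜ[R₂] (1 : D₂)
      rw [← IsScalarTower.algebraMap_apply R₃ R'' R₄])
  let mB : E'' →+* B := (algebraMap E₄ B).comp mt.toRingHom
  obtain ⟨θ, hθ⟩ := exists_pushout_lift (k := D) (L := E'') (B := C) (C := BC) ((algebraMap B BC).comp mB)
    (Algebra.TensorProduct.includeRight : C →ₐ[D] BC).toRingHom (fun d => by
      show algebraMap B BC (algebraMap E₄ B (Algebra.TensorProduct.map _ _ ((1 : R'') ⊗ₜ[R₂] algebraMap D D₂ d))) =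
        (Algebra.TensorProduct.includeRight : C →ₐ[D] BC) (algebraMap D C d)
      rw [Algebra.TensorProduct.map_tmul, map_one, AlgHom.commutes]
      rfl)
  have hθE : ∀ x : E'', θ (algebraMap E'' A'' x) = algebraMap B BC (mB x) := fun x => by
    rw [show algebraMap E'' A'' x = x ⊗ₜ[D] (1 : C) from rfl, hθ, map_one, mul_one]
    rfl
  have hθμ : θ.comp μ = μ₄.comp mt'.toRingHom := by
    refine Algebra.TensorProduct.ringHom_ext (RingHom.ext fun c => ?_) (RingHom.ext fun x => ?_)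
    · show θ (μ (c ⊗ₜ[R₃] (1 : S'))) = μ₄ (mt' (c ⊗ₜ[R₃] (1 : S')))
      rw [hμ, map_one, mul_one, Algebra.TensorProduct.map_tmul, map_one, hμ₄, map_one, mul_one]
      show θ (algebraMap E'' A'' (algebraMap R'' E'' c)) = _
      rw [hθE]
      show algebraMap B BC (algebraMap E₄ B (Algebra.TensorProduct.map _ _ (c ⊗ₜ[R₂] (1 : D₂)))) = _
      rw [Algebra.TensorProduct.map_tmul, map_one]
      rfl
    · show θ (μ ((1 : R'') ⊗ₜ[R₃] x)) = μ₄ (mt' ((1 : R'') ⊗ₜ[R₃] x))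
      rw [hμ, map_one, one_mul, Algebra.TensorProduct.map_tmul, map_one, hμ₄, map_one, one_mul]
      refine RingHom.congr_fun (f := θ.comp σ') (g := σ₄) ?_ x
      refine Algebra.TensorProduct.ringHom_ext (RingHom.ext fun a => ?_) (RingHom.ext fun a => ?_)
      · show θ (σ' (a ⊗ₜ[D] (1 : S₁))) = σ₄ (a ⊗ₜ[D] (1 : S₁))
        rw [hσ'E, hσ₄E, hθE]
        rfl
      · show θ (σ' ((1 : E) ⊗ₜ[D] a)) = σ₄ ((1 : E) ⊗ₜ[D] a)
        rw [hσ', hσ₄, map_one, map_one, one_mul, one_mul]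
        show θ ((1 : E'') ⊗ₜ[D] Ideal.Quotient.mk J a) = _
        rw [hθ, map_one, one_mul]
        rfl
  have hhu : IsUnit (mB (h * ε e)) := by
    obtain ⟨w, hw⟩ := htl
    have : IsUnit (algebraMap E₄ B t₄) := IsLocalization.Away.algebraMap_isUnit t₄
    rw [show algebraMap E₄ B t₄ = mB tl from rfl, hw, map_mul mB (h * ε e)] at this
    exact isUnit_of_mul_isUnit_left this
  have hμ₄t : IsUnit (μ₄ (mt' (s * ν tl))) := by
    rw [map_mul, map_mul]
    refine IsUnit.mul ?_ ?_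
    · rw [show μ₄ (mt' s) = θ (μ s) from (RingHom.congr_fun hθμ s).symm]
      rw [map_mul] at hhu
      have : IsUnit (θ (algebraMap E'' A'' h ^ m)) := by
        rw [map_pow, hθE]
        exact ((isUnit_of_mul_isUnit_left hhu).map (algebraMap B BC)).pow m
      exact isUnit_of_dvd_unit (map_dvd θ hdvd) this
    · have hν : (μ₄.comp mt'.toRingHom).comp ν = (algebraMap B BC).comp mB := by
        refine Algebra.TensorProduct.ringHom_ext (RingHom.ext fun c => ?_) (RingHom.ext fun d => ?_)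
        · show μ₄ (mt' (ν (c ⊗ₜ[R₂] (1 : D₂)))) = algebraMap B BC (algebraMap E₄ B (mt (c ⊗ₜ[R₂] (1 : D₂))))
          rw [hνl, Algebra.TensorProduct.map_tmul, Algebra.TensorProduct.map_tmul, map_one, map_one, hμ₄, map_one, mul_one]
          rfl
        · show μ₄ (mt' (ν ((1 : R'') ⊗ₜ[R₂] d))) = algebraMap B BC (algebraMap E₄ B (mt ((1 : R'') ⊗ₜ[R₂] d)))
          rw [hνr, Algebra.TensorProduct.map_tmul, Algebra.TensorProduct.map_tmul, map_one, map_one, hμ₄, map_one, one_mul]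
          show σ₄ (((1 : R₃) ⊗ₜ[R₂] d) ⊗ₜ[D] (1 : S₁)) = _
          rw [hσ₄E]
          show algebraMap B BC (algebraMap E₄ B (Algebra.TensorProduct.map _ _ (Algebra.TensorProduct.map _ _ ((1 : R₃) ⊗ₜ[R₂] d)))) = _
          rw [Algebra.TensorProduct.map_tmul, Algebra.TensorProduct.map_tmul, map_one, map_one]
          rfl
      rw [show μ₄ (mt' (ν tl)) = algebraMap B BC (mB tl) from RingHom.congr_fun hν tl]
      exact (IsLocalization.Away.algebraMap_isUnit (S := B) t₄).map _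
  obtain ⟨τ, hτ⟩ := exists_piece_lift hT μ₄ hμ₄t
  have hτS' : ∀ x : S', τ (algebraMap S' T x) = σ₄ x := fun x => by
    have := hτ ((1 : R₄) ⊗ₜ[R₃] x)
    rwa [pieceHom_tmul, map_one, one_mul, hμ₄, map_one, one_mul] at this
  have hτR : ∀ c : R₄, τ (algebraMap R₄ T c) = algebraMap B BC (algebraMap R₄ B c) := fun c => by
    have := hτ (c ⊗ₜ[R₃] (1 : S'))
    rw [pieceHom_tmul, map_one, mul_one, hμ₄, map_one, mul_one] at this
    exact this
  have hτB : ∀ z : B, τ (algebraMap B T z) = z ⊗ₜ[D] (1 : C) := by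
    refine fun z => RingHom.congr_fun (f := τ.comp (algebraMap B T)) (g := algebraMap B BC) ?_ z
    refine piece_hom_ext hBpiece (RingHom.ext fun c => ?_) (RingHom.ext fun d => ?_)
    · show τ (algebraMap B T (algebraMap R₄ B c)) = algebraMap B BC (algebraMap R₄ B c)
      rw [← IsScalarTower.algebraMap_apply R₄ B T, hτR]
    · show τ (algebraMap B T (algebraMap E₄ B ((1 : R₄) ⊗ₜ[R₂] d))) = algebraMap B BC (algebraMap D₂ B d)
      rw [hBT, hbE, map_one, one_mul]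
      show τ (algebraMap S' T (((1 : R₃) ⊗ₜ[R₂] d) ⊗ₜ[D] (1 : S₁))) = _
      rw [hτS', hσ₄E]
      show algebraMap B BC (algebraMap E₄ B (Algebra.TensorProduct.map _ _ (Algebra.TensorProduct.map _ _ ((1 : R₃) ⊗ₜ[R₂] d)))) = _
      rw [Algebra.TensorProduct.map_tmul, Algebra.TensorProduct.map_tmul, map_one, map_one]
      rfl
  have hτS : ∀ a : S₁, τ (algebraMap S₁ T a) = (1 : B) ⊗ₜ[D] Ideal.Quotient.mk J a := fun a => by
    show τ (algebraMap S' T ((1 : E) ⊗ₜ[D] a)) = _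
    rw [hτS', hσ₄, map_one, one_mul]
    rfl
  have hbEε : ∀ x : E, bE (mt (ε x)) = E₃T x := by
    refine fun x => RingHom.congr_fun (f := bE.comp (mt.toRingHom.comp ε.toRingHom)) (g := E₃T) ?_ x
    refine Algebra.TensorProduct.ringHom_ext (RingHom.ext fun c => ?_) (RingHom.ext fun d => ?_)
    · show bE (mt (ε (c ⊗ₜ[R₂] (1 : D₂)))) = algebraMap S' T (algebraMap R₃ S' c)
      rw [show mt (ε (c ⊗ₜ[R₂] (1 : D₂))) = algebraMap R₃ R₄ c ⊗ₜ[R₂] (1 : D₂) by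
        show Algebra.TensorProduct.map _ _ (Algebra.TensorProduct.map _ _ (c ⊗ₜ[R₂] (1 : D₂))) = _
        rw [Algebra.TensorProduct.map_tmul, Algebra.TensorProduct.map_tmul, map_one, map_one]
        show algebraMap R'' R₄ (algebraMap R₃ R'' c) ⊗ₜ[R₂] (1 : D₂) = _
        rw [← IsScalarTower.algebraMap_apply R₃ R'' R₄], hbE, map_one, mul_one, ← IsScalarTower.algebraMap_apply R₃ R₄ T,
        ← IsScalarTower.algebraMap_apply R₃ S' T]
    · show bE (mt (ε ((1 : R₃) ⊗ₜ[R₂] d))) = E₃T ((1 : R₃) ⊗ₜ[R₂] d)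
      rw [show mt (ε ((1 : R₃) ⊗ₜ[R₂] d)) = (1 : R₄) ⊗ₜ[R₂] d by
        show Algebra.TensorProduct.map _ _ (Algebra.TensorProduct.map _ _ ((1 : R₃) ⊗ₜ[R₂] d)) = _
        rw [Algebra.TensorProduct.map_tmul, Algebra.TensorProduct.map_tmul, map_one, map_one]; rfl, hbE, map_one, one_mul]
      rfl
  have hText : ∀ (X : Type u) [CommRing X] (a c : T →+* X), a.comp (algebraMap B T) = c.comp (algebraMap B T) →
      a.comp (algebraMap S₁ T) = c.comp (algebraMap S₁ T) → a = c := by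
    intro X _ a c h₁ h₂
    refine piece_hom_ext hT (RingHom.ext fun w => ?_)
      (Algebra.TensorProduct.ringHom_ext (RingHom.ext fun x => ?_) (RingHom.ext fun w => ?_))
    · show a (algebraMap R₄ T w) = c (algebraMap R₄ T w)
      rw [IsScalarTower.algebraMap_apply R₄ B T]
      exact RingHom.congr_fun h₁ (algebraMap R₄ B w)
    · show a (E₃T x) = c (E₃T x)
      rw [← hbEε, ← hBT]
      exact RingHom.congr_fun h₁ _
    · exact RingHom.congr_fun h₂ w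
  -- primes of `T`
  haveI hq₄y₄ : q₄.LiesOver qB := ⟨by
    have hQ : q₄.comap bE = y₄ := by
      refine hy₄u _ (Ideal.IsPrime.comap _) ⟨?_⟩ ?_
      · ext c
        show c ∈ p₄ ↔ bE (c ⊗ₜ[R₂] (1 : D₂)) ∈ q₄
        rw [hbE, map_one, mul_one]
        exact SetLike.ext_iff.1 hq₄p.over c
      · ext d
        show bE ((1 : R₄) ⊗ₜ[R₂] d) ∈ q₄ ↔ d ∈ y₂
        rw [hbE, map_one, one_mul]
        refine (SetLike.ext_iff.1 hq₄q.over _).symm.trans ((SetLike.ext_iff.1 hq'yE.over _).symm.trans ?_)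
        exact SetLike.ext_iff.1 hyEr d
    rw [← IsLocalization.map_under (Submonoid.powers t₄) B (q₄.under B)]
    show y₄.map _ = _
    congr 1
    rw [← hQ]
    ext z
    show bE z ∈ q₄ ↔ algebraMap B T (algebraMap E₄ B z) ∈ q₄
    rw [hBT]⟩
  haveI hq₄q₁ : q₄.LiesOver q₁ := ⟨by
    rw [hq'q.over, hq₄q.over]
    rfl⟩
  -- modules
  letI : Module S₁ N₄ := Module.compHom N₄ (algebraMap S₁ T)
  haveI : IsScalarTower S₁ T N₄ := IsScalarTower.of_algebraMap_smul fun _ _ => rfl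
  haveI : IsScalarTower S₁ S' N₄ := IsScalarTower.of_algebraMap_smul fun a w => by
    rw [← algebraMap_smul T (algebraMap S₁ S' a) w]
    rfl
  have hfc : IsBaseChange T ((f.restrictScalars S₁).comp f') := hf'.comp hf
  -- the generic point
  haveI : Algebra.QuasiFinite R₁ R₄ := inferInstance
  haveI : Module.Flat D B := inferInstance
  haveI : IsScalarTower R₁ R₄ B := inferInstance
  haveI : IsScalarTower R₁ D B := IsScalarTower.of_algebraMap_eq fun c => by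
    rw [IsScalarTower.algebraMap_apply R₁ R₄ B]
    show algebraMap R₄ B (algebraMap R₂ R₄ (algebraMap R₁ R₂ c)) = algebraMap D₂ B (algebraMap D D₂ (algebraMap R₁ D c))
    rw [← IsScalarTower.algebraMap_apply R₁ D D₂, IsScalarTower.algebraMap_apply R₁ R₂ D₂,
      ← IsScalarTower.algebraMap_apply R₂ D₂ B, ← IsScalarTower.algebraMap_apply R₂ R₄ B]
  haveI : qB.LiesOver p₁ := Ideal.LiesOver.trans qB p₄ p₁
  have hξ := comap_map_eq (R₃ := R₄) (D := D) p₁ p₄ qB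
  -- smoothness and fibres
  haveI : IsLocalization.Away (1 : R₄) R₄ :=
    IsLocalization.away_of_isUnit_of_bijective R₄ isUnit_one Function.bijective_id
  have hsmB : FlatCA.SmoothRelDim n R₄ B :=
    GrothLib.RG6.Geom.smoothRelDim_of_localization (1 : R₄) t₄ n (GrothLib.RG6.Geom.smoothRelDim_baseChange R₄ D₂ n hsm₂)
  have hgeoB : FlatCA.GeomIntegralFibres R₄ B := by
    refine geomIntegral_of_piece hint e hext t₄ ?_ fun a => ?_
    · have h1 : Algebra.TensorProduct.map (IsScalarTower.toAlgHom R₂ R₃ R₄) (AlgHom.id R₂ D₂) e = mt (ε e) := by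
        rw [← AlgHom.comp_apply]
        refine AlgHom.congr_fun (Algebra.TensorProduct.ext' fun c d => ?_) e
        show _ = Algebra.TensorProduct.map _ _ (Algebra.TensorProduct.map _ _ (c ⊗ₜ[R₂] d))
        rw [Algebra.TensorProduct.map_tmul, Algebra.TensorProduct.map_tmul, Algebra.TensorProduct.map_tmul]
        show algebraMap R₃ R₄ c ⊗ₜ[R₂] d = algebraMap R'' R₄ (algebraMap R₃ R'' c) ⊗ₜ[R₂] d
        rw [← IsScalarTower.algebraMap_apply R₃ R'' R₄]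
      rw [h1]
      exact map_dvd mt ((dvd_mul_left _ _).trans htl)
    · obtain ⟨x, hxt, hxa⟩ := hg₀Im (show PrimeSpectrum.comap (algebraMap R'' R₄) a ∈ (PrimeSpectrum.basicOpen g₀ : Set _) from
        fun h' => a.2.ne_top (Ideal.eq_top_of_isUnit_mem _ h' hg₀u))
      exact exists_point_baseChange tl x hxt a (congrArg PrimeSpectrum.asIdeal hxa)
  have hptB : FlatCA.PurelyTranscendental p₄ qB := purelyTranscendental_map p₁ y p₄ qB hR₁₄o hDBo hR₁₄b hDBb hpt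
  refine Or.inr (complete_step p₄ J hJfg y q₁ hJq huniq qB hDBb q₄ hText τ hτB hτS hsmB hgeoB hptB N₁ hJN N₄
    ((f.restrictScalars S₁).comp f') hfc _ hξ v b hb hr ?_)
  intro M₃ _ _ _ _ f₃ hf₃
  letI : Module D₂ M₃ := Module.compHom M₃ (algebraMap D₂ B)
  haveI : IsScalarTower D₂ B M₃ := IsScalarTower.of_algebraMap_smul fun _ _ => rfl
  haveI : IsScalarTower D D₂ M₃ := IsScalarTower.of_algebraMap_smul fun d w => by
    show algebraMap D₂ B (algebraMap D D₂ d) • w = d • w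
    rw [← IsScalarTower.algebraMap_apply D D₂ B, algebraMap_smul]
  let f₂ : M₂ →ₗ[D₂] M₃ := f₃.liftBaseChange D₂
  have hf₂ : IsBaseChange B f₂ := by
    have hcomp : (f₂.restrictScalars D).comp (TensorProduct.mk D D₂ M₁ 1) = f₃ := LinearMap.ext fun w => by
      show f₃.liftBaseChange D₂ ((1 : D₂) ⊗ₜ w) = f₃ w
      rw [LinearMap.liftBaseChange_tmul, one_smul]
    exact IsBaseChange.of_comp (TensorProduct.isBaseChange D M₁ D₂) (hcomp.symm ▸ hf₃)
  exact hlow₃ R₄ p₄ hR₄ hglu B hBpiece qB hqBp₄ hqBy₂ M₃ f₂ hf₂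

end GrothLib.RG6.Dev
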