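import Mathlib
import Groth.Prelude.Def_FlatCA
import Groth.Agent.Lib.RG6.Dev.Elem

/-!
# Elementary dévissages with a map from the smooth algebra
-/

set_option autoImplicit false
set_option linter.style.haveILetI false
set_option linter.unusedSectionVars false

universe u

open TensorProduct AlgebraicGeometry CategoryTheory

namespace GrothLib.RG6.Dev

/-- An elementary dévissage in which the smooth algebra maps to the neighbourhood of the source. -/
theorem exists_strong_elem {R S : Type u} [CommRing R] [CommRing S] [Algebra R S] [Algebra.FiniteType R S]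
    (N : Type u) [AddCommGroup N] [Module S N] [Module R N] [IsScalarTower R S N] [Module.Finite S N]
    (p : Ideal R) [p.IsPrime] (q : Ideal S) [q.IsPrime] [hqp : q.LiesOver p] (n : ℕ)
    (x : PrimeSpectrum (p.Fiber S)) (hxq : x.asIdeal = FlatCA.fiberIdeal p q)
    (hx : x ∈ Module.support (p.Fiber S) (FlatCA.fiberMod p S N))
    (hn : FlatMor.localDim (Module.support (p.Fiber S) (FlatCA.fiberMod p S N)) ⟨x, hx⟩ = n) :
    ∃ (R' S' D : Type u) (_ : CommRing R') (_ : CommRing S') (_ : CommRing D) (_ : Algebra R R') (_ : Algebra S S')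
      (_ : Algebra R' D) (_ : Algebra D S') (_ : Algebra R' S') (_ : IsScalarTower R' D S') (_ : Algebra R S')
      (_ : IsScalarTower R R' S') (_ : IsScalarTower R S S')
      (p' : Ideal R') (q' : Ideal S') (y : Ideal D) (_ : p'.IsPrime) (_ : q'.IsPrime) (_ : y.IsPrime)
      (_ : y.LiesOver p') (_ : q'.LiesOver y) (J : Ideal S'),
      FlatCA.IsEtaleNhd R R' p p' ∧ FlatCA.IsEtaleNhd S S' q q' ∧ J.FG ∧ J ≤ q' ∧
      J ≤ Module.annihilator S' (S' ⊗[S] N) ∧ Module.Finite D (S' ⧸ J) ∧
      (∀ z : Ideal (S' ⧸ J), z.IsPrime → z.LiesOver y → z = q'.map (Ideal.Quotient.mk J)) ∧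
      FlatCA.PurelyTranscendental p' y ∧ FlatCA.SmoothRelDim n R' D ∧ FlatCA.GeomIntegralFibres R' D := by
  classical
  obtain ⟨J, hJfg, hJN, hJ⟩ := exists_fg_annihilator (R := R) (S := S) N p
  obtain ⟨hJq, X, hX, hXdim⟩ := exists_point N p q J hJN hJ x hxq hx
  let C₀ := S ⧸ J
  let q₀ : Ideal C₀ := q.map (Ideal.Quotient.mk J)
  haveI : q₀.IsPrime := Ideal.map_isPrime_of_surjective Ideal.Quotient.mk_surjective (by rwa [Ideal.mk_ker])
  have hq₀S : q₀.comap (Ideal.Quotient.mk J) = q := by
    rw [Ideal.comap_map_of_surjective _ Ideal.Quotient.mk_surjective, ← RingHom.ker_eq_comap_bot, Ideal.mk_ker,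
      sup_eq_left.2 hJq]
  haveI : q₀.LiesOver p := ⟨by
    rw [hqp.over]
    show q.comap (algebraMap R S) = q₀.comap ((Ideal.Quotient.mk J).comp (algebraMap R S))
    rw [← Ideal.comap_comap, hq₀S]⟩
  haveI : Algebra.FiniteType R C₀ :=
    Algebra.FiniteType.of_surjective (Ideal.Quotient.mkₐ R J) (Ideal.Quotient.mkₐ_surjective R J)
  obtain ⟨φ, hqf, hpt⟩ := exists_adapted_map p q₀ n X hX (hXdim.trans hn)
  -- lift to `S`
  have hlift : ∀ i, ∃ s : S, Ideal.Quotient.mk J s = φ (MvPolynomial.X i) := fun i => Ideal.Quotient.mk_surjective _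
  choose sX hsX using hlift
  let ψ : MvPolynomial (Fin n) R →ₐ[R] S := MvPolynomial.aeval sX
  have hψφ : (Ideal.Quotient.mkₐ R J).comp ψ = φ := MvPolynomial.algHom_ext fun i => by
    simp [ψ, hsX]
  let P := MvPolynomial (Fin n) R
  letI : Algebra P S := ψ.toRingHom.toAlgebra
  haveI : IsScalarTower R P S := IsScalarTower.of_algebraMap_eq fun r => (ψ.commutes r).symm
  have hPC : algebraMap P C₀ = φ.toRingHom := by
    rw [← hψφ]; rfl
  haveI : Algebra.FiniteType P C₀ := Algebra.FiniteType.of_restrictScalars_finiteType R P C₀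
  let y0 : Ideal P := q₀.comap (algebraMap P C₀)
  haveI : y0.IsPrime := Ideal.IsPrime.comap _
  haveI : q₀.LiesOver y0 := ⟨rfl⟩
  haveI : Algebra.QuasiFiniteAt P q₀ := by
    have h := hqf
    convert h using 1
    exact Algebra.algebra_ext _ _ (RingHom.congr_fun hPC)
  haveI hy0p : y0.LiesOver p := Ideal.LiesOver.tower_bot q₀ y0 p
  haveI hqy0 : q.LiesOver y0 := ⟨by
    show q₀.comap ((Ideal.Quotient.mk J).comp (algebraMap P S)) = q.comap (algebraMap P S)
    rw [← Ideal.comap_comap, hq₀S]⟩
  have hy0 : FlatCA.PurelyTranscendental p y0 := by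
    have hEq : q₀.comap φ.toRingHom = y0 := by rw [← hPC]
    have h1 : (q₀.comap φ.toRingHom).LiesOver p := ⟨by rw [hEq]; exact hy0p.over⟩
    have key : ∀ (I : Ideal P) (_ : I.IsPrime), I = y0 → ∀ h : I.LiesOver p,
        FlatCA.PurelyTranscendental p I → FlatCA.PurelyTranscendental p y0 := by
      intro I _ h
      subst h
      exact fun _ h => h
    exact key _ (Ideal.IsPrime.comap _) hEq h1 (hpt h1)
  -- the étale splitting
  obtain ⟨D0, _, _, _, y, _, _, e, he, Q, _, _, hQq, heQ, hyb, hfin, huniq⟩ :=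
    Algebra.exists_etale_isIdempotentElem_forall_liesOver_eq y0 q₀
  letI : Algebra R D0 := ((algebraMap P D0).comp (algebraMap R P)).toAlgebra
  haveI : IsScalarTower R P D0 := IsScalarTower.of_algebraMap_eq fun _ => rfl
  haveI hyp : y.LiesOver p := Ideal.LiesOver.trans y y0 p
  have hsm0 : FlatCA.SmoothRelDim n R D0 := smoothRelDim_of_etale (P := P) n (smoothRelDim_mvPolynomial R n)
  have hyp0 : p.LiesOver p := ⟨(Ideal.comap_id p).symm⟩
  have hid : Function.Bijective (Ideal.ResidueField.mapₐ p p (Algebra.ofId R R) hyp0.over) := by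
    refine ⟨RingHom.injective (Ideal.ResidueField.mapₐ p p (Algebra.ofId R R) hyp0.over).toRingHom, fun z => ⟨z, ?_⟩⟩
    refine RingHom.congr_fun (f := (Ideal.ResidueField.mapₐ p p (Algebra.ofId R R) hyp0.over).toRingHom)
      (g := RingHom.id _) (Ideal.ResidueField.ringHom_ext (RingHom.ext fun r => ?_)) z
    exact (Ideal.ResidueField.mapₐ p p (Algebra.ofId R R) hyp0.over).commutes r
  have hy : FlatCA.PurelyTranscendental p y := purelyTranscendental_map p y0 p y hyp0 inferInstance hid hyb hy0
  obtain ⟨R', D', _, _, _, _, _, _, _, _, p', y', _, _, hy'p', hR', hD', hsm, hint, -⟩ :=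
    GrothLib.RG6.Geom.exists_geom_nhd n hsm0 p y hy
  letI : Algebra P D' := ((algebraMap D0 D').comp (algebraMap P D0)).toAlgebra
  haveI : IsScalarTower P D0 D' := IsScalarTower.of_algebraMap_eq fun _ => rfl
  obtain ⟨S', _, _, _, hcompat, q', _, hq'y', hS', hJq', hfinC, hzuniq⟩ :=
    exists_split_nhd J y0 y hyb y' hD' q hJq e Q hQq heQ huniq
  letI : Algebra R' S' := ((algebraMap D' S').comp (algebraMap R' D')).toAlgebra
  haveI : IsScalarTower R' D' S' := IsScalarTower.of_algebraMap_eq fun _ => rfl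
  letI : Algebra R S' := ((algebraMap R' S').comp (algebraMap R R')).toAlgebra
  haveI : IsScalarTower R R' S' := IsScalarTower.of_algebraMap_eq fun _ => rfl
  haveI : IsScalarTower R S S' := IsScalarTower.of_algebraMap_eq fun r => by
    rw [IsScalarTower.algebraMap_apply R P S, hcompat]
    show algebraMap D' S' (algebraMap R' D' (algebraMap R R' r)) = algebraMap D' S' (algebraMap D0 D' (algebraMap R D0 r))
    rw [← IsScalarTower.algebraMap_apply R R' D', ← IsScalarTower.algebraMap_apply R D0 D']
  haveI hq'p' : q'.LiesOver p' := Ideal.LiesOver.trans q' y' p'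
  let J' := J.map (algebraMap S S')
  let N' := S' ⊗[S] N
  have htor : Module.IsTorsionBySet S' N' (J' : Set S') := by
    rw [Module.isTorsionBySet_iff_subset_annihilator]
    refine Ideal.map_le_iff_le_comap.2 fun a ha => ?_
    show algebraMap S S' a ∈ Module.annihilator S' N'
    rw [Module.mem_annihilator]
    intro m
    induction m using TensorProduct.induction_on with
    | zero => exact smul_zero _
    | tmul s m =>
      rw [algebraMap_smul, ← TensorProduct.tmul_smul, Module.mem_annihilator.1 (hJN ha) m, TensorProduct.tmul_zero]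
    | add u v hu hv => rw [smul_add, hu, hv, add_zero]
  obtain ⟨_, hp'over, hpb⟩ := id hR'
  obtain ⟨_, hy'over, hy'b⟩ := id hD'
  exact ⟨R', S', D', inferInstance, inferInstance, inferInstance, inferInstance, inferInstance, inferInstance,
    inferInstance, inferInstance, inferInstance, inferInstance, inferInstance, inferInstance, p', q', y', inferInstance,
    inferInstance, inferInstance, hy'p', hq'y', J', hR', hS', hJfg.map _, hJq',
    fun a ha => Module.mem_annihilator.2 fun m => @htor m ⟨a, ha⟩, hfinC, hzuniq,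
    purelyTranscendental_map p y p' y' hp'over hy'over hpb hy'b hy, hsm, hint⟩

end GrothLib.RG6.Dev
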