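import Mathlib
import Groth.Prelude.Def_FlatCA
import Groth.Agent.Lib.RG6.Dev.Strong
import Groth.Agent.Lib.RG6.Dev.EtaleDim
import Groth.Agent.Lib.RG6.Dev.StepNhd

/-!
# Complete dévissages after étale localisation
-/

set_option autoImplicit false
set_option linter.style.haveILetI false
set_option linter.unusedSectionVars false
set_option maxHeartbeats 1000000

universe u

open TensorProduct

attribute [local instance] Algebra.TensorProduct.rightAlgebra

namespace GrothLib.RG6.Dev

/-- The point of the fibre given by `q` is in the support iff the annihilator is contained in `q`. -/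
theorem fiber_support_iff {R S : Type u} [CommRing R] [CommRing S] [Algebra R S] (N : Type u) [AddCommGroup N]
    [Module S N] [Module.Finite S N] (p : Ideal R) [p.IsPrime] (q : Ideal S) [q.IsPrime] [q.LiesOver p]
    (x : PrimeSpectrum (p.Fiber S)) (hx : x.asIdeal = FlatCA.fiberIdeal p q) :
    x ∈ Module.support (p.Fiber S) (FlatCA.fiberMod p S N) ↔ Module.annihilator S N ≤ q := by
  obtain ⟨Q, hQ, hQq⟩ := exists_fibre_prime p q
  obtain rfl : x = Q := PrimeSpectrum.ext (hx.trans hQ.symm)
  show x ∈ Module.support (p.Fiber S) ((p.Fiber S) ⊗[S] N) ↔ _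
  rw [GrothLib.DevBC13.support_tensor, Module.support_eq_zeroLocus]
  show Module.annihilator S N ≤ x.asIdeal.comap (algebraMap S (p.Fiber S)) ↔ _
  rw [show x.asIdeal.comap (algebraMap S (p.Fiber S)) = q from hQq]

/-- Local dimensions of supports in fibres are natural numbers. -/
theorem exists_nat_localDim {R S : Type u} [CommRing R] [CommRing S] [Algebra R S] [Algebra.FiniteType R S]
    (N : Type u) [AddCommGroup N] [Module S N] (p : Ideal R) [p.IsPrime]
    (x : Module.support (p.Fiber S) (FlatCA.fiberMod p S N)) :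
    ∃ n : ℕ, FlatMor.localDim (Module.support (p.Fiber S) (FlatCA.fiberMod p S N)) x = n := by
  obtain ⟨m, φ, hφ⟩ := Algebra.FiniteType.iff_quotient_mvPolynomial''.1
    (inferInstance : Algebra.FiniteType p.ResidueField (p.Fiber S))
  have hd : ringKrullDim (p.Fiber S) ≤ (m : WithBot ℕ∞) := by
    refine (ringKrullDim_le_of_surjective φ.toRingHom hφ).trans ?_
    rw [MvPolynomial.ringKrullDim_of_isNoetherianRing]
    simp
  have h1 : FlatMor.localDim (Module.support (p.Fiber S) (FlatCA.fiberMod p S N)) x ≤ (m : WithBot ℕ∞) := by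
    refine ((iInf_le _ ⟨⊤, trivial⟩).trans ?_).trans hd
    rw [← PrimeSpectrum.topologicalKrullDim_eq_ringKrullDim]
    exact (Topology.IsInducing.subtypeVal.comp Topology.IsInducing.subtypeVal).topologicalKrullDim_le
  have h0 : 0 ≤ FlatMor.localDim (Module.support (p.Fiber S) (FlatCA.fiberMod p S N)) x := by
    refine le_iInf fun U => ?_
    haveI : Nonempty (TopologicalSpace.IrreducibleCloseds (U.1 : Set _)) :=
      ⟨⟨closure {⟨x, U.2⟩}, isIrreducible_singleton.closure, isClosed_closure⟩⟩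
    exact Order.krullDim_nonneg
  generalize hl : FlatMor.localDim (Module.support (p.Fiber S) (FlatCA.fiberMod p S N)) x = l at h0 h1
  induction l using WithBot.recBotCoe with
  | bot => exact absurd h0 (by simp)
  | coe a =>
    have : a ≠ ⊤ := fun h => by
      subst h
      have h2 : (⊤ : ℕ∞) ≤ (m : ℕ∞) := WithBot.coe_le_coe.1 h1
      exact ENat.natCast_ne_top m (top_le_iff.1 h2)
    obtain ⟨n, rfl⟩ := WithTop.ne_top_iff_exists.1 this
    exact ⟨n, rfl⟩

/-- The identity is an étale neighbourhood. -/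
theorem isEtaleNhd_refl (A : Type u) [CommRing A] (p : Ideal A) [p.IsPrime] : FlatCA.IsEtaleNhd A A p p := by
  haveI : IsLocalization.Away (1 : A) A :=
    IsLocalization.away_of_isUnit_of_bijective A isUnit_one Function.bijective_id
  exact isEtaleNhd_away A (1 : A) p p (Ideal.comap_id p)

/-- Dévissability after étale localisation, for local dimension below `k`. -/
def DevBelow (k : ℕ) : Prop :=
  ∀ (R S : Type u) [CommRing R] [CommRing S] [Algebra R S] [Algebra.FiniteType R S]
    (N : Type u) [AddCommGroup N] [Module S N] [Module R N] [IsScalarTower R S N] [Module.Finite S N]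
    (p : Ideal R) [p.IsPrime] (q : Ideal S) [q.IsPrime] [q.LiesOver p],
    (∀ (x : PrimeSpectrum (p.Fiber S)) (hx : x ∈ Module.support (p.Fiber S) (FlatCA.fiberMod p S N)),
      x.asIdeal = FlatCA.fiberIdeal p q →
      FlatMor.localDim (Module.support (p.Fiber S) (FlatCA.fiberMod p S N)) ⟨x, hx⟩ < k) →
    ∃ (R' S' : Type u) (_ : CommRing R') (_ : CommRing S') (_ : Algebra R R') (_ : Algebra S S') (_ : Algebra R' S')
      (_ : Algebra R S') (_ : IsScalarTower R R' S') (_ : IsScalarTower R S S')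
      (p' : Ideal R') (q' : Ideal S') (_ : p'.IsPrime) (_ : q'.IsPrime),
      FlatCA.IsEtaleNhd R R' p p' ∧ FlatCA.IsEtaleNhd S S' q q' ∧ q'.LiesOver p' ∧
      ∀ (N' : Type u) [AddCommGroup N'] [Module S' N'] [Module S N'] [IsScalarTower S S' N']
        (f : N →ₗ[S] N'), IsBaseChange S' f → Devissable p' q' N'

/-- One elementary step and the induction hypothesis. -/
theorem devBelow_step (n : ℕ) (hIH : DevBelow.{u} n)
    {R S R₁ S₁ D : Type u} [CommRing R] [CommRing S] [CommRing R₁] [CommRing S₁] [CommRing D]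
    [Algebra R S] [Algebra R R₁] [Algebra S S₁] [Algebra R₁ D] [Algebra D S₁] [Algebra R₁ S₁]
    [IsScalarTower R₁ D S₁] [Algebra R S₁] [IsScalarTower R R₁ S₁] [IsScalarTower R S S₁]
    (N : Type u) [AddCommGroup N] [Module S N] [Module R N] [IsScalarTower R S N] [Module.Finite S N]
    (p : Ideal R) [p.IsPrime] (q : Ideal S) [q.IsPrime] [q.LiesOver p]
    (p₁ : Ideal R₁) [p₁.IsPrime] (y : Ideal D) [y.IsPrime] [y.LiesOver p₁] (q₁ : Ideal S₁) [q₁.IsPrime]
    [q₁.LiesOver y] (J : Ideal S₁)
    (hR₁ : FlatCA.IsEtaleNhd R R₁ p p₁) (hS₁ : FlatCA.IsEtaleNhd S S₁ q q₁) (hJfg : J.FG) (hJq : J ≤ q₁)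
    [Module.Finite D (S₁ ⧸ J)]
    (huniq : ∀ z : Ideal (S₁ ⧸ J), z.IsPrime → z.LiesOver y → z = q₁.map (Ideal.Quotient.mk J))
    (hpt : FlatCA.PurelyTranscendental p₁ y) (hsm : FlatCA.SmoothRelDim n R₁ D)
    (hint : FlatCA.GeomIntegralFibres R₁ D)
    (N₁ : Type u) [AddCommGroup N₁] [Module S₁ N₁] [Module S N₁] [Module D N₁] [Module R₁ N₁]
    [IsScalarTower S S₁ N₁] [IsScalarTower D S₁ N₁] [IsScalarTower R₁ D N₁] [IsScalarTower R₁ S₁ N₁]
    (f₁ : N →ₗ[S] N₁) (hf₁ : IsBaseChange S₁ f₁) (hJN : J ≤ Module.annihilator S₁ N₁)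
    (x : PrimeSpectrum (p.Fiber S)) (hxq : x.asIdeal = FlatCA.fiberIdeal p q)
    (hx : x ∈ Module.support (p.Fiber S) (FlatCA.fiberMod p S N))
    (hn : FlatMor.localDim (Module.support (p.Fiber S) (FlatCA.fiberMod p S N)) ⟨x, hx⟩ = n) :
    ∃ (R' S' : Type u) (_ : CommRing R') (_ : CommRing S') (_ : Algebra R R') (_ : Algebra S S') (_ : Algebra R' S')
      (_ : Algebra R S') (_ : IsScalarTower R R' S') (_ : IsScalarTower R S S')
      (p' : Ideal R') (q' : Ideal S') (_ : p'.IsPrime) (_ : q'.IsPrime),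
      FlatCA.IsEtaleNhd R R' p p' ∧ FlatCA.IsEtaleNhd S S' q q' ∧ q'.LiesOver p' ∧
      ∀ (N' : Type u) [AddCommGroup N'] [Module S' N'] [Module S N'] [IsScalarTower S S' N']
        (f : N →ₗ[S] N'), IsBaseChange S' f → Devissable p' q' N' := by
  classical
  haveI := GrothLib.RG6.Geom.smooth_of_smoothRelDim hsm
  haveI : IsDomain (p₁.Fiber D) := isDomain_fiber p₁ hint
  let ξ := p₁.map (algebraMap R₁ D)
  haveI hξ : ξ.IsPrime := isPrime_map p₁
  obtain ⟨hRet, hRo, -⟩ := id hR₁
  obtain ⟨hSet, hSo, -⟩ := id hS₁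
  haveI := hRet; haveI := hSet
  haveI : Module.Finite S₁ N₁ := Module.Finite.equiv hf₁.equiv
  -- finiteness over `D`
  haveI : Module.Finite D N₁ := by
    have htor : Module.IsTorsionBySet S₁ N₁ (J : Set S₁) := (Module.isTorsionBySet_iff_subset_annihilator S₁ N₁).2 hJN
    letI := htor.module
    haveI : IsScalarTower D (S₁ ⧸ J) N₁ := IsScalarTower.of_algebraMap_smul fun d w => by
      show Ideal.Quotient.mk J (algebraMap D S₁ d) • w = d • w
      rw [Module.IsTorsionBySet.mk_smul, algebraMap_smul]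
    haveI : IsScalarTower S₁ (S₁ ⧸ J) N₁ := IsScalarTower.of_algebraMap_smul fun d w => Module.IsTorsionBySet.mk_smul htor d w
    haveI : Module.Finite (S₁ ⧸ J) N₁ := Module.Finite.of_restrictScalars_finite S₁ (S₁ ⧸ J) N₁
    exact Module.Finite.trans (S₁ ⧸ J) N₁
  -- the dimension upstairs
  haveI : q₁.LiesOver p₁ := Ideal.LiesOver.trans q₁ y p₁
  haveI := hRo
  obtain ⟨x₁, hx₁q, hx₁c⟩ := exists_fibre_prime p₁ q₁
  obtain ⟨x', hx'q, hx'c⟩ := exists_fibre_prime p q
  obtain rfl : x = x' := PrimeSpectrum.ext (hxq.trans hx'q.symm)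
  obtain ⟨hx₁, hdim⟩ := localDim_support_etale (R₁ := R₁) (S₁ := S₁) N N₁ f₁ hf₁ p p₁ x₁ x (by
    rw [PrimeSpectrum.comap_asIdeal, PrimeSpectrum.comap_asIdeal, hx₁c, hx'c]
    exact hSo.over.symm) hx
  rw [hn] at hdim
  have hannξ : Module.annihilator D N₁ ≤ ξ := by
    intro a ha
    by_contra hξa
    have hlt := localDim_support_lt (p := p₁) hsm J N₁ hJN a hξa (Module.mem_annihilator.2 fun m => by
      rw [algebraMap_smul]; exact Module.mem_annihilator.1 ha m) x₁ hx₁
    rw [hdim] at hlt
    exact lt_irrefl _ hlt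
  -- a basis at the generic point of the fibre
  let K := ξ.ResidueField
  have hnt : Nontrivial (K ⊗[D] N₁) :=
    (Module.mem_support_iff_nontrivial_residueField_tensorProduct (R := D) (M := N₁) ⟨ξ, hξ⟩).1
      (Module.mem_support_iff_of_finite.2 hannξ)
  let G : Set (K ⊗[D] N₁) := Set.range fun m : N₁ => (1 : K) ⊗ₜ[D] m
  have hG : ⊤ ≤ Submodule.span K G := by
    intro z _
    induction z using TensorProduct.induction_on with
    | zero => exact zero_mem _
    | tmul a m =>
      rw [show a ⊗ₜ[D] m = a • ((1 : K) ⊗ₜ[D] m) by rw [TensorProduct.smul_tmul', smul_eq_mul, mul_one]]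
      exact Submodule.smul_mem _ _ (Submodule.subset_span ⟨m, rfl⟩)
    | add a b ha hb => exact add_mem (ha trivial) (hb trivial)
  obtain ⟨t, htG, htspan, htli⟩ := exists_linearIndependent K G
  let bT : Module.Basis t K (K ⊗[D] N₁) := Module.Basis.mk htli (by rw [Subtype.range_coe, htspan]; exact hG)
  haveI : Finite t := Module.Finite.finite_basis bT
  haveI : Fintype t := Fintype.ofFinite t
  let b := bT.reindex (Fintype.equivFin t)
  let v : Fin (Fintype.card t) → N₁ := fun i => (htG ((Fintype.equivFin t).symm i).2).choose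
  have hb : ∀ i, b i = (1 : K) ⊗ₜ v i := fun i => by
    rw [Module.Basis.reindex_apply, Module.Basis.mk_apply]
    exact (htG ((Fintype.equivFin t).symm i).2).choose_spec.symm
  have hr : 0 < Fintype.card t := Fin.pos_iff_nonempty.2 b.index_nonempty
  -- the cokernel is small
  let M₁ := N₁ ⧸ LinearMap.range (Fintype.linearCombination D v)
  let π : N₁ →ₗ[D] M₁ := Submodule.mkQ _
  have hsub : Subsingleton (K ⊗[D] M₁) := by
    have h0 : π.baseChange K = 0 := b.ext fun i => by
      rw [hb, LinearMap.baseChange_tmul, LinearMap.zero_apply]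
      rw [show π (v i) = 0 from (Submodule.Quotient.mk_eq_zero _).2 ⟨Pi.single i 1, by simp⟩, TensorProduct.tmul_zero]
    refine subsingleton_of_forall_eq 0 fun z => ?_
    obtain ⟨w, rfl⟩ := LinearMap.lTensor_surjective K (Submodule.mkQ_surjective _ : Function.Surjective π) z
    exact LinearMap.congr_fun h0 w
  have hannM : ¬ Module.annihilator D M₁ ≤ ξ := fun h =>
    not_nontrivial (K ⊗[D] M₁) ((Module.mem_support_iff_nontrivial_residueField_tensorProduct (R := D) (M := M₁) ⟨ξ, hξ⟩).1
      (Module.mem_support_iff_of_finite.2 h))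
  obtain ⟨a, ha, haξ⟩ := SetLike.not_le_iff_exists.1 hannM
  haveI : Module.Finite D (D ⧸ (⊥ : Ideal D)) := inferInstance
  obtain ⟨R₂, D₂, _, _, _, _, _, _, _, _, p₂, y₂, _, _, hR₂, hD₂, hy₂p₂, hlow⟩ := hIH R₁ D M₁ p₁ y
    fun z hz _ => localDim_support_lt (p := p₁) hsm (⊥ : Ideal D) M₁ bot_le a haξ ha z hz
  obtain ⟨R₃, S', _, _, _, _, _, p₃, q', _, _, hcompat, hR₃, hS', hq'p₃, hdev⟩ :=
    devissable_step p₁ y q₁ J hJfg hJq huniq n hsm hpt p₂ y₂ hR₂ hD₂ N₁ hJN v b hb hr hlow
  letI : Algebra R R₃ := ((algebraMap R₁ R₃).comp (algebraMap R R₁)).toAlgebra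
  haveI : IsScalarTower R R₁ R₃ := IsScalarTower.of_algebraMap_eq fun _ => rfl
  letI : Algebra S S' := ((algebraMap S₁ S').comp (algebraMap S S₁)).toAlgebra
  haveI : IsScalarTower S S₁ S' := IsScalarTower.of_algebraMap_eq fun _ => rfl
  letI : Algebra R S' := ((algebraMap S S').comp (algebraMap R S)).toAlgebra
  haveI : IsScalarTower R S S' := IsScalarTower.of_algebraMap_eq fun _ => rfl
  haveI : IsScalarTower R R₃ S' := IsScalarTower.of_algebraMap_eq fun c => by
    show algebraMap S₁ S' (algebraMap S S₁ (algebraMap R S c)) = algebraMap R₃ S' (algebraMap R₁ R₃ (algebraMap R R₁ c))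
    rw [hcompat, ← IsScalarTower.algebraMap_apply R S S₁, ← IsScalarTower.algebraMap_apply R R₁ S₁]
  refine ⟨R₃, S', inferInstance, inferInstance, inferInstance, inferInstance, inferInstance, inferInstance,
    inferInstance, inferInstance, p₃, q', inferInstance, inferInstance, isEtaleNhd_trans hR₁ hR₃,
    isEtaleNhd_trans hS₁ hS', hq'p₃, ?_⟩
  intro N' _ _ _ _ f hf
  letI : Module S₁ N' := Module.compHom N' (algebraMap S₁ S')
  haveI : IsScalarTower S₁ S' N' := IsScalarTower.of_algebraMap_smul fun _ _ => rfl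
  haveI : IsScalarTower S S₁ N' := IsScalarTower.of_algebraMap_smul fun c w => by
    show algebraMap S₁ S' (algebraMap S S₁ c) • w = c • w
    rw [← IsScalarTower.algebraMap_apply S S₁ S', algebraMap_smul]
  have hcomp : (hf₁.lift f).restrictScalars S ∘ₗ f₁ = f := hf₁.lift_comp f
  exact hdev N' (hf₁.lift f) (IsBaseChange.of_comp hf₁ (hcomp.symm ▸ hf))

/-- The recursion. -/
theorem devBelow : ∀ k : ℕ, DevBelow.{u} k := by
  intro k
  induction k with
  | zero =>
    intro R S _ _ _ _ N _ _ _ _ _ p _ q _ _ hdim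
    obtain ⟨x, hxq, -⟩ := exists_fibre_prime p q
    have hann : ¬ Module.annihilator S N ≤ q := fun h => by
      have hx := (fiber_support_iff N p q x hxq).2 h
      obtain ⟨n, hn⟩ := exists_nat_localDim N p ⟨x, hx⟩
      have := hdim x hx hxq
      rw [hn] at this
      exact absurd (Nat.cast_lt.1 this) (Nat.not_lt_zero n)
    exact outside N p q hann
  | succ k ih =>
    intro R S _ _ _ _ N _ _ _ _ _ p _ q _ _ hdim
    obtain ⟨x, hxq, -⟩ := exists_fibre_prime p q
    by_cases hann : Module.annihilator S N ≤ q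
    · have hx := (fiber_support_iff N p q x hxq).2 hann
      obtain ⟨n, hn⟩ := exists_nat_localDim N p ⟨x, hx⟩
      have hnk : n ≤ k := by
        have := hdim x hx hxq
        rw [hn] at this
        exact Nat.lt_succ_iff.1 (Nat.cast_lt.1 this)
      obtain ⟨R₁, S₁, D, _, _, _, _, _, _, _, _, _, _, _, _, p₁, q₁, y, _, _, _, _, _, J, hR₁, hS₁, hJfg, hJq, hJN,
        _, huniq, hpt, hsm, hint⟩ := exists_strong_elem N p q n x hxq hx hn
      let N₁ := S₁ ⊗[S] N
      haveI : SMulCommClass S D S₁ := inferInstance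
      haveI : SMulCommClass S R₁ S₁ := inferInstance
      refine devBelow_step n ?_ N p q p₁ y q₁ J hR₁ hS₁ hJfg hJq huniq hpt hsm hint N₁ (TensorProduct.mk S S₁ N 1)
        (TensorProduct.isBaseChange S N S₁) hJN x hxq hx hn
      exact mono hnk ih
    · exact outside N p q hann
where
  mono {n k : ℕ} (h : n ≤ k) (hk : DevBelow.{u} k) : DevBelow.{u} n := by
    intro R S _ _ _ _ N _ _ _ _ _ p _ q _ _ hdim
    exact hk R S N p q fun x hx hxq => lt_of_lt_of_le (hdim x hx hxq) (Nat.cast_le.2 h)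
  outside {R S : Type u} [CommRing R] [CommRing S] [Algebra R S]
      (N : Type u) [AddCommGroup N] [Module S N] (p : Ideal R) [p.IsPrime] (q : Ideal S) [q.IsPrime] [q.LiesOver p]
      (hann : ¬ Module.annihilator S N ≤ q) :
      ∃ (R' S' : Type u) (_ : CommRing R') (_ : CommRing S') (_ : Algebra R R') (_ : Algebra S S') (_ : Algebra R' S')
        (_ : Algebra R S') (_ : IsScalarTower R R' S') (_ : IsScalarTower R S S')
        (p' : Ideal R') (q' : Ideal S') (_ : p'.IsPrime) (_ : q'.IsPrime),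
        FlatCA.IsEtaleNhd R R' p p' ∧ FlatCA.IsEtaleNhd S S' q q' ∧ q'.LiesOver p' ∧
        ∀ (N' : Type u) [AddCommGroup N'] [Module S' N'] [Module S N'] [IsScalarTower S S' N']
          (f : N →ₗ[S] N'), IsBaseChange S' f → Devissable p' q' N' := by
    refine ⟨R, S, inferInstance, inferInstance, Algebra.id R, Algebra.id S, inferInstance, inferInstance, inferInstance,
      inferInstance, p, q, inferInstance, inferInstance, isEtaleNhd_refl R p, isEtaleNhd_refl S q, inferInstance, ?_⟩
    intro N' _ i₁ i₂ i₃ f hf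
    obtain rfl : i₁ = i₂ := Module.ext' _ _ fun c w => by
      have h := i₃.smul_assoc c (1 : S) w
      rw [smul_eq_mul, mul_one, @one_smul S N' _ i₁.toMulAction] at h
      exact h
    obtain ⟨s₀, hs₀, hs₀q⟩ := SetLike.not_le_iff_exists.1 hann
    refine devissable_of_annihilator p q N' fun h => hs₀q (h ?_)
    refine Module.mem_annihilator.2 fun w => ?_
    induction w using hf.inductionOn with
    | zero => exact smul_zero _
    | tmul m =>
      have h1 : (algebraMap S S s₀) • f m = s₀ • f m := algebraMap_smul (R := S) S s₀ (f m)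
      exact h1.trans (by rw [← map_smul, Module.mem_annihilator.1 hs₀ m, map_zero])
    | smul a w hw => rw [smul_comm, hw, smul_zero]
    | add a b ha hb => rw [smul_add, ha, hb, add_zero]

end GrothLib.RG6.Dev
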