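import Mathlib
import Groth.Prelude.Def_FlatCA
import Groth.Agent.Lib.RG6.Dev.Complete

/-!
# Models of complete dévissages
-/

set_option autoImplicit false
set_option linter.style.haveILetI false
set_option linter.unusedSectionVars false

universe u

open TensorProduct

attribute [local instance] Algebra.TensorProduct.rightAlgebra

namespace GrothLib.RG6.Dev

open GrothLib.RG6.Geom (pieceHom)

/-- Extracting a model from the shrinkable form, over a principal open of the base. -/
theorem exists_model_of_devissable {R S : Type u} [CommRing R] [CommRing S] [Algebra R S] (p : Ideal R) [p.IsPrime]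
    (q : Ideal S) [q.IsPrime] [q.LiesOver p] (N : Type u) [AddCommGroup N] [Module S N] [Module.Finite S N]
    (hann : Module.annihilator S N ≤ q) (h : Devissable p q N) :
    ∃ (R₃ T : Type u) (_ : CommRing R₃) (_ : CommRing T) (_ : Algebra R R₃) (_ : Algebra S T) (_ : Algebra R₃ T)
      (_ : Algebra R T) (_ : IsScalarTower R R₃ T) (_ : IsScalarTower R S T)
      (p₃ : Ideal R₃) (q₃ : Ideal T) (_ : p₃.IsPrime) (_ : q₃.IsPrime),
      FlatCA.IsEtaleNhd R R₃ p p₃ ∧ FlatCA.IsEtaleNhd S T q q₃ ∧ q₃.LiesOver p₃ ∧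
      ∀ (N₃ : Type u) [AddCommGroup N₃] [Module T N₃] [Module S N₃] [IsScalarTower S T N₃] (f : N →ₗ[S] N₃),
        IsBaseChange T f → FlatCA.HasCompleteDevissageAt R₃ T N₃ p₃ q₃ := by
  obtain ⟨g, hg, t, -, ht, hD⟩ := h R p (isEtaleNhd_refl R p) 1
    fun Q hQ _ _ h1 => hQ.ne_top ((Ideal.eq_top_iff_one _).2 h1)
  let R₃ := Localization.Away g
  let p₃ : Ideal R₃ := p.map (algebraMap R R₃)
  have hdisj : Disjoint (Submonoid.powers g : Set R) ↑p := (Ideal.disjoint_powers_iff_notMem_of_isPrime _).2 hg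
  haveI : p₃.IsPrime := IsLocalization.isPrime_of_isPrime_disjoint _ _ p ‹_› hdisj
  have hp₃ : p₃.comap (algebraMap R R₃) = p := IsLocalization.under_map_of_isPrime_disjoint _ _ ‹_› hdisj
  have hR₃ : FlatCA.IsEtaleNhd R R₃ p p₃ := isEtaleNhd_away R₃ g p p₃ hp₃
  obtain ⟨hR₃e, hR₃o, hR₃b⟩ := id hR₃
  haveI := hR₃e
  obtain ⟨Q, _, hQp, hQr, ⟨hQo, hQb⟩, -⟩ := exists_baseChange_point (A' := R₃) p p₃ hR₃o hR₃b q
  let E := R₃ ⊗[R] S
  let t₃ : E := Algebra.TensorProduct.map (IsScalarTower.toAlgHom R R R₃) (AlgHom.id R S) t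
  let mt : R ⊗[R] S →ₐ[R] E := Algebra.TensorProduct.map (IsScalarTower.toAlgHom R R R₃) (AlgHom.id R S)
  have ht₃ : t₃ ∉ Q := by
    refine ht (Q.comap mt.toRingHom) (Ideal.IsPrime.comap _) ⟨?_⟩ ?_
    · ext c
      show c ∈ p ↔ Algebra.TensorProduct.map _ _ (c ⊗ₜ[R] (1 : S)) ∈ Q
      rw [Algebra.TensorProduct.map_tmul, map_one]
      exact (SetLike.ext_iff.1 hR₃o.over c).trans (SetLike.ext_iff.1 hQp.over (algebraMap R R₃ c))
    · ext c
      show Algebra.TensorProduct.map _ _ ((1 : R) ⊗ₜ[R] c) ∈ Q ↔ c ∈ q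
      rw [Algebra.TensorProduct.map_tmul, map_one]
      exact SetLike.ext_iff.1 hQr c
  let T := Localization.Away t₃
  let q₃ : Ideal T := Q.map (algebraMap E T)
  have hdisjT : Disjoint (Submonoid.powers t₃ : Set E) ↑Q := (Ideal.disjoint_powers_iff_notMem_of_isPrime _).2 ht₃
  haveI : q₃.IsPrime := IsLocalization.isPrime_of_isPrime_disjoint _ _ Q ‹_› hdisjT
  have hq₃ : q₃.comap (algebraMap E T) = Q := IsLocalization.under_map_of_isPrime_disjoint _ _ ‹_› hdisjT
  haveI : IsScalarTower S E T := inferInstance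
  haveI : IsScalarTower R R₃ T := inferInstance
  haveI : IsScalarTower R S T := IsScalarTower.of_algebraMap_eq fun c => by
    rw [IsScalarTower.algebraMap_apply R E T, IsScalarTower.algebraMap_apply S E T]
    congr 1
    rw [← IsScalarTower.algebraMap_apply R S E]
  have hpiece : pieceHom R R₃ S T = IsScalarTower.toAlgHom R E T := by
    refine Algebra.TensorProduct.ext' fun c d => ?_
    rw [pieceHom_tmul]
    show algebraMap E T (c ⊗ₜ[R] (1 : S)) * algebraMap E T ((1 : R₃) ⊗ₜ[R] d) = algebraMap E T (c ⊗ₜ[R] d)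
    rw [← map_mul, Algebra.TensorProduct.tmul_mul_tmul, mul_one, one_mul]
  have hT : IsAwayPiece R R₃ S T t₃ := by
    have halg : (pieceHom R R₃ S T).toRingHom.toAlgebra = (inferInstance : Algebra E T) :=
      Algebra.algebra_ext _ _ fun z => by
        show pieceHom R R₃ S T z = _
        rw [hpiece]
        rfl
    unfold IsAwayPiece
    rw [halg]
    infer_instance
  have hSE : FlatCA.IsEtaleNhd S E q Q := by
    refine ⟨?_, hQo, hQb⟩
    exact Algebra.Etale.of_equiv
      (show S ⊗[R] R₃ ≃ₐ[S] E from AlgEquiv.ofRingEquiv (f := (Algebra.TensorProduct.comm R S R₃).toRingEquiv) fun _ => rfl)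
  have hST : FlatCA.IsEtaleNhd S T q q₃ := isEtaleNhd_trans hSE (isEtaleNhd_away T t₃ Q q₃ hq₃)
  have hq₃p : q₃.LiesOver p₃ := ⟨by
    show p₃ = q₃.comap (algebraMap R₃ T)
    rw [IsScalarTower.algebraMap_eq R₃ E T, ← Ideal.comap_comap, hq₃]
    exact hQp.over⟩
  refine ⟨R₃, T, inferInstance, inferInstance, inferInstance, inferInstance, inferInstance, inferInstance,
    inferInstance, inferInstance, p₃, q₃, inferInstance, inferInstance, hR₃, hST, hq₃p, ?_⟩
  intro N₃ _ _ _ _ f hf
  refine (hD R₃ p₃ hR₃ (IsLocalization.Away.algebraMap_isUnit g) T hT q₃ hq₃p hST.2.choose N₃ f hf).resolve_left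
    fun hs => ?_
  have hmem : (⟨q₃, ‹_›⟩ : PrimeSpectrum T) ∈ Module.support T N₃ := by
    rw [← hf.equiv.support_eq, GrothLib.DevBC13.support_tensor, Module.support_eq_zeroLocus]
    show Module.annihilator S N ≤ q₃.comap (algebraMap S T)
    exact hann.trans hST.2.choose.over.le
  rw [Module.support_eq_empty_iff.2 hs] at hmem
  exact hmem

/-- Complete dévissages exist after étale localisation. -/
theorem exists_completeDevissage_etale {R S : Type u} [CommRing R] [CommRing S] [Algebra R S] [Algebra.FiniteType R S]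
    (N : Type u) [AddCommGroup N] [Module S N] [Module R N] [IsScalarTower R S N] [Module.Finite S N]
    (p : Ideal R) [p.IsPrime] (q : Ideal S) [q.IsPrime] [q.LiesOver p] (hann : Module.annihilator S N ≤ q) :
    ∃ (R' S' : Type u) (_ : CommRing R') (_ : CommRing S') (_ : Algebra R R') (_ : Algebra S S') (_ : Algebra R' S')
      (_ : Algebra R S') (_ : IsScalarTower R R' S') (_ : IsScalarTower R S S')
      (p' : Ideal R') (q' : Ideal S') (_ : p'.IsPrime) (_ : q'.IsPrime),
      FlatCA.IsEtaleNhd R R' p p' ∧ FlatCA.IsEtaleNhd S S' q q' ∧ q'.LiesOver p' ∧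
      ∀ (N' : Type u) [AddCommGroup N'] [Module S' N'] [Module S N'] [IsScalarTower S S' N']
        (f : N →ₗ[S] N'), IsBaseChange S' f → FlatCA.HasCompleteDevissageAt R' S' N' p' q' := by
  obtain ⟨x, hxq, -⟩ := exists_fibre_prime p q
  have hx := (fiber_support_iff N p q x hxq).2 hann
  obtain ⟨n, hn⟩ := exists_nat_localDim N p ⟨x, hx⟩
  obtain ⟨R₁, S₁, _, _, _, _, _, _, _, _, p₁, q₁, _, _, hR₁, hS₁, hq₁p₁, hdev⟩ :=
    devBelow (n + 1) R S N p q fun z hz hzq => by
      obtain rfl : z = x := PrimeSpectrum.ext (hzq.trans hxq.symm)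
      rw [hn]
      exact Nat.cast_lt.2 n.lt_succ_self
  obtain ⟨-, hS₁o, -⟩ := id hS₁
  have hann₁ : Module.annihilator S₁ (S₁ ⊗[S] N) ≤ q₁ := by
    have hmem : (⟨q₁, ‹_›⟩ : PrimeSpectrum S₁) ∈ Module.support S₁ (S₁ ⊗[S] N) := by
      rw [GrothLib.DevBC13.support_tensor, Module.support_eq_zeroLocus]
      show Module.annihilator S N ≤ q₁.comap (algebraMap S S₁)
      exact hann.trans hS₁o.over.le
    exact Module.mem_support_iff_of_finite.1 hmem
  obtain ⟨R₃, T, _, _, _, _, _, _, _, _, p₃, q₃, _, _, hR₃, hT, hq₃p₃, hmodel⟩ :=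
    exists_model_of_devissable p₁ q₁ (S₁ ⊗[S] N) hann₁
      (hdev (S₁ ⊗[S] N) (TensorProduct.mk S S₁ N 1) (TensorProduct.isBaseChange S N S₁))
  letI : Algebra R R₃ := ((algebraMap R₁ R₃).comp (algebraMap R R₁)).toAlgebra
  haveI : IsScalarTower R R₁ R₃ := IsScalarTower.of_algebraMap_eq fun _ => rfl
  letI : Algebra S T := ((algebraMap S₁ T).comp (algebraMap S S₁)).toAlgebra
  haveI : IsScalarTower S S₁ T := IsScalarTower.of_algebraMap_eq fun _ => rfl
  letI : Algebra R T := ((algebraMap S T).comp (algebraMap R S)).toAlgebra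
  haveI : IsScalarTower R S T := IsScalarTower.of_algebraMap_eq fun _ => rfl
  haveI : IsScalarTower R R₃ T := IsScalarTower.of_algebraMap_eq fun c => by
    show algebraMap S₁ T (algebraMap S S₁ (algebraMap R S c)) = algebraMap R₃ T (algebraMap R₁ R₃ (algebraMap R R₁ c))
    rw [← IsScalarTower.algebraMap_apply R₁ R₃ T, ← IsScalarTower.algebraMap_apply R S S₁,
      IsScalarTower.algebraMap_apply R₁ S₁ T, ← IsScalarTower.algebraMap_apply R R₁ S₁]
  refine ⟨R₃, T, inferInstance, inferInstance, inferInstance, inferInstance, inferInstance, inferInstance,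
    inferInstance, inferInstance, p₃, q₃, inferInstance, inferInstance, isEtaleNhd_trans hR₁ hR₃,
    isEtaleNhd_trans hS₁ hT, hq₃p₃, ?_⟩
  intro N' _ _ _ _ f hf
  letI : Module S₁ N' := Module.compHom N' (algebraMap S₁ T)
  haveI : IsScalarTower S₁ T N' := IsScalarTower.of_algebraMap_smul fun _ _ => rfl
  haveI : IsScalarTower S S₁ N' := IsScalarTower.of_algebraMap_smul fun c w => by
    show algebraMap S₁ T (algebraMap S S₁ c) • w = c • w
    rw [← IsScalarTower.algebraMap_apply S S₁ T, algebraMap_smul]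
  have hbc := TensorProduct.isBaseChange S N S₁
  have hcomp : (hbc.lift f).restrictScalars S ∘ₗ TensorProduct.mk S S₁ N 1 = f := hbc.lift_comp f
  exact hmodel N' (hbc.lift f) (IsBaseChange.of_comp hbc (hcomp.symm ▸ hf))

end GrothLib.RG6.Dev
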