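import Mathlib
import Groth.Prelude.Def_FlatCA
import Groth.Agent.Lib.FlatFP.BaseLocus
import Groth.Agent.Lib.FlatAbove.Basic

/-!
# Flatness along the maps of an elementary dévissage
-/

set_option autoImplicit false
set_option linter.style.haveILetI false
set_option linter.unusedSectionVars false

universe u

open TensorProduct Function

namespace GrothLib.RG6.Dev

section Loc

variable {A B C : Type u} [CommRing A] [CommRing B] [CommRing C]
  [Algebra A B] [Algebra B C] [Algebra A C] [IsScalarTower A B C]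
  (M : Type u) [AddCommGroup M] [Module C M] [Module B M] [Module A M]
  [IsScalarTower B C M] [IsScalarTower A C M] [IsScalarTower A B M]

/-- `T⁻¹M` is flat over `A` iff `M` is flat at every prime of `C` not meeting `T`. -/
theorem flat_localized_iff (T₀ : Submonoid B) :
    Module.Flat A (LocalizedModule T₀ M) ↔
      ∀ (Q : Ideal C) [Q.IsPrime], (∀ t ∈ T₀, algebraMap B C t ∉ Q) → FlatCA.FlatAt A Q M := by
  let ι : M →ₗ[B] LocalizedModule T₀ M := LocalizedModule.mkLinearMap T₀ M
  constructor
  · intro hq Q _ hQ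
    show Module.Flat A (LocalizedModule Q.primeCompl M)
    rw [Module.Flat.iff_lTensor_preserves_injective_linearMap]
    intro N N' _ _ _ _ f hf
    refine GrothLib.FibreFlat.lTensor_injective_of_isLocalizedModule Q.primeCompl
      (LocalizedModule.mkLinearMap Q.primeCompl M) f fun x hx => ?_
    let σ := TensorProduct.AlgebraTensorModule.rTensor A N ι
    let σ' := TensorProduct.AlgebraTensorModule.rTensor A N' ι
    have hc : ∀ y, f.lTensor _ (σ y) = σ' (f.lTensor _ y) := fun y => by
      induction y using TensorProduct.induction_on with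
      | zero => simp
      | add a b ha hb => simp only [map_add, ha, hb]
      | tmul a b => rfl
    have h3 : σ x = σ 0 :=
      Module.Flat.lTensor_preserves_injective_linearMap (M := LocalizedModule T₀ M) f hf
        (by rw [hc, hx, map_zero, map_zero, map_zero])
    obtain ⟨t, ht⟩ := (IsLocalizedModule.eq_iff_exists T₀ σ).mp h3
    refine ⟨algebraMap B C t, hQ t t.2, ?_⟩
    rw [smul_zero, Submonoid.smul_def] at ht
    rw [algebraMap_smul]
    exact ht
  · intro h
    let T : Submonoid C := T₀.map (algebraMap B C)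
    let L := LocalizedModule T M
    let μ : M →ₗ[B] L := (LocalizedModule.mkLinearMap T M).restrictScalars B
    haveI : IsLocalizedModule T₀ μ := by
      refine ⟨fun t => ?_, fun y => ?_, fun {a b} hab => ?_⟩
      · have hu := IsLocalizedModule.map_units (S := T) (LocalizedModule.mkLinearMap T M)
          ⟨algebraMap B C t, Submonoid.mem_map_of_mem _ t.2⟩
        rw [Module.End.isUnit_iff] at hu ⊢
        convert hu using 1
        funext x
        simp only [Module.algebraMap_end_apply]
        exact (algebraMap_smul C (t : B) x).symm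
      · obtain ⟨⟨x, ⟨_, t, htq, rfl⟩⟩, hs⟩ :=
          IsLocalizedModule.surj T (LocalizedModule.mkLinearMap T M) y
        exact ⟨⟨x, ⟨t, htq⟩⟩, (algebraMap_smul C t y).symm.trans hs⟩
      · obtain ⟨⟨_, t, htq, rfl⟩, hs⟩ :=
          (IsLocalizedModule.eq_iff_exists T (LocalizedModule.mkLinearMap T M)).mp hab
        exact ⟨⟨t, htq⟩, (algebraMap_smul C t a).symm.trans (hs.trans (algebraMap_smul C t b))⟩
    haveI : Module.Flat A L := by
      rw [Module.Flat.iff_lTensor_preserves_injective_linearMap]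
      intro N N' _ _ _ _ f hf
      refine GrothLib.FibreFlat.lTensor_injective_of_isLocalizedModule T
        (LocalizedModule.mkLinearMap T M) f fun x hx => ?_
      by_contra hne
      push Not at hne
      let I : Ideal C := LinearMap.ker (LinearMap.toSpanSingleton C _ x)
      have hdisj : Disjoint (I : Set C) (T : Set C) := by
        rw [Set.disjoint_left]
        exact fun s hs hsT => hne s hsT (LinearMap.mem_ker.mp hs)
      obtain ⟨Q, hQ, hIQ, hQT⟩ := Ideal.exists_le_prime_disjoint I T hdisj
      haveI : Module.Flat A (LocalizedModule Q.primeCompl M) :=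
        h Q fun t ht htQ => Set.disjoint_left.mp hQT htQ (Submonoid.mem_map_of_mem _ ht)
      let σ := TensorProduct.AlgebraTensorModule.rTensor A N (LocalizedModule.mkLinearMap Q.primeCompl M)
      let σ' := TensorProduct.AlgebraTensorModule.rTensor A N' (LocalizedModule.mkLinearMap Q.primeCompl M)
      have hc : ∀ y, f.lTensor _ (σ y) = σ' (f.lTensor _ y) := fun y => by
        induction y using TensorProduct.induction_on with
        | zero => simp
        | add a b ha hb => simp only [map_add, ha, hb]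
        | tmul a b => rfl
      have h3 : σ x = σ 0 :=
        Module.Flat.lTensor_preserves_injective_linearMap
          (M := LocalizedModule Q.primeCompl M) f hf
          (by rw [hc, hx, map_zero, map_zero, map_zero])
      obtain ⟨t, ht⟩ := (IsLocalizedModule.eq_iff_exists Q.primeCompl σ).mp h3
      rw [smul_zero, Submonoid.smul_def] at ht
      exact t.2 (hIQ (LinearMap.mem_ker.mpr ht))
    exact Module.Flat.of_linearEquiv
      ((IsLocalizedModule.linearEquiv T₀ ι μ).restrictScalars A)

theorem flat_away_iff (g : B) :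
    Module.Flat A (LocalizedModule (Submonoid.powers g) M) ↔
      ∀ (Q : Ideal C) [Q.IsPrime], algebraMap B C g ∉ Q → FlatCA.FlatAt A Q M := by
  rw [flat_localized_iff (A := A) (C := C) M (Submonoid.powers g)]
  refine ⟨fun h Q _ hg => h Q fun t ht htQ => ?_, fun h Q _ hg => h Q (hg g ⟨1, pow_one g⟩)⟩
  obtain ⟨k, rfl⟩ := ht
  rw [map_pow] at htQ
  exact hg (‹Q.IsPrime›.mem_of_pow_mem k htQ)

theorem flatAt_of_forall (Q' : Ideal B) [Q'.IsPrime] :
    FlatCA.FlatAt A Q' M ↔ ∀ (Q : Ideal C) [Q.IsPrime], Q.comap (algebraMap B C) ≤ Q' → FlatCA.FlatAt A Q M :=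
  GrothLib.FlatFP.flat_localized_iff_forall_prime M Q'

end Loc

section Etale

variable {R R' S S' : Type u} [CommRing R] [CommRing R'] [CommRing S] [CommRing S']
  [Algebra R R'] [Algebra R' S'] [Algebra R S] [Algebra S S'] [Algebra R S'] [IsScalarTower R R' S']
  [IsScalarTower R S S'] [Algebra.Etale R R'] [Algebra.Etale S S']

theorem flatAt_etale {N G : Type u} [AddCommGroup N] [Module S N] [Module R N] [IsScalarTower R S N]
    [AddCommGroup G] [Module S' G] [Module S G] [IsScalarTower S S' G] [Module R' G] [IsScalarTower R' S' G]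
    [Module R G] [IsScalarTower R S' G] [IsScalarTower R R' G]
    (j : N →ₗ[S] G) (hj : IsBaseChange S' j) (Q' : Ideal S') [Q'.IsPrime] :
    FlatCA.FlatAt R (Q'.comap (algebraMap S S')) N ↔ FlatCA.FlatAt R' Q' G := by
  rw [GrothLib.FlatAbove.flatAt_iff j hj Q']
  haveI : IsScalarTower R R' (LocalizedModule Q'.primeCompl G) := IsScalarTower.of_algebraMap_smul fun r x => by
    induction x using LocalizedModule.induction_on with
    | _ m s => rw [LocalizedModule.smul'_mk, LocalizedModule.smul'_mk, algebraMap_smul]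
  refine ⟨fun (h : Module.Flat R _) => ?_, fun (h : Module.Flat R' _) => ?_⟩
  · exact Algebra.FormallyUnramified.flat_of_restrictScalars R R' (LocalizedModule Q'.primeCompl G)
  · exact Module.Flat.trans R R' (LocalizedModule Q'.primeCompl G)

end Etale

variable {R S : Type u} [CommRing R] [CommRing S] [Algebra R S]
  {N : Type u} [AddCommGroup N] [Module S N] [Module R N] [IsScalarTower R S N]
  {p : Ideal R} [p.IsPrime] {q : Ideal S} [q.IsPrime] {n : ℕ} (E : FlatCA.ElemDevissage R S N p q n)

instance : IsScalarTower E.R' E.S' E.G := IsScalarTower.of_algebraMap_smul fun r x => by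
  rw [← algebraMap_smul E.C (algebraMap E.R' E.S' r) x, ← IsScalarTower.algebraMap_apply, algebraMap_smul]

/-- Flatness of `N` below a point of the étale neighbourhood is flatness of `G` there. -/
theorem base_iff (Q' : Ideal E.S') [Q'.IsPrime] :
    FlatCA.FlatAt R (Q'.comap (algebraMap S E.S')) N ↔ FlatCA.FlatAt E.R' Q' E.G := by
  haveI : Algebra.Etale R E.R' := E.etaleR.1
  haveI : Algebra.Etale S E.S' := E.etaleS.1
  letI : Module R E.G := Module.compHom E.G (algebraMap R E.R')
  letI : Module S E.G := Module.compHom E.G (algebraMap S E.S')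
  haveI : IsScalarTower R E.R' E.G := IsScalarTower.of_algebraMap_smul fun r x => rfl
  haveI : IsScalarTower S E.S' E.G := IsScalarTower.of_algebraMap_smul fun r x => rfl
  haveI : IsScalarTower R E.S' E.G := IsScalarTower.of_algebraMap_smul fun r x => by
    rw [IsScalarTower.algebraMap_apply R E.R' E.S', algebraMap_smul, algebraMap_smul]
  exact flatAt_etale _ (E.isBaseChange.comp (IsBaseChange.ofEquiv E.iso)) Q'

/-- Flatness at the points of `S'` read on the points of `C`. -/
theorem mid_iff (Q' : Ideal E.S') [Q'.IsPrime] :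
    FlatCA.FlatAt R (Q'.comap (algebraMap S E.S')) N ↔
      ∀ (Q : Ideal E.C) [Q.IsPrime], Q.comap (algebraMap E.S' E.C) ≤ Q' → FlatCA.FlatAt E.R' Q E.G := by
  rw [base_iff E Q']
  exact flatAt_of_forall (A := E.R') (B := E.S') (C := E.C) E.G Q'

theorem comap_q' : E.q'.comap (algebraMap S E.S') = q := by
  obtain ⟨h, -⟩ := E.etaleS.2
  exact h.over.symm

theorem le_z_of_comap {Q : Ideal E.C} [Q.IsPrime] (h : Q.comap (algebraMap E.D E.C) ≤ E.y) : Q ≤ E.z := by
  haveI := E.finiteDC
  obtain ⟨Q₁, hle, hQ₁, hc⟩ := Ideal.exists_ideal_over_prime_of_isIntegral E.y Q h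
  haveI := hQ₁
  exact (E.uniq Q₁ ⟨hc.symm⟩) ▸ hle

theorem tfae_point :
    [FlatCA.FlatAt R q N, FlatCA.FlatAt E.R' E.z E.G, FlatCA.FlatAt E.R' E.y E.G].TFAE := by
  let P : Prop := ∀ (Q : Ideal E.C) [Q.IsPrime], Q ≤ E.z → FlatCA.FlatAt E.R' Q E.G
  have hz : FlatCA.FlatAt E.R' E.z E.G ↔ P := by
    rw [flatAt_of_forall (A := E.R') (B := E.C) (C := E.C) E.G E.z]
    exact forall₂_congr fun Q _ => by rw [Algebra.algebraMap_self, Ideal.comap_id]
  have hy : FlatCA.FlatAt E.R' E.y E.G ↔ P := by
    rw [flatAt_of_forall (A := E.R') (B := E.D) (C := E.C) E.G E.y]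
    exact forall₂_congr fun Q _ => imp_congr_left ⟨le_z_of_comap E,
      fun h => (Ideal.comap_mono h).trans E.zOverY.over.ge⟩
  have hq : FlatCA.FlatAt R q N ↔ P := by
    have h := mid_iff E E.q'
    simp only [comap_q'] at h
    rw [h]
    refine forall₂_congr fun Q _ => imp_congr_left ⟨fun hQ => ?_, fun hQ => (Ideal.comap_mono hQ).trans E.zOver.over.ge⟩
    exact (Ideal.comap_le_comap_iff_of_surjective _ E.surjC _ _).1 (hQ.trans E.zOver.over.le)
  tfae_have 1 ↔ 2 := hq.trans hz.symm
  tfae_have 2 ↔ 3 := hz.trans hy.symm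
  tfae_finish

theorem tfae_open :
    [∃ g : S, g ∉ q ∧ Module.Flat R (LocalizedModule (Submonoid.powers g) N),
     ∃ g : E.C, g ∉ E.z ∧ Module.Flat E.R' (LocalizedModule (Submonoid.powers g) E.G),
     ∃ g : E.D, g ∉ E.y ∧ Module.Flat E.R' (LocalizedModule (Submonoid.powers g) E.G)].TFAE := by
  haveI := E.finiteDC
  haveI : Algebra.Etale S E.S' := E.etaleS.1
  simp only [flat_away_iff (A := R) (B := S) (C := S) N, flat_away_iff (A := E.R') (B := E.C) (C := E.C) E.G,
    flat_away_iff (A := E.R') (B := E.D) (C := E.C) E.G, Algebra.algebraMap_self, RingHom.id_apply]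
  tfae_have 1 → 2 := by
    rintro ⟨g, hg, H⟩
    refine ⟨algebraMap E.S' E.C (algebraMap S E.S' g), fun hz => hg ?_, fun Q _ hQ => ?_⟩
    · have h : algebraMap S E.S' g ∈ E.q' := (SetLike.ext_iff.1 E.zOver.over _).2 hz
      rwa [← Ideal.mem_comap, comap_q'] at h
    · exact (mid_iff E (Q.comap (algebraMap E.S' E.C))).1
        (H ((Q.comap (algebraMap E.S' E.C)).comap (algebraMap S E.S')) hQ) Q le_rfl
  tfae_have 2 → 3 := by
    rintro ⟨g, hg, H⟩
    have : ¬ (Ideal.span {g}).comap (algebraMap E.D E.C) ≤ E.y := fun h => by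
      obtain ⟨Q₁, hle, hQ₁, hc⟩ := Ideal.exists_ideal_over_prime_of_isIntegral E.y (Ideal.span {g}) h
      haveI := hQ₁
      exact hg (E.uniq Q₁ ⟨hc.symm⟩ ▸ hle (Ideal.mem_span_singleton_self g))
    obtain ⟨d, hd, hdy⟩ := SetLike.not_le_iff_exists.1 this
    refine ⟨d, hdy, fun Q _ hQ => H Q fun hgQ => hQ ?_⟩
    obtain ⟨a, ha⟩ := Ideal.mem_span_singleton.1 (Ideal.mem_comap.1 hd)
    rw [ha]
    exact Q.mul_mem_right _ hgQ
  tfae_have 3 → 2 := by
    rintro ⟨d, hd, H⟩
    exact ⟨algebraMap E.D E.C d, fun h => hd (E.zOverY.over ▸ h), H⟩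
  tfae_have 2 → 1 := by
    rintro ⟨g, hg, H⟩
    obtain ⟨g', rfl⟩ := E.surjC g
    have hU : IsOpen (PrimeSpectrum.comap (algebraMap S E.S') '' (PrimeSpectrum.basicOpen g' : Set _)) :=
      PrimeSpectrum.isOpenMap_comap_of_hasGoingDown_of_finitePresentation _ (PrimeSpectrum.basicOpen g').2
    have hq : (⟨q, inferInstance⟩ : PrimeSpectrum S) ∈
        PrimeSpectrum.comap (algebraMap S E.S') '' (PrimeSpectrum.basicOpen g' : Set _) :=
      ⟨⟨E.q', inferInstance⟩, fun h => hg ((SetLike.ext_iff.1 E.zOver.over g').1 h),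
        PrimeSpectrum.ext (comap_q' E)⟩
    obtain ⟨_, ⟨s, rfl⟩, hs, hsU⟩ :=
      PrimeSpectrum.isTopologicalBasis_basic_opens.exists_subset_of_mem_open hq hU
    refine ⟨s, hs, fun Q hQ hsQ => ?_⟩
    obtain ⟨⟨Q', hQ'⟩, hg', he⟩ := hsU (show (⟨Q, hQ⟩ : PrimeSpectrum S) ∈ PrimeSpectrum.basicOpen s from hsQ)
    obtain rfl : Q'.comap (algebraMap S E.S') = Q := congrArg PrimeSpectrum.asIdeal he
    exact (mid_iff E Q').2 fun P _ hP => H P fun hgP => hg' (hP hgP)
  tfae_finish

end GrothLib.RG6.Dev
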