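import Mathlib

/-!
# Lifting étale algebras along surjections
-/

set_option autoImplicit false
set_option linter.style.haveILetI false
set_option linter.unusedSectionVars false

universe u

open TensorProduct Polynomial

namespace GrothLib.RG6.Dev

/-- Zariski locally, an étale algebra lifts along a surjection. -/
theorem exists_etale_lift {S C C' : Type u} [CommRing S] [CommRing C] [CommRing C'] [Algebra S C] [Algebra C C']
    [Algebra S C'] [IsScalarTower S C C'] [Algebra.Etale C C'] (hSC : Function.Surjective (algebraMap S C))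
    (z : Ideal C') [z.IsPrime] :
    ∃ c ∉ z, ∃ (S₀ : Type u) (_ : CommRing S₀) (_ : Algebra S S₀) (φ : S₀ →ₐ[S] Localization.Away c),
      Algebra.Etale S S₀ ∧ Function.Surjective φ := by
  haveI : Algebra.IsEtaleAt C z := inferInstance
  obtain ⟨c, hc, ⟨⟨P⟩⟩⟩ := Algebra.IsEtaleAt.exists_isStandardEtale (R := C) z
  let T := Localization.Away c
  obtain ⟨f, hf, -, hfm⟩ := Polynomial.lifts_and_natDegree_eq_and_monic
    (show P.P.f ∈ Polynomial.lifts (algebraMap S C) from
      (Polynomial.mem_lifts _).2 (Polynomial.map_surjective _ hSC P.P.f)) P.P.monic_f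
  obtain ⟨g, hg⟩ := Polynomial.map_surjective _ hSC P.P.g
  let Q : StandardEtalePair S := ⟨f, hfm, g * derivative f, g, 0, 1, by ring⟩
  have haev : ∀ p : S[X], aeval P.x p = aeval P.x (p.map (algebraMap S C)) := fun p =>
    (aeval_map_algebraMap C P.x p).symm
  have hmap : Q.HasMap P.x := by
    refine ⟨?_, ?_⟩
    · show aeval P.x f = 0
      rw [haev, hf]
      exact P.hasMap.1
    · show IsUnit (aeval P.x (g * derivative f))
      rw [map_mul, haev g, haev (derivative f), hg, ← derivative_map, hf]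
      exact P.hasMap.2.mul P.hasMap.isUnit_derivative_f
  let φ : Q.Ring →ₐ[S] T := Q.lift P.x hmap
  have hrange : ∀ p : C[X], aeval P.x p ∈ φ.range := fun p => by
    obtain ⟨q, rfl⟩ := Polynomial.map_surjective _ hSC p
    refine ⟨aeval Q.X q, ?_⟩
    show φ (aeval Q.X q) = _
    rw [← aeval_algHom_apply, StandardEtalePair.lift_X, haev]
  refine ⟨c, hc, Q.Ring, inferInstance, inferInstance, φ, inferInstance, fun y => ?_⟩
  obtain ⟨p, n, hp⟩ := P.exists_mul_aeval_x_g_pow_eq_aeval_x y
  obtain ⟨a, ha⟩ := hrange p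
  -- the inverse of the value of `g`
  obtain ⟨i, hi⟩ := (StandardEtalePair.hasMap_X (P := Q)).2.exists_right_inv
  have hd : aeval Q.X (g * derivative f) * i = 1 := hi
  have hφX : ∀ p : S[X], φ (aeval Q.X p) = aeval P.x p := fun p => by
    rw [← aeval_algHom_apply, StandardEtalePair.lift_X]
  have hgu : aeval P.x P.P.g * φ (aeval Q.X (derivative f) * i) = 1 := by
    rw [map_mul (aeval Q.X), mul_assoc] at hd
    have h := congrArg φ hd
    rw [map_one, map_mul φ, hφX, haev g, hg] at h
    exact h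
  refine ⟨a * (aeval Q.X (derivative f) * i) ^ n, ?_⟩
  rw [map_mul, show φ a = aeval P.x p from ha, ← hp, map_pow, mul_assoc, ← mul_pow, hgu, one_pow, mul_one]

/-- A surjection from an étale algebra onto a lifted étale algebra becomes the base change on a principal open. -/
theorem exists_cut {S C S₁ C₁ : Type u} [CommRing S] [CommRing C] [CommRing S₁] [CommRing C₁] [Algebra S C]
    [Algebra S S₁] [Algebra C C₁] [Algebra S C₁] [IsScalarTower S C C₁] [Algebra.Etale S S₁] [Algebra.Etale C C₁]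
    [Algebra.FinitePresentation S C] (hSC : Function.Surjective (algebraMap S C))
    (φ : S₁ →ₐ[S] C₁) (hφ : Function.Surjective φ) :
    ∃ s : S₁, IsUnit (φ s) ∧ ∀ x, φ x = 0 → s * x ∈ (RingHom.ker (algebraMap S C)).map (algebraMap S S₁) := by
  let J₁ := (RingHom.ker (algebraMap S C)).map (algebraMap S S₁)
  let K := RingHom.ker φ
  have hJK : J₁ ≤ K := Ideal.map_le_iff_le_comap.2 fun j hj => by
    show φ (algebraMap S S₁ j) = 0
    rw [AlgHom.commutes, IsScalarTower.algebraMap_apply S C C₁, RingHom.mem_ker.1 hj, map_zero]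
  -- the kernel is idempotent modulo the ideal
  have hidem : K ≤ K ^ 2 ⊔ J₁ := by
    let I := K ^ 2 ⊔ J₁
    let B := S₁ ⧸ I
    let sB : { g : S →+* B // RingHom.ker (algebraMap S C) ≤ RingHom.ker g } :=
      ⟨algebraMap S B, fun j hj => RingHom.mem_ker.2 (by
        rw [IsScalarTower.algebraMap_apply S S₁ B]
        exact Ideal.Quotient.eq_zero_iff_mem.2 (Ideal.mem_sup_right (Ideal.mem_map_of_mem _ hj)))⟩
    let θ : C →+* B := RingHom.liftOfSurjective (algebraMap S C) hSC sB
    letI : Algebra C B := θ.toAlgebra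
    haveI : IsScalarTower S C B := IsScalarTower.of_algebraMap_eq fun s =>
      ((algebraMap S C).liftOfSurjective_comp_apply hSC sB s).symm
    have hle : I ≤ K := sup_le (Ideal.pow_le_self two_ne_zero) hJK
    let g₀ : B →ₐ[S] C₁ := Ideal.Quotient.liftₐ I φ fun a ha => hle ha
    let g : B →ₐ[C] C₁ :=
      { g₀.toRingHom with
        commutes' := fun c => by
          obtain ⟨s, rfl⟩ := hSC c
          show g₀ (algebraMap C B (algebraMap S C s)) = algebraMap C C₁ (algebraMap S C s)
          rw [← IsScalarTower.algebraMap_apply S C B, ← IsScalarTower.algebraMap_apply S C C₁, AlgHom.commutes] }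
    have hg : Function.Surjective g := fun y => by
      obtain ⟨x, rfl⟩ := hφ y
      exact ⟨Ideal.Quotient.mk I x, rfl⟩
    have hnil : IsNilpotent (RingHom.ker (g : B →+* C₁)) := by
      refine ⟨2, ?_⟩
      have hk : RingHom.ker (g : B →+* C₁) ≤ K.map (Ideal.Quotient.mk I) := fun y hy => by
        obtain ⟨x, rfl⟩ := Ideal.Quotient.mk_surjective y
        exact Ideal.mem_map_of_mem _ (show φ x = 0 from hy)
      refine eq_bot_iff.2 ((Ideal.pow_right_mono hk 2).trans ?_)
      rw [← Ideal.map_pow, Ideal.map_le_iff_le_comap]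
      exact fun x hx => Ideal.Quotient.eq_zero_iff_mem.2 (Ideal.mem_sup_left hx)
    obtain ⟨σ, hσ⟩ : ∃ σ : C₁ →ₐ[C] B, g.comp σ = AlgHom.id C C₁ :=
      ⟨Algebra.FormallySmooth.liftOfSurjective (AlgHom.id C C₁) g hg hnil,
        Algebra.FormallySmooth.comp_liftOfSurjective _ g hg hnil⟩
    have hnil' : IsNilpotent (RingHom.ker (g.restrictScalars S : B →+* C₁)) := hnil
    have heq : (σ.restrictScalars S).comp φ = Ideal.Quotient.mkₐ S I :=
      Algebra.FormallyUnramified.lift_unique_of_ringHom (g : B →+* C₁) hnil _ _ (by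
        ext x
        exact (AlgHom.congr_fun hσ (φ x)).trans rfl)
    intro x hx
    refine Ideal.Quotient.eq_zero_iff_mem.1 ?_
    show Ideal.Quotient.mkₐ S I x = 0
    rw [← heq]
    show σ (φ x) = 0
    rw [show φ x = 0 from hx, map_zero]
  haveI : Algebra.FinitePresentation S C₁ := Algebra.FinitePresentation.trans S C C₁
  have hKfg : K.FG := Algebra.FinitePresentation.ker_fG_of_surjective φ hφ
  let K' := K.map (Ideal.Quotient.mk J₁)
  have hK' : IsIdempotentElem K' := by
    show K' * K' = K'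
    refine le_antisymm Ideal.mul_le_left ?_
    rw [← sq, ← Ideal.map_pow]
    refine (Ideal.map_mono hidem).trans ?_
    rw [Ideal.map_sup, Ideal.map_quotient_self, sup_bot_eq]
  obtain ⟨e, he, heK⟩ := (Ideal.isIdempotentElem_iff_of_fg K' (hKfg.map _)).1 hK'
  obtain ⟨e₁, rfl⟩ := Ideal.Quotient.mk_surjective e
  have he₁ : φ e₁ = 0 := by
    have : e₁ ∈ K'.comap (Ideal.Quotient.mk J₁) := by
      show Ideal.Quotient.mk J₁ e₁ ∈ K'
      rw [heK]
      exact Ideal.mem_span_singleton_self _
    rw [Ideal.comap_map_of_surjective _ Ideal.Quotient.mk_surjective, ← RingHom.ker_eq_comap_bot, Ideal.mk_ker,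
      sup_eq_left.2 hJK] at this
    exact this
  refine ⟨1 - e₁, by rw [map_sub, map_one, he₁, sub_zero]; exact isUnit_one, fun x hx => ?_⟩
  have hxK : Ideal.Quotient.mk J₁ x ∈ K' := Ideal.mem_map_of_mem _ (show x ∈ K from hx)
  rw [heK, Ideal.mem_span_singleton'] at hxK
  obtain ⟨a, ha⟩ := hxK
  refine Ideal.Quotient.eq_zero_iff_mem.1 ?_
  rw [map_mul, map_sub, map_one, ← ha]
  have : (1 - Ideal.Quotient.mk J₁ e₁) * Ideal.Quotient.mk J₁ e₁ = 0 := by
    rw [sub_mul, one_mul, he.eq, sub_self]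
  rw [mul_comm a, ← mul_assoc, this, zero_mul]

/-- A surjection with kernel generated by the kernel below is a pushout. -/
theorem isPushout_of_surjective {S C S₁ C₁ : Type u} [CommRing S] [CommRing C] [CommRing S₁] [CommRing C₁]
    [Algebra S C] [Algebra S S₁] [Algebra C C₁] [Algebra S₁ C₁] [Algebra S C₁] [IsScalarTower S C C₁]
    [IsScalarTower S S₁ C₁] (hSC : Function.Surjective (algebraMap S C))
    (hσ : Function.Surjective (algebraMap S₁ C₁))
    (hker : RingHom.ker (algebraMap S₁ C₁) ≤ (RingHom.ker (algebraMap S C)).map (algebraMap S S₁)) :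
    Algebra.IsPushout S S₁ C C₁ := by
  have hone : ∀ z : S₁ ⊗[S] C, ∃ a, z = a ⊗ₜ[S] (1 : C) := fun z => by
    induction z using TensorProduct.induction_on with
    | zero => exact ⟨0, (zero_tmul _ _).symm⟩
    | tmul a c =>
      obtain ⟨s, rfl⟩ := hSC c
      exact ⟨s • a, by rw [TensorProduct.smul_tmul, Algebra.smul_def, mul_one]⟩
    | add u v hu hv =>
      obtain ⟨a, rfl⟩ := hu
      obtain ⟨b, rfl⟩ := hv
      exact ⟨a + b, (add_tmul _ _ _).symm⟩
  rw [Algebra.isPushout_iff]
  let ι := (IsScalarTower.toAlgHom S C C₁).toLinearMap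
  show Function.Bijective (ι.liftBaseChange S₁)
  have hval : ∀ a : S₁, ι.liftBaseChange S₁ (a ⊗ₜ[S] (1 : C)) = algebraMap S₁ C₁ a := fun a => by
    rw [LinearMap.liftBaseChange_tmul, Algebra.smul_def]
    show algebraMap S₁ C₁ a * algebraMap C C₁ 1 = _
    rw [map_one, mul_one]
  refine ⟨(injective_iff_map_eq_zero _).2 fun z hz => ?_, fun y => ?_⟩
  · obtain ⟨a, rfl⟩ := hone z
    rw [hval] at hz
    have hmem := hker (RingHom.mem_ker.2 hz)
    let zr : Ideal S₁ :=
      { carrier := {b | b ⊗ₜ[S] (1 : C) = 0}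
        zero_mem' := zero_tmul _ _
        add_mem' := fun {b c} hb hc => by show (b + c) ⊗ₜ[S] (1 : C) = 0; rw [add_tmul, hb, hc, add_zero]
        smul_mem' := fun r b hb => by
          show (r * b) ⊗ₜ[S] (1 : C) = 0
          rw [show (r * b) ⊗ₜ[S] (1 : C) = (r ⊗ₜ[S] (1 : C)) * (b ⊗ₜ[S] (1 : C)) by
            rw [Algebra.TensorProduct.tmul_mul_tmul, mul_one], hb, mul_zero] }
    refine (Ideal.map_le_iff_le_comap.2 fun j hj => ?_ : _ ≤ zr) hmem
    show algebraMap S S₁ j ⊗ₜ[S] (1 : C) = 0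
    rw [Algebra.algebraMap_eq_smul_one, TensorProduct.smul_tmul, ← Algebra.algebraMap_eq_smul_one,
      RingHom.mem_ker.1 hj, tmul_zero]
  · obtain ⟨a, rfl⟩ := hσ y
    exact ⟨a ⊗ₜ 1, hval a⟩

/-- Residue fields along a commutative square with surjective rows. -/
theorem bijective_residue_of_surjective {S C S₁ C₁ : Type u} [CommRing S] [CommRing C] [CommRing S₁] [CommRing C₁]
    [Algebra S C] [Algebra S S₁] [Algebra C C₁] [Algebra S₁ C₁] [Algebra S C₁] [IsScalarTower S C C₁]
    [IsScalarTower S S₁ C₁] (hSC : Function.Surjective (algebraMap S C))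
    (q : Ideal S) [q.IsPrime] (z : Ideal C) [z.IsPrime] [hzq : z.LiesOver q] (q₁ : Ideal S₁) [q₁.IsPrime]
    (hq : q₁.LiesOver q) (z₁ : Ideal C₁) [z₁.IsPrime] [hz₁ : z₁.LiesOver q₁] (hz : z₁.LiesOver z)
    (hb : Function.Bijective (Ideal.ResidueField.mapₐ z z₁ (Algebra.ofId C C₁) hz.over)) :
    Function.Bijective (Ideal.ResidueField.mapₐ q q₁ (Algebra.ofId S S₁) hq.over) := by
  let m := Ideal.ResidueField.mapₐ q q₁ (Algebra.ofId S S₁) hq.over
  let m' := Ideal.ResidueField.mapₐ q₁ z₁ (Algebra.ofId S₁ C₁) hz₁.over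
  let n := Ideal.ResidueField.mapₐ q z (Algebra.ofId S C) hzq.over
  let n' := Ideal.ResidueField.mapₐ z z₁ (Algebra.ofId C C₁) hz.over
  refine ⟨m.toRingHom.injective, ?_⟩
  have hsurj : Function.Surjective n := fun y => by
    obtain ⟨a, b, hb', rfl⟩ := IsFractionRing.div_surjective (C ⧸ z) y
    obtain ⟨a, rfl⟩ := Ideal.Quotient.mk_surjective a
    obtain ⟨b, rfl⟩ := Ideal.Quotient.mk_surjective b
    obtain ⟨a, rfl⟩ := hSC a
    obtain ⟨b, rfl⟩ := hSC b
    refine ⟨algebraMap S _ a / algebraMap S _ b, ?_⟩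
    rw [map_div₀, AlgHom.commutes, AlgHom.commutes, IsScalarTower.algebraMap_apply S C z.ResidueField,
      IsScalarTower.algebraMap_apply S C z.ResidueField]
    rfl
  have hcomm : m'.toRingHom.comp m.toRingHom = n'.toRingHom.comp n.toRingHom := by
    refine Ideal.ResidueField.ringHom_ext (RingHom.ext fun a => ?_)
    show m' (m (algebraMap S q.ResidueField a)) = n' (n (algebraMap S q.ResidueField a))
    rw [AlgHom.commutes, AlgHom.commutes, IsScalarTower.algebraMap_apply S S₁ q₁.ResidueField, AlgHom.commutes,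
      IsScalarTower.algebraMap_apply S C z.ResidueField, AlgHom.commutes,
      IsScalarTower.algebraMap_apply S₁ C₁ z₁.ResidueField, IsScalarTower.algebraMap_apply C C₁ z₁.ResidueField,
      ← IsScalarTower.algebraMap_apply S S₁ C₁, ← IsScalarTower.algebraMap_apply S C C₁]
  intro y
  obtain ⟨w, hw⟩ := hb.2 (m' y)
  obtain ⟨x, rfl⟩ := hsurj w
  exact ⟨x, m'.toRingHom.injective ((RingHom.congr_fun hcomm x).trans hw)⟩

end GrothLib.RG6.Dev
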