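import Mathlib

/-!
# Finite presentation of a localised module read on a presentation, and changes of rings
-/

set_option autoImplicit false
set_option linter.style.haveILetI false
set_option linter.unusedSectionVars false

universe u

open TensorProduct Function

namespace GrothLib.RG6.FPLoc

/-- Up to `T`-torsion the kernel of `π` is finitely generated. -/
def Crit {B : Type u} [CommRing B] (T : Submonoid B) {Q M : Type u} [AddCommGroup Q] [Module B Q]
    [AddCommGroup M] [Module B M] (π : Q →ₗ[B] M) : Prop :=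
  ∃ K₀ : Submodule B Q, K₀.FG ∧ K₀ ≤ LinearMap.ker π ∧ ∀ x ∈ LinearMap.ker π, ∃ t ∈ T, t • x ∈ K₀

section Basic

variable {B : Type u} [CommRing B] (T : Submonoid B) {Q M : Type u} [AddCommGroup Q] [Module B Q]
  [AddCommGroup M] [Module B M]

theorem crit_iff [Module.FinitePresentation B Q] (π : Q →ₗ[B] M) (hπ : Surjective π) :
    Crit T π ↔ Module.FinitePresentation (Localization T) (LocalizedModule T M) := by
  let f := LocalizedModule.mkLinearMap T Q
  let f' := LocalizedModule.mkLinearMap T M
  let πT : LocalizedModule T Q →ₗ[Localization T] LocalizedModule T M :=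
    (IsLocalizedModule.map T f f' π).extendScalarsOfIsLocalization T (Localization T)
  have hsurj : Surjective πT := IsLocalizedModule.map_surjective T f f' π hπ
  have hker : LinearMap.ker πT = (LinearMap.ker π).localized T :=
    (LinearMap.localized'_ker_eq_ker_localizedMap (Localization T) T f f' π).symm
  rw [← Module.FinitePresentation.fg_ker_iff πT hsurj, hker]
  constructor
  · rintro ⟨K₀, ⟨F, rfl⟩, hle, hK⟩
    suffices h : (LinearMap.ker π).localized T = (Submodule.span B (F : Set Q)).localized T by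
      classical
      rw [h, Submodule.localized, Submodule.localized'_span]
      exact ⟨F.image f, by rw [Finset.coe_image]⟩
    refine le_antisymm (fun y hy => ?_) ((Submodule.localized'gi (Localization T) T f).gc.monotone_l hle)
    obtain ⟨m, hm, s, rfl⟩ := hy
    obtain ⟨t, ht, hmem⟩ := hK m hm
    exact ⟨t • m, hmem, ⟨t, ht⟩ * s, IsLocalizedModule.mk'_cancel_left f m ⟨t, ht⟩ s⟩
  · rintro ⟨F, hF⟩
    have hsub : ∀ y ∈ F, ∃ m ∈ LinearMap.ker π, ∃ s : T, IsLocalizedModule.mk' f m s = y :=
      fun y hy => by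
        have h : y ∈ (LinearMap.ker π).localized T := hF ▸ Submodule.subset_span hy
        exact h
    choose! num hnum den hden using hsub
    classical
    refine ⟨Submodule.span B ((F.image num : Finset Q) : Set Q), ⟨_, rfl⟩, ?_, fun x hx => ?_⟩
    · rw [Submodule.span_le, Finset.coe_image]
      rintro _ ⟨y, hy, rfl⟩
      exact hnum y hy
    · have h1 : f x ∈ (LinearMap.ker π).localized T := ⟨x, hx, 1, IsLocalizedModule.mk'_one T f x⟩
      have h2 : (LinearMap.ker π).localized T ≤
          (Submodule.span B ((F.image num : Finset Q) : Set Q)).localized T := by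
        rw [← hF, Submodule.span_le]
        intro y hy
        exact ⟨num y, Submodule.subset_span (Finset.mem_image_of_mem num hy), den y, hden y hy⟩
      obtain ⟨m, hm, s, hs⟩ := h2 h1
      rw [← IsLocalizedModule.mk'_one T f x, IsLocalizedModule.mk'_eq_mk'_iff] at hs
      obtain ⟨c, hc⟩ := hs
      refine ⟨(c : B) * s, T.mul_mem c.2 s.2, ?_⟩
      rw [mul_smul]
      have : (c : B) • (s : B) • x = c • (1 : T) • m := hc
      rw [this, one_smul]
      exact Submodule.smul_mem _ _ hm

theorem fp_of_fp [Module.FinitePresentation B M] :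
    Module.FinitePresentation (Localization T) (LocalizedModule T M) := inferInstance

end Basic

section ChangeRing

variable {B C : Type u} [CommRing B] [CommRing C] [Algebra B C]

/-- Finite presentation of a localised module does not see a finite, finitely presented change of rings. -/
theorem change_ring [Module.FinitePresentation B C] (T : Submonoid B) (T' : Submonoid C) {M : Type u}
    [AddCommGroup M] [Module C M] [Module B M] [IsScalarTower B C M] [Module.Finite C M]
    : ((∀ t ∈ T, algebraMap B C t ∈ T') →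
      Module.FinitePresentation (Localization T) (LocalizedModule T M) →
      Module.FinitePresentation (Localization T') (LocalizedModule T' M)) ∧
    ((∀ c ∈ T', ∃ a : C, ∃ t ∈ T, a * c = algebraMap B C t) →
      Module.FinitePresentation (Localization T') (LocalizedModule T' M) →
      Module.FinitePresentation (Localization T) (LocalizedModule T M)) := by
  obtain ⟨k, π, hπ⟩ := Module.Finite.exists_fin' C M
  haveI : Module.FinitePresentation B (Fin k → C) := Module.FinitePresentation.trans B (Fin k → C) C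
  rw [← crit_iff T (π.restrictScalars B) hπ, ← crit_iff T' π hπ]
  refine ⟨fun h1 => ?_, fun h2 => ?_⟩
  · rintro ⟨K₀, ⟨F, rfl⟩, hle, hK⟩
    refine ⟨Submodule.span C (F : Set (Fin k → C)), ⟨F, rfl⟩, ?_, fun x hx => ?_⟩
    · rw [Submodule.span_le]
      exact fun y hy => hle (Submodule.subset_span hy)
    · obtain ⟨t, ht, hmem⟩ := hK x hx
      refine ⟨algebraMap B C t, h1 t ht, ?_⟩
      rw [algebraMap_smul]
      exact Submodule.span_le_restrictScalars B C (F : Set (Fin k → C)) hmem
  · rintro ⟨K₀, hfg, hle, hK⟩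
    refine ⟨K₀.restrictScalars B, hfg.restrictScalars, hle, fun x hx => ?_⟩
    obtain ⟨c, hc, hmem⟩ := hK x hx
    obtain ⟨a, t, ht, hat⟩ := h2 c hc
    refine ⟨t, ht, ?_⟩
    rw [Submodule.restrictScalars_mem, ← algebraMap_smul C t x, ← hat, mul_smul]
    exact K₀.smul_mem a hmem

end ChangeRing

section BaseChange

variable {S S' : Type u} [CommRing S] [CommRing S'] [Algebra S S']

theorem exists_fg_of_mem_baseChange {Q : Type u} [AddCommGroup Q] [Module S Q] (K : Submodule S Q)
    {y : S' ⊗[S] Q} (hy : y ∈ K.baseChange S') :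
    ∃ K₀ : Submodule S Q, K₀.FG ∧ K₀ ≤ K ∧ y ∈ K₀.baseChange S' := by
  obtain ⟨x, rfl⟩ := hy
  induction x using TensorProduct.induction_on with
  | zero => exact ⟨⊥, Submodule.fg_bot, bot_le, by simp⟩
  | tmul a m =>
    exact ⟨S ∙ (m : Q), Submodule.fg_span_singleton _, (Submodule.span_singleton_le_iff_mem _ _).2 m.2,
      Submodule.tmul_mem_baseChange_of_mem a (Submodule.mem_span_singleton_self _)⟩
  | add a b ha hb =>
    obtain ⟨K₁, h₁, l₁, m₁⟩ := ha
    obtain ⟨K₂, h₂, l₂, m₂⟩ := hb
    refine ⟨K₁ ⊔ K₂, h₁.sup h₂, sup_le l₁ l₂, ?_⟩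
    rw [map_add]
    exact add_mem (Submodule.baseChange_mono S' le_sup_left m₁) (Submodule.baseChange_mono S' le_sup_right m₂)

theorem exists_fg_le_baseChange {Q : Type u} [AddCommGroup Q] [Module S Q] (K : Submodule S Q)
    {L : Submodule S' (S' ⊗[S] Q)} (hL : L.FG) (hLK : L ≤ K.baseChange S') :
    ∃ K₀ : Submodule S Q, K₀.FG ∧ K₀ ≤ K ∧ L ≤ K₀.baseChange S' := by
  classical
  obtain ⟨F, rfl⟩ := hL
  induction F using Finset.induction with
  | empty => exact ⟨⊥, Submodule.fg_bot, bot_le, by simp⟩
  | insert a F _ ih =>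
    rw [Finset.coe_insert, Submodule.span_insert, sup_le_iff, Submodule.span_singleton_le_iff_mem] at hLK
    obtain ⟨K₁, h₁, l₁, m₁⟩ := exists_fg_of_mem_baseChange K hLK.1
    obtain ⟨K₂, h₂, l₂, m₂⟩ := ih hLK.2
    refine ⟨K₁ ⊔ K₂, h₁.sup h₂, sup_le l₁ l₂, ?_⟩
    rw [Finset.coe_insert, Submodule.span_insert, sup_le_iff, Submodule.span_singleton_le_iff_mem]
    exact ⟨Submodule.baseChange_mono S' le_sup_left m₁, m₂.trans (Submodule.baseChange_mono S' le_sup_right)⟩

/-- Colon ideals commute with flat base change. -/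
theorem mem_map_colon [Module.Flat S S'] {Q : Type u} [AddCommGroup Q] [Module S Q] (K₀ : Submodule S Q) (x : Q)
    {t : S'} (ht : t ⊗ₜ[S] x ∈ K₀.baseChange S') :
    t ∈ Ideal.map (algebraMap S S') (LinearMap.ker (LinearMap.toSpanSingleton S (Q ⧸ K₀) (K₀.mkQ x))) := by
  let φ := LinearMap.toSpanSingleton S (Q ⧸ K₀) (K₀.mkQ x)
  have hzero : φ.lTensor S' (t ⊗ₜ[S] (1 : S)) = 0 := by
    obtain ⟨w, hw⟩ := ht
    have : (K₀.mkQ.lTensor S').comp (K₀.subtype.lTensor S') = 0 := by
      rw [← LinearMap.lTensor_comp, LinearMap.range_le_ker_iff.1 (by rw [Submodule.range_subtype, Submodule.ker_mkQ]),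
        LinearMap.lTensor_zero]
    rw [LinearMap.lTensor_tmul, LinearMap.toSpanSingleton_apply, one_smul, ← LinearMap.lTensor_tmul, ← hw]
    exact LinearMap.congr_fun this w
  obtain ⟨w, hw⟩ := ((Module.Flat.lTensor_exact S' (f := (LinearMap.ker φ).subtype) (g := φ)
    (LinearMap.exact_subtype_ker_map φ)) _).1 hzero
  have : ∀ w : S' ⊗[S] LinearMap.ker φ,
      TensorProduct.rid S S' ((LinearMap.ker φ).subtype.lTensor S' w) ∈ Ideal.map (algebraMap S S') (LinearMap.ker φ) := by
    intro w
    induction w using TensorProduct.induction_on with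
    | zero => simp
    | tmul a b =>
      rw [LinearMap.lTensor_tmul, TensorProduct.rid_tmul, Algebra.smul_def, Submodule.subtype_apply]
      exact Ideal.mul_mem_right _ _ (Ideal.mem_map_of_mem _ b.2)
    | add a b ha hb => rw [map_add, map_add]; exact add_mem ha hb
  have h := this w
  rwa [hw, TensorProduct.rid_tmul, one_smul] at h

/-- Finite presentation of a localised module descends and ascends along a flat map. -/
theorem baseChange_iff [Module.Flat S S'] {N G : Type u} [AddCommGroup N] [Module S N] [Module.Finite S N]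
    [AddCommGroup G] [Module S' G] [Module S G] [IsScalarTower S S' G] (j : N →ₗ[S] G) (hj : IsBaseChange S' j)
    (T : Submonoid S) (T' : Submonoid S') :
    ((∀ t ∈ T, algebraMap S S' t ∈ T') →
      Module.FinitePresentation (Localization T) (LocalizedModule T N) →
      Module.FinitePresentation (Localization T') (LocalizedModule T' G)) ∧
    ((∀ J : Ideal S, (∃ t' ∈ T', t' ∈ J.map (algebraMap S S')) → ∃ t ∈ T, t ∈ J) →
      Module.FinitePresentation (Localization T') (LocalizedModule T' G) →
      Module.FinitePresentation (Localization T) (LocalizedModule T N)) := by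
  obtain ⟨k, π, hπ⟩ := Module.Finite.exists_fin' S N
  let π' : S' ⊗[S] (Fin k → S) →ₗ[S'] G := hj.equiv.toLinearMap ∘ₗ π.baseChange S'
  have hπ' : Surjective π' := hj.equiv.surjective.comp (LinearMap.lTensor_surjective S' hπ)
  have hker : LinearMap.ker π' = (LinearMap.ker π).baseChange S' := by
    have hex : Exact ((LinearMap.ker π).subtype.baseChange S') (π.baseChange S') :=
      lTensor_exact S' π.exact_subtype_ker_map hπ
    rw [LinearEquiv.ker_comp, LinearMap.exact_iff.1 hex]
    rfl
  rw [← crit_iff T π hπ, ← crit_iff T' π' hπ']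
  refine ⟨fun h1 => ?_, fun h2 => ?_⟩
  · rintro ⟨K₀, hfg, hle, hK⟩
    refine ⟨K₀.baseChange S', ?_, hker ▸ Submodule.baseChange_mono S' hle, fun y hy => ?_⟩
    · classical
      obtain ⟨F, rfl⟩ := hfg
      rw [Submodule.baseChange_span]
      exact ⟨F.image (TensorProduct.mk S S' _ 1), by rw [Finset.coe_image]⟩
    · rw [hker, Submodule.baseChange_eq_span] at hy
      induction hy using Submodule.span_induction with
      | mem z hz =>
        obtain ⟨x, hx, rfl⟩ := hz
        obtain ⟨t, ht, hmem⟩ := hK x hx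
        refine ⟨algebraMap S S' t, h1 t ht, ?_⟩
        rw [algebraMap_smul, ← map_smul]
        exact Submodule.tmul_mem_baseChange_of_mem 1 hmem
      | zero => exact ⟨1, T'.one_mem, by simp⟩
      | add a b _ _ ha hb =>
        obtain ⟨s, hs, hsm⟩ := ha
        obtain ⟨t, ht, htm⟩ := hb
        refine ⟨t * s, T'.mul_mem ht hs, ?_⟩
        rw [smul_add]
        refine add_mem ?_ ?_
        · rw [mul_smul]; exact Submodule.smul_mem _ _ hsm
        · rw [mul_comm, mul_smul]; exact Submodule.smul_mem _ _ htm
      | smul a z _ hz =>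
        obtain ⟨t, ht, htm⟩ := hz
        exact ⟨t, ht, by rw [smul_comm]; exact Submodule.smul_mem _ _ htm⟩
  · rintro ⟨L, hfg, hle, hK⟩
    obtain ⟨K₀, h₀, l₀, hL⟩ := exists_fg_le_baseChange (LinearMap.ker π) hfg (hker ▸ hle)
    refine ⟨K₀, h₀, l₀, fun x hx => ?_⟩
    obtain ⟨t', ht', hmem⟩ := hK ((1 : S') ⊗ₜ[S] x) (hker ▸ Submodule.tmul_mem_baseChange_of_mem 1 hx)
    rw [TensorProduct.smul_tmul', smul_eq_mul, mul_one] at hmem
    obtain ⟨t, ht, htJ⟩ := h2 _ ⟨t', ht', mem_map_colon K₀ x (hL hmem)⟩
    refine ⟨t, ht, ?_⟩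
    rw [LinearMap.mem_ker, LinearMap.toSpanSingleton_apply, ← map_smul, Submodule.mkQ_apply,
      Submodule.Quotient.mk_eq_zero] at htJ
    exact htJ

end BaseChange

end GrothLib.RG6.FPLoc
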