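import Mathlib
import Groth.Prelude.Def_FlatCA
import Groth.Agent.Lib.RG6.Dev.FPLoc

/-!
# Finite presentation along the maps of an elementary dévissage
-/

set_option autoImplicit false
set_option linter.style.haveILetI false
set_option linter.unusedSectionVars false

universe u

open TensorProduct Function AlgebraicGeometry

namespace GrothLib.RG6.Dev

variable {R S : Type u} [CommRing R] [CommRing S] [Algebra R S]
  {N : Type u} [AddCommGroup N] [Module S N] [Module R N] [IsScalarTower R S N] [Module.Finite S N]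
  {p : Ideal R} [p.IsPrime] {q : Ideal S} [q.IsPrime] {n : ℕ} (E : FlatCA.ElemDevissage R S N p q n)

theorem fp_DC [Algebra.FinitePresentation R S] : Algebra.FinitePresentation E.D E.C := by
  haveI : Algebra.Etale R E.R' := E.etaleR.1
  haveI : Algebra.Etale S E.S' := E.etaleS.1
  haveI : Algebra.FinitePresentation R E.S' := Algebra.FinitePresentation.trans R S E.S'
  haveI : Algebra.FinitePresentation E.R' E.S' :=
    Algebra.FinitePresentation.of_restrict_scalars_finitePresentation R E.R' E.S'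
  haveI := E.fpC
  haveI : Algebra.FinitePresentation E.R' E.C := Algebra.FinitePresentation.trans E.R' E.S' E.C
  haveI : Algebra.FiniteType E.R' E.D := by
    haveI : AlgebraicGeometry.SmoothOfRelativeDimension n (Spec.map (CommRingCat.ofHom (algebraMap E.R' E.D))) := E.smooth
    haveI : AlgebraicGeometry.Smooth (Spec.map (CommRingCat.ofHom (algebraMap E.R' E.D))) := SmoothOfRelativeDimension.smooth n _
    haveI : LocallyOfFiniteType (Spec.map (CommRingCat.ofHom (algebraMap E.R' E.D))) := inferInstance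
    exact RingHom.finiteType_algebraMap.1
      ((HasRingHomProperty.Spec_iff (P := @LocallyOfFiniteType)).1 this)
  exact Algebra.FinitePresentation.of_restrict_scalars_finitePresentation E.R' E.D E.C

theorem moduleFP_DC [Algebra.FinitePresentation R S] : Module.FinitePresentation E.D E.C := by
  haveI := fp_DC E
  haveI := E.finiteDC
  exact Module.FinitePresentation.of_finite_of_finitePresentation E.D E.C

theorem moduleFP_SC : Module.FinitePresentation E.S' E.C := by
  haveI := E.fpC
  haveI : Module.Finite E.S' E.C := Module.Finite.of_surjective (Algebra.linearMap E.S' E.C) E.surjC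
  exact Module.FinitePresentation.of_finite_of_finitePresentation E.S' E.C

theorem mem_z_iff (s : E.S') : algebraMap E.S' E.C s ∈ E.z ↔ s ∈ E.q' := (SetLike.ext_iff.1 E.zOver.over s).symm

theorem mem_q'_iff (s : S) : algebraMap S E.S' s ∈ E.q' ↔ s ∈ q := by
  obtain ⟨h, -⟩ := E.etaleS.2
  exact (SetLike.ext_iff.1 h.over s).symm

theorem mem_z_iff' (d : E.D) : algebraMap E.D E.C d ∈ E.z ↔ d ∈ E.y := (SetLike.ext_iff.1 E.zOverY.over d).symm

/-- An element of `C` outside `z` has a multiple coming from outside `y`. -/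
theorem exists_mul_mem {c : E.C} (hc : c ∉ E.z) : ∃ a : E.C, ∃ d : E.D, d ∉ E.y ∧ a * c = algebraMap E.D E.C d := by
  haveI := E.finiteDC
  have : ¬ (Ideal.span {c}).comap (algebraMap E.D E.C) ≤ E.y := fun h => by
    obtain ⟨Q₁, hle, hQ₁, hcm⟩ := Ideal.exists_ideal_over_prime_of_isIntegral E.y (Ideal.span {c}) h
    haveI := hQ₁
    exact hc (E.uniq Q₁ ⟨hcm.symm⟩ ▸ hle (Ideal.mem_span_singleton_self c))
  obtain ⟨d, hd, hdy⟩ := SetLike.not_le_iff_exists.1 this
  obtain ⟨a, ha⟩ := Ideal.mem_span_singleton'.1 (Ideal.mem_comap.1 hd)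
  exact ⟨a, d, hdy, ha⟩

theorem fp_tfae_point [Algebra.FinitePresentation R S] :
    [Module.FinitePresentation (Localization.AtPrime q) (LocalizedModule q.primeCompl N),
     Module.FinitePresentation (Localization.AtPrime E.z) (LocalizedModule E.z.primeCompl E.G),
     Module.FinitePresentation (Localization.AtPrime E.y) (LocalizedModule E.y.primeCompl E.G)].TFAE := by
  haveI := moduleFP_DC E
  haveI := moduleFP_SC E
  haveI := E.finiteG
  haveI : Algebra.Etale S E.S' := E.etaleS.1
  letI : Module S E.G := Module.compHom E.G (algebraMap S E.S')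
  haveI : IsScalarTower S E.S' E.G := IsScalarTower.of_algebraMap_smul fun r x => rfl
  have hj := E.isBaseChange.comp (IsBaseChange.ofEquiv E.iso)
  have hbc := FPLoc.baseChange_iff _ hj q.primeCompl E.q'.primeCompl
  have hSC := FPLoc.change_ring (B := E.S') (C := E.C) E.q'.primeCompl E.z.primeCompl (M := E.G)
  have hDC := FPLoc.change_ring (B := E.D) (C := E.C) E.y.primeCompl E.z.primeCompl (M := E.G)
  tfae_have 1 → 2 := fun h =>
    hSC.1 (fun t ht h' => ht ((mem_z_iff E t).1 h')) (hbc.1 (fun t ht h' => ht ((mem_q'_iff E t).1 h')) h)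
  tfae_have 2 → 1 := fun h => by
    refine hbc.2 (fun J hJ => ?_) (hSC.2 (fun c hc => ?_) h)
    · obtain ⟨t', ht', hmem⟩ := hJ
      by_contra hne
      refine ht' (Ideal.map_le_iff_le_comap.2 (fun x hx => (mem_q'_iff E x).2 ?_) hmem)
      by_contra hxq
      exact hne ⟨x, hxq, hx⟩
    · obtain ⟨s, rfl⟩ := E.surjC c
      exact ⟨1, s, fun h' => hc ((mem_z_iff E s).2 h'), one_mul _⟩
  tfae_have 2 → 3 := fun h => hDC.2 (fun c hc => by
    obtain ⟨a, d, hd, had⟩ := exists_mul_mem E hc
    exact ⟨a, d, hd, had⟩) h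
  tfae_have 3 → 2 := fun h => hDC.1 (fun t ht h' => ht ((mem_z_iff' E t).1 h')) h
  tfae_finish

theorem fp_tfae_open [Algebra.FinitePresentation R S] :
    [∃ g : S, g ∉ q ∧ Module.FinitePresentation (Localization.Away g) (LocalizedModule (Submonoid.powers g) N),
     ∃ g : E.C, g ∉ E.z ∧ Module.FinitePresentation (Localization.Away g) (LocalizedModule (Submonoid.powers g) E.G),
     ∃ g : E.D, g ∉ E.y ∧ Module.FinitePresentation (Localization.Away g) (LocalizedModule (Submonoid.powers g) E.G)].TFAE := by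
  haveI := moduleFP_DC E
  haveI := moduleFP_SC E
  haveI := E.finiteG
  haveI : Algebra.Etale S E.S' := E.etaleS.1
  letI : Module S E.G := Module.compHom E.G (algebraMap S E.S')
  haveI : IsScalarTower S E.S' E.G := IsScalarTower.of_algebraMap_smul fun r x => rfl
  have hj := E.isBaseChange.comp (IsBaseChange.ofEquiv E.iso)
  tfae_have 1 → 2 := by
    rintro ⟨g, hg, h⟩
    refine ⟨algebraMap E.S' E.C (algebraMap S E.S' g),
      fun hm => hg ((mem_q'_iff E g).1 ((mem_z_iff E _).1 hm)), ?_⟩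
    have h' := (FPLoc.baseChange_iff _ hj (Submonoid.powers g) (Submonoid.powers (algebraMap S E.S' g))).1
      (fun t ⟨k, hk⟩ => ⟨k, by rw [← hk, map_pow]⟩) h
    exact (FPLoc.change_ring (B := E.S') (C := E.C) (Submonoid.powers (algebraMap S E.S' g)) (Submonoid.powers (algebraMap E.S' E.C (algebraMap S E.S' g))) (M := E.G)).1
      (fun t ⟨k, hk⟩ => ⟨k, by rw [← hk, map_pow]⟩) h'
  tfae_have 2 → 3 := by
    rintro ⟨g, hg, h⟩
    obtain ⟨a, d, hd, had⟩ := exists_mul_mem E hg
    refine ⟨d, hd, (FPLoc.change_ring (B := E.D) (C := E.C) (Submonoid.powers d) (Submonoid.powers g) (M := E.G)).2 (fun c ⟨k, hk⟩ => ?_) h⟩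
    exact ⟨a ^ k, d ^ k, ⟨k, rfl⟩, by rw [← hk, map_pow, ← had, mul_pow]⟩
  tfae_have 3 → 2 := by
    rintro ⟨d, hd, h⟩
    refine ⟨algebraMap E.D E.C d, fun hm => hd ((mem_z_iff' E d).1 hm), ?_⟩
    exact (FPLoc.change_ring (B := E.D) (C := E.C) (Submonoid.powers d) (Submonoid.powers (algebraMap E.D E.C d)) (M := E.G)).1
      (fun t ⟨k, hk⟩ => ⟨k, by rw [← hk, map_pow]⟩) h
  tfae_have 2 → 1 := by
    rintro ⟨g, hg, h⟩
    obtain ⟨g', rfl⟩ := E.surjC g
    have h' := (FPLoc.change_ring (B := E.S') (C := E.C) (Submonoid.powers g') (Submonoid.powers (algebraMap E.S' E.C g')) (M := E.G)).2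
      (fun c ⟨k, hk⟩ => ⟨1, g' ^ k, ⟨k, rfl⟩, by rw [← hk, map_pow, one_mul]⟩) h
    have hU : IsOpen (PrimeSpectrum.comap (algebraMap S E.S') '' (PrimeSpectrum.basicOpen g' : Set _)) :=
      PrimeSpectrum.isOpenMap_comap_of_hasGoingDown_of_finitePresentation _ (PrimeSpectrum.basicOpen g').2
    have hq : (⟨q, inferInstance⟩ : PrimeSpectrum S) ∈
        PrimeSpectrum.comap (algebraMap S E.S') '' (PrimeSpectrum.basicOpen g' : Set _) :=
      ⟨⟨E.q', inferInstance⟩, fun hm => hg ((mem_z_iff E g').2 hm),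
        PrimeSpectrum.ext (Ideal.ext fun s => mem_q'_iff E s)⟩
    obtain ⟨_, ⟨s, rfl⟩, hs, hsU⟩ :=
      PrimeSpectrum.isTopologicalBasis_basic_opens.exists_subset_of_mem_open hq hU
    refine ⟨s, hs, (FPLoc.baseChange_iff _ hj (Submonoid.powers s) _).2 (fun J hJ => ?_) h'⟩
    obtain ⟨_, ⟨k, rfl⟩, hmem⟩ := hJ
    have hsJ : s ∈ J.radical := by
      rw [Ideal.radical_eq_sInf, Ideal.mem_sInf]
      rintro Q ⟨hJQ, hQ⟩
      by_contra hsQ
      obtain ⟨⟨Q', hQ'⟩, hg', he⟩ :=
        hsU (show (⟨Q, hQ⟩ : PrimeSpectrum S) ∈ PrimeSpectrum.basicOpen s from hsQ)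
      obtain rfl : Q'.comap (algebraMap S E.S') = Q := congrArg PrimeSpectrum.asIdeal he
      exact hg' (hQ'.mem_of_pow_mem k (Ideal.map_le_iff_le_comap.2 hJQ hmem))
    obtain ⟨m, hm⟩ := hsJ
    exact ⟨s ^ m, ⟨m, rfl⟩, hm⟩
  tfae_finish

end GrothLib.RG6.Dev
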