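import Groth.Agent.Lib.DevBC13.Fibre
import Groth.Agent.Lib.CotTangent.Components
import Groth.Agent.Lib.RG6.WeakAss
import Groth.Prelude.Def_FlatCA

/-!
# Fibre dimensions in a one-step dévissage
-/

set_option autoImplicit false
set_option linter.style.haveILetI false
set_option linter.unusedSectionVars false

universe u

open TensorProduct AlgebraicGeometry CategoryTheory

attribute [local instance] Algebra.TensorProduct.rightAlgebra

namespace GrothLib.RG6.Dev

variable {R D : Type u} [CommRing R] [CommRing D] [Algebra R D] (p : Ideal R) [p.IsPrime]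

theorem comap_map_eq [Nontrivial (p.Fiber D)] [(p.map (algebraMap R D)).IsPrime] :
    (p.map (algebraMap R D)).LiesOver p := by
  refine ⟨le_antisymm Ideal.le_comap_map fun r hr => by_contra fun hrp => ?_⟩
  have h1 : GrothLib.WeakAssFib.toFib p (algebraMap R D r) ∈
      (p.map (algebraMap R D)).map (GrothLib.WeakAssFib.toFib p) := Ideal.mem_map_of_mem _ hr
  have h2 : (p.map (algebraMap R D)).map (GrothLib.WeakAssFib.toFib p) = ⊥ := by
    rw [Ideal.map_map, Ideal.map_eq_bot_iff_le_ker]
    intro x hx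
    show GrothLib.WeakAssFib.toFib p (algebraMap R D x) = 0
    rw [GrothLib.WeakAssFib.toFib_algebraMap, IsScalarTower.algebraMap_apply R p.ResidueField (p.Fiber D),
      Ideal.algebraMap_residueField_eq_zero.2 hx, map_zero]
  rw [h2, Ideal.mem_bot, GrothLib.WeakAssFib.toFib_algebraMap] at h1
  exact not_isUnit_zero (h1 ▸ GrothLib.WeakAssFib.isUnit_toFib p hrp)

theorem fiberIdeal_map_eq_bot : FlatCA.fiberIdeal p (p.map (algebraMap R D)) = ⊥ := by
  rw [FlatCA.fiberIdeal, Ideal.map_map, Ideal.map_eq_bot_iff_le_ker]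
  intro x hx
  show GrothLib.WeakAssFib.toFib p (algebraMap R D x) = 0
  rw [GrothLib.WeakAssFib.toFib_algebraMap, IsScalarTower.algebraMap_apply R p.ResidueField (p.Fiber D),
    Ideal.algebraMap_residueField_eq_zero.2 hx, map_zero]

theorem isDomain_fiber [Nontrivial (p.Fiber D)] [(p.map (algebraMap R D)).IsPrime] : IsDomain (p.Fiber D) := by
  haveI := comap_map_eq (D := D) p
  have h := GrothLib.RG6.isPrime_fiberIdeal p (p.map (algebraMap R D))
  rw [fiberIdeal_map_eq_bot] at h
  exact IsDomain.of_bot_isPrime _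

theorem ringKrullDim_fiber_le (n : ℕ) [IsDomain (p.Fiber D)] [Algebra.FiniteType R D]
    (hsm : FlatCA.SmoothRelDim n R D) : ringKrullDim (p.Fiber D) ≤ n := by
  let q := Spec.map (CommRingCat.ofHom (algebraMap p.ResidueField (p.Fiber D)))
  haveI : Algebra.IsPushout R p.ResidueField D (p.Fiber D) := inferInstance
  haveI := smoothOfRelativeDimension_isStableUnderBaseChange (n := n)
  haveI : SmoothOfRelativeDimension n q := CategoryTheory.MorphismProperty.of_isPullback
    (P := @SmoothOfRelativeDimension n)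
    (isPullback_SpecMap_of_isPushout _ _ _ _ (CommRingCat.isPushout_of_isPushout R p.ResidueField D (p.Fiber D))).flip hsm
  haveI : LocallyOfFiniteType q := by
    refine (HasRingHomProperty.Spec_iff (P := @LocallyOfFiniteType)).2 ?_
    exact RingHom.finiteType_algebraMap.2 inferInstance
  haveI : IsIntegral (Spec (CommRingCat.of (p.Fiber D))) := inferInstance
  have h := GrothLib.CotTangent.topologicalKrullDim_integral_of_smoothOfRelativeDimension q n
  exact ((PrimeSpectrum.topologicalKrullDim_eq_ringKrullDim (R := p.Fiber D)).symm.trans h).le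

/-- A proper closed subset of the fibre has smaller dimension. -/
theorem ringKrullDim_fiber_quotient_lt (n : ℕ) [IsDomain (p.Fiber D)] [Algebra.FiniteType R D]
    (hsm : FlatCA.SmoothRelDim n R D) {J : Ideal D} (hJ : ¬ J ≤ p.map (algebraMap R D))
    [(p.map (algebraMap R D)).IsPrime] :
    ringKrullDim (p.ResidueField ⊗[R] (D ⧸ J)) < (n : WithBot ℕ∞) := by
  obtain ⟨d, hdJ, hdp⟩ := SetLike.not_le_iff_exists.1 hJ
  haveI : (p.map (algebraMap R D)).LiesOver p := comap_map_eq p
  let π : p.Fiber D →ₐ[p.ResidueField] p.ResidueField ⊗[R] (D ⧸ J) :=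
    Algebra.TensorProduct.map (AlgHom.id p.ResidueField p.ResidueField) (Ideal.Quotient.mkₐ R J)
  have hπ : Function.Surjective π := fun z => by
    induction z using TensorProduct.induction_on with
    | zero => exact ⟨0, map_zero _⟩
    | tmul x c =>
      obtain ⟨b, rfl⟩ := Ideal.Quotient.mk_surjective c
      exact ⟨x ⊗ₜ[R] b, Algebra.TensorProduct.map_tmul _ _ _ _⟩
    | add x y hx hy =>
      obtain ⟨a, rfl⟩ := hx
      obtain ⟨b, rfl⟩ := hy
      exact ⟨a + b, map_add _ _ _⟩
  let a : p.Fiber D := GrothLib.WeakAssFib.toFib p d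
  have ha : a ≠ 0 := fun h => hdp (by
    have := (SetLike.ext_iff.1 (GrothLib.WeakAssFib.comap_fiberIdeal p (p.map (algebraMap R D))) d).1
      (show GrothLib.WeakAssFib.toFib p d ∈ FlatCA.fiberIdeal p (p.map (algebraMap R D)) by
        rw [fiberIdeal_map_eq_bot, Ideal.mem_bot]; exact h)
    exact this)
  have hker : a ∈ RingHom.ker π.toRingHom := by
    show π ((1 : p.ResidueField) ⊗ₜ[R] d) = 0
    rw [Algebra.TensorProduct.map_tmul]
    show (1 : p.ResidueField) ⊗ₜ[R] (Ideal.Quotient.mk J d) = 0
    rw [Ideal.Quotient.eq_zero_iff_mem.2 hdJ, tmul_zero]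
  have hdim : ringKrullDim (p.ResidueField ⊗[R] (D ⧸ J)) = ringKrullDim (p.Fiber D ⧸ RingHom.ker π.toRingHom) :=
    ringKrullDim_eq_of_ringEquiv (RingHom.quotientKerEquivOfSurjective (f := π.toRingHom) hπ).symm
  have hle : Ideal.span {a} ≤ RingHom.ker π.toRingHom := (Ideal.span_singleton_le_iff_mem _).2 hker
  have h1 : ringKrullDim (p.Fiber D ⧸ RingHom.ker π.toRingHom) + 1 ≤ ringKrullDim (p.Fiber D) :=
    le_trans (add_le_add (ringKrullDim_le_of_surjective (Ideal.Quotient.factor hle) (Ideal.Quotient.factor_surjective hle)) le_rfl)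
      (ringKrullDim_quotient_succ_le_of_nonZeroDivisor (mem_nonZeroDivisors_of_ne_zero ha))
  have h2 := h1.trans (ringKrullDim_fiber_le p n hsm)
  rw [hdim]
  generalize ringKrullDim (p.Fiber D ⧸ RingHom.ker π.toRingHom) = x at h2 ⊢
  induction x with
  | bot => exact WithBot.bot_lt_coe _
  | coe x =>
    induction x with
    | top => exact absurd (WithBot.coe_le_coe.1 h2) (by simp)
    | coe m =>
      have h3 : m + 1 ≤ n := by exact_mod_cast h2
      exact_mod_cast Nat.lt_of_succ_le h3

end GrothLib.RG6.Dev
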