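import Mathlib
import Groth.Prelude.Def_FlatCA

/-!
# Geometrically irreducible fibres on open pieces
-/

set_option autoImplicit false
set_option linter.style.haveILetI false
set_option linter.unusedSectionVars false

universe u

open AlgebraicGeometry CategoryTheory CategoryTheory.Limits

namespace GrothLib.RG6.Dev

/-- An open subscheme surjecting to an open subscheme of the base keeps geometrically irreducible fibres. -/
theorem geometricallyIrreducible_of_open {X Y X₁ Y₁ : Scheme.{u}} (f : X ⟶ Y) (j : X₁ ⟶ X) (i : Y₁ ⟶ Y)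
    (f₁ : X₁ ⟶ Y₁) [IsOpenImmersion j] [IsOpenImmersion i] [GeometricallyIrreducible f] [Surjective f₁]
    (h : f₁ ≫ i = j ≫ f) : GeometricallyIrreducible f₁ := by
  refine ⟨fun K _ y W fst snd hW => ?_⟩
  let Z := pullback f (y ≫ i)
  haveI : IrreducibleSpace Z :=
    GeometricallyIrreducible.geometrically_irreducibleSpace (f := f) _ _ _ (IsPullback.of_hasPullback f (y ≫ i))
  -- the big square
  have h1 : IsPullback fst snd (f₁ ≫ i) (y ≫ i) := by
    have hs : IsPullback (𝟙 Y₁) (𝟙 Y₁) i i := IsKernelPair.id_of_mono i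
    have h2 : IsPullback (𝟙 _) y y (𝟙 Y₁) := IsPullback.of_horiz_isIso ⟨by simp⟩
    have h3 : IsPullback (y ≫ 𝟙 Y₁) (𝟙 _) i (y ≫ i) := by
      have := (h2.paste_vert hs).flip
      simpa using this
    have h4 : IsPullback (y ≫ 𝟙 Y₁) (𝟙 _) i (y ≫ i) := h3
    rw [Category.comp_id] at h4
    simpa using hW.paste_vert h4
  rw [h] at h1
  let ι : W ⟶ Z := pullback.lift (fst ≫ j) snd (by rw [Category.assoc]; exact h1.w)
  have h5 : IsPullback fst ι j (pullback.fst f (y ≫ i)) := by
    refine IsPullback.of_bot ?_ (pullback.lift_fst _ _ _).symm (IsPullback.of_hasPullback f (y ≫ i)).flip.flip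
    have e : ι ≫ pullback.snd f (y ≫ i) = snd := pullback.lift_snd _ _ _
    rw [e]
    exact h1
  haveI : IsOpenImmersion ι := MorphismProperty.of_isPullback h5 ‹IsOpenImmersion j›
  haveI : Surjective snd := MorphismProperty.of_isPullback hW ‹Surjective f₁›
  haveI : Nonempty W := ⟨(snd.surjective (Classical.arbitrary _)).choose⟩
  haveI : PreirreducibleSpace W := ⟨fun U V hU hV hUne hVne => by
    obtain ⟨a, -, ha⟩ := hUne
    obtain ⟨b, -, hb⟩ := hVne
    obtain ⟨c, -, ⟨u', hu, hu'⟩, v', hv, hv'⟩ := (PreirreducibleSpace.isPreirreducible_univ (X := Z))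
      (ι '' U) (ι '' V) (ι.isOpenEmbedding.isOpenMap _ hU) (ι.isOpenEmbedding.isOpenMap _ hV)
      ⟨ι a, trivial, a, ha, rfl⟩ ⟨ι b, trivial, b, hb, rfl⟩
    exact ⟨u', trivial, hu, (ι.isOpenEmbedding.injective (hv'.trans hu'.symm)) ▸ hv⟩⟩
  exact IrreducibleSpace.mk inferInstance

/-- Geometrically irreducible fibres on a principal open over a principal open of the base. -/
theorem geomIrred_of_localization {R R₀ D D₁ : Type u} [CommRing R] [CommRing R₀] [CommRing D] [CommRing D₁]
    [Algebra R R₀] [Algebra R D] [Algebra R D₁] [Algebra R₀ D₁] [Algebra D D₁] [IsScalarTower R R₀ D₁]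
    [IsScalarTower R D D₁] (g : R) [IsLocalization.Away g R₀] (d : D) [IsLocalization.Away d D₁]
    (h : FlatCA.GeomIrredFibres R D) (hsurj : Function.Surjective (PrimeSpectrum.comap (algebraMap R₀ D₁))) :
    FlatCA.GeomIrredFibres R₀ D₁ := by
  haveI := h
  haveI : IsOpenImmersion (Spec.map (CommRingCat.ofHom (algebraMap R R₀))) := IsOpenImmersion.of_isLocalization g
  haveI : IsOpenImmersion (Spec.map (CommRingCat.ofHom (algebraMap D D₁))) := IsOpenImmersion.of_isLocalization d
  haveI : Surjective (Spec.map (CommRingCat.ofHom (algebraMap R₀ D₁))) := ⟨hsurj⟩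
  refine geometricallyIrreducible_of_open (Spec.map (CommRingCat.ofHom (algebraMap R D)))
    (Spec.map (CommRingCat.ofHom (algebraMap D D₁))) (Spec.map (CommRingCat.ofHom (algebraMap R R₀))) _ ?_
  rw [← Spec.map_comp, ← Spec.map_comp, ← CommRingCat.ofHom_comp, ← CommRingCat.ofHom_comp,
    ← IsScalarTower.algebraMap_eq, ← IsScalarTower.algebraMap_eq]

end GrothLib.RG6.Dev
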