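import Mathlib
import Groth.Prelude.Def_FlatCA
import Groth.Agent.Lib.RG6.Dev.Elem
import Groth.Agent.Lib.SmoothRank4.FibreDim
import Groth.Agent.Lib.EtaPt.SN

/-!
# Local structure of a morphism locally of finite type
-/

set_option autoImplicit false
set_option linter.style.haveILetI false
set_option linter.unusedSectionVars false

universe u

open TensorProduct AlgebraicGeometry CategoryTheory

attribute [local instance] Algebra.TensorProduct.rightAlgebra

namespace GrothLib.RG6.Dev

/-- The structure theorem on an affine chart. -/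
theorem exists_chart_structure {R S : Type u} [CommRing R] [CommRing S] [Algebra R S] [Algebra.FiniteType R S]
    (p : Ideal R) [p.IsPrime] (q : Ideal S) [q.IsPrime] [q.LiesOver p] (n : ℕ) (Q : PrimeSpectrum (p.Fiber S))
    (hQ : Q.asIdeal.comap (Algebra.TensorProduct.includeRight (R := R) (A := p.ResidueField) (B := S)).toRingHom = q)
    (hn : FlatMor.localDim (PrimeSpectrum (p.Fiber S)) Q = n) :
    ∃ (S' D : Type u) (_ : CommRing S') (_ : CommRing D) (_ : Algebra S S') (_ : Algebra R D)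
      (ρ : D →+* S') (q' : Ideal S') (_ : q'.IsPrime) (hq' : q'.LiesOver q),
      Algebra.Etale S S' ∧ Function.Bijective (Ideal.ResidueField.mapₐ q q' (Algebra.ofId S S') hq'.over) ∧
      ρ.comp (algebraMap R D) = (algebraMap S S').comp (algebraMap R S) ∧ ρ.Finite ∧ FlatCA.SmoothRelDim n R D ∧
      ∀ z : Ideal S', z.IsPrime → z.comap ρ = q'.comap ρ → z = q' := by
  have hxq : Q.asIdeal = FlatCA.fiberIdeal p q := by
    refine le_antisymm (fun z hz => ?_) (Ideal.map_le_iff_le_comap.2 hQ.ge)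
    obtain ⟨w, hw, s, hs⟩ := Ideal.Fiber.exists_smul_eq_one_tmul p z
    have hu : IsUnit (algebraMap R (p.Fiber S) w) := by
      rw [IsScalarTower.algebraMap_apply R p.ResidueField (p.Fiber S)]
      exact (isUnit_iff_ne_zero.2 (Ideal.algebraMap_residueField_eq_zero.not.2 hw)).map _
    refine (Ideal.unit_mul_mem_iff_mem _ hu).1 ?_
    rw [← Algebra.smul_def, hs]
    refine Ideal.mem_map_of_mem _ ?_
    rw [← hQ]
    show (1 : p.ResidueField) ⊗ₜ[R] s ∈ Q.asIdeal
    rw [← hs, Algebra.smul_def]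
    exact Ideal.mul_mem_left _ _ hz
  have hsupp : Module.support (p.Fiber S) (FlatCA.fiberMod p S S) = Set.univ := by
    show Module.support (p.Fiber S) ((p.Fiber S) ⊗[S] S) = _
    rw [GrothLib.DevBC13.support_tensor, Module.support_eq_zeroLocus, Module.annihilator_eq_bot.2 inferInstance,
      Submodule.bot_coe, PrimeSpectrum.zeroLocus_singleton_zero, Set.preimage_univ]
  have hx : Q ∈ Module.support (p.Fiber S) (FlatCA.fiberMod p S S) := by rw [hsupp]; trivial
  have hn' : FlatMor.localDim (Module.support (p.Fiber S) (FlatCA.fiberMod p S S)) ⟨Q, hx⟩ = n := by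
    let h : PrimeSpectrum (p.Fiber S) ≃ₜ Module.support (p.Fiber S) (FlatCA.fiberMod p S S) :=
      (Homeomorph.Set.univ _).symm.trans (Homeomorph.setCongr hsupp.symm)
    rw [← hn, ← localDim_homeo h Q]
    rfl
  obtain ⟨E⟩ := nonempty_elemDevissage (R := R) (S := S) S p q n Q hxq hx hn'
  letI : Algebra R E.D := ((algebraMap E.R' E.D).comp (algebraMap R E.R')).toAlgebra
  haveI : IsScalarTower R E.R' E.D := IsScalarTower.of_algebraMap_eq fun _ => rfl
  -- the quotient is everything
  have hinj : Function.Injective (algebraMap E.S' E.C) := by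
    rw [injective_iff_map_eq_zero]
    intro s hs
    let l : E.S' ≃ₗ[E.S'] E.G := ((TensorProduct.AlgebraTensorModule.rid S E.S' E.S').symm.trans E.isBaseChange.equiv).trans E.iso
    apply l.injective
    rw [map_zero, show s = s • (1 : E.S') from (mul_one s).symm, map_smul, ← algebraMap_smul E.C s (l 1), hs, zero_smul]
  let ec := RingEquiv.ofBijective (algebraMap E.S' E.C) ⟨hinj, E.surjC⟩
  let ρ : E.D →+* E.S' := ec.symm.toRingHom.comp (algebraMap E.D E.C)
  have hρ : (algebraMap E.S' E.C).comp ρ = algebraMap E.D E.C := RingHom.ext fun d => ec.apply_symm_apply _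
  have hρq : E.q'.comap ρ = E.y := by
    rw [E.zOverY.over, E.zOver.over]
    show (E.z.comap (algebraMap E.S' E.C)).comap ρ = E.z.comap (algebraMap E.D E.C)
    rw [Ideal.comap_comap, hρ]
  obtain ⟨hetS, hq', hbij⟩ := E.etaleS
  refine ⟨E.S', E.D, inferInstance, inferInstance, inferInstance, inferInstance, ρ, E.q', inferInstance, hq', hetS, hbij,
    ?_, ?_, ?_, ?_⟩
  · refine RingHom.ext fun r => ec.injective ?_
    show ec (ec.symm (algebraMap E.D E.C (algebraMap R E.D r))) = algebraMap E.S' E.C (algebraMap S E.S' (algebraMap R S r))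
    rw [ec.apply_symm_apply, ← IsScalarTower.algebraMap_apply R S E.S', IsScalarTower.algebraMap_apply R E.R' E.D,
      IsScalarTower.algebraMap_apply R E.R' E.S', ← IsScalarTower.algebraMap_apply E.R' E.D E.C,
      ← IsScalarTower.algebraMap_apply E.R' E.S' E.C]
  · haveI := E.finiteDC
    exact RingHom.Finite.comp (RingHom.Finite.of_surjective _ ec.symm.surjective) (RingHom.finite_algebraMap.2 inferInstance)
  · haveI : Algebra.Etale R E.R' := E.etaleR.1
    haveI : AlgebraicGeometry.Etale (Spec.map (CommRingCat.ofHom (algebraMap R E.R'))) := by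
      rw [HasRingHomProperty.Spec_iff (P := @AlgebraicGeometry.Etale)]
      exact RingHom.etale_algebraMap.mpr inferInstance
    haveI := E.smooth
    have h0 := smoothOfRelativeDimension_comp n 0 (Spec.map (CommRingCat.ofHom (algebraMap E.R' E.D)))
      (Spec.map (CommRingCat.ofHom (algebraMap R E.R')))
    rw [add_zero, ← Spec.map_comp, ← CommRingCat.ofHom_comp, ← IsScalarTower.algebraMap_eq] at h0
    exact h0
  · intro z hz hzy
    rw [hρq] at hzy
    let z₁ : Ideal E.C := z.comap ec.symm.toRingHom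
    haveI : z₁.IsPrime := Ideal.IsPrime.comap _
    have hz₁ : z₁ = E.z := E.uniq z₁ ⟨hzy.symm.trans (Ideal.comap_comap (algebraMap E.D E.C) ec.symm.toRingHom).symm⟩
    rw [E.zOver.over, ← hz₁]
    ext s
    show s ∈ z ↔ ec.symm (algebraMap E.S' E.C s) ∈ z
    rw [show algebraMap E.S' E.C s = ec s from rfl, ec.symm_apply_apply]

/-- The global form. -/
theorem local_structure {X S : Scheme.{u}} (f : X ⟶ S) [LocallyOfFiniteType f] (x : X) (n : ℕ)
    (hn : FlatMor.fibreDimAt f x = n) :
    ∃ (X' Y : Scheme.{u}) (g : X' ⟶ X) (π : X' ⟶ Y) (h : Y ⟶ S) (x' : X'), g ≫ f = π ≫ h ∧ Etale g ∧ g x' = x ∧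
      Function.Surjective (g.residueFieldMap x') ∧ IsFinite π ∧ SmoothOfRelativeDimension n h ∧
      ∀ z : ↑X', π z = π x' → z = x' := by
  obtain ⟨_, ⟨V, hV, rfl⟩, hxV, -⟩ := S.isBasis_affineOpens.exists_subset_of_mem_open (Set.mem_univ (f x)) isOpen_univ
  obtain ⟨_, ⟨U, hU, rfl⟩, hxU, hUV⟩ := X.isBasis_affineOpens.exists_subset_of_mem_open (show x ∈ f ⁻¹ᵁ V from hxV) (f ⁻¹ᵁ V).2
  letI : Algebra Γ(S, V) Γ(X, U) := (f.appLE V U hUV).hom.toAlgebra
  haveI : Algebra.FiniteType Γ(S, V) Γ(X, U) :=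
    HasRingHomProperty.appLE (P := @LocallyOfFiniteType) f inferInstance ⟨V, hV⟩ ⟨U, hU⟩ hUV
  let q : PrimeSpectrum Γ(X, U) := hU.primeIdealOf ⟨x, hxU⟩
  obtain ⟨Q, hQ⟩ := GrothLib.SmoothRank4.exists_fibre_point (R := Γ(S, V)) q
  have hjf : hU.fromSpec ≫ f = Spec.map (CommRingCat.ofHom (algebraMap Γ(S, V) Γ(X, U))) ≫ hV.fromSpec :=
    (IsAffineOpen.SpecMap_appLE_fromSpec f hV hU hUV).symm
  have hjq : hU.fromSpec q = x := hU.fromSpec_primeIdealOf _
  have hdim := GrothLib.SmoothRank4.fibreDimAt_chart f hU.fromSpec hV.fromSpec hjf q Q hQ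
  rw [hjq, hn] at hdim
  haveI : q.asIdeal.LiesOver (q.asIdeal.under Γ(S, V)) := ⟨rfl⟩
  obtain ⟨S', D, _, _, _, _, ρ, q', _, hq', het, hbij, hcomm, hfin, hsm, huniq⟩ :=
    exists_chart_structure (q.asIdeal.under Γ(S, V)) q.asIdeal n Q hQ hdim.symm
  haveI : AlgebraicGeometry.Etale (Spec.map (CommRingCat.ofHom (algebraMap Γ(X, U) S'))) := by
    rw [HasRingHomProperty.Spec_iff (P := @AlgebraicGeometry.Etale)]
    exact RingHom.etale_algebraMap.mpr het
  let π : Spec (CommRingCat.of S') ⟶ Spec (CommRingCat.of D) := Spec.map (CommRingCat.ofHom ρ)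
  let h₀ : Spec (CommRingCat.of D) ⟶ Spec Γ(S, V) := Spec.map (CommRingCat.ofHom (algebraMap Γ(S, V) D))
  let g₀ : Spec (CommRingCat.of S') ⟶ Spec Γ(X, U) := Spec.map (CommRingCat.ofHom (algebraMap Γ(X, U) S'))
  let x' : PrimeSpectrum S' := ⟨q', ‹_›⟩
  have hq'q : PrimeSpectrum.comap (algebraMap Γ(X, U) S') x' = q := PrimeSpectrum.ext hq'.over.symm
  refine ⟨Spec (CommRingCat.of S'), Spec (CommRingCat.of D), g₀ ≫ hU.fromSpec, π, h₀ ≫ hV.fromSpec, x', ?_, inferInstance,
    ?_, ?_, ?_, ?_, ?_⟩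
  · rw [Category.assoc, hjf, ← Category.assoc, ← Category.assoc]
    congr 1
    show Spec.map _ ≫ Spec.map _ = Spec.map _ ≫ Spec.map _
    rw [← Spec.map_comp, ← Spec.map_comp, ← CommRingCat.ofHom_comp, ← CommRingCat.ofHom_comp, hcomm]
  · show hU.fromSpec (PrimeSpectrum.comap (algebraMap Γ(X, U) S') x') = x
    rw [hq'q, hjq]
  · rw [Scheme.residueFieldMap_comp]
    show Function.Surjective ((g₀.residueFieldMap x').hom ∘ (hU.fromSpec.residueFieldMap (g₀ x')).hom)
    refine Function.Surjective.comp ?_ (ConcreteCategory.bijective_of_isIso (hU.fromSpec.residueFieldMap (g₀ x'))).2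
    have h := congrArg (fun m => (m.hom : _ → _)) (GrothLib.EtaPt.residueFieldMap_spec (algebraMap Γ(X, U) S') x')
    simp only [CommRingCat.hom_comp, RingHom.coe_comp, CommRingCat.hom_ofHom] at h
    have hi := ConcreteCategory.bijective_of_isIso
      (Scheme.Spec.residueFieldIso (.of Γ(X, U)) (PrimeSpectrum.comap (algebraMap Γ(X, U) S') x')).inv
    have hj := ConcreteCategory.bijective_of_isIso (Scheme.Spec.residueFieldIso (.of S') x').inv
    refine (Function.Surjective.of_comp_iff _ hi.2).1 ?_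
    refine (iff_of_eq (congrArg Function.Surjective h)).2 (hj.2.comp ?_)
    exact surjective_residue_map q.asIdeal q' (algebraMap Γ(X, U) S') hq'.over hbij.2 _ rfl
  · exact (IsFinite.SpecMap_iff _).2 hfin
  · haveI := hsm
    have h0 := smoothOfRelativeDimension_comp n 0 h₀ hV.fromSpec
    rwa [add_zero] at h0
  · intro z hz
    exact PrimeSpectrum.ext (huniq z.asIdeal z.2 (congrArg PrimeSpectrum.asIdeal hz))

where
  surjective_residue_map {A B : Type u} [CommRing A] [CommRing B] (P : Ideal A) [P.IsPrime] (P' : Ideal B) [P'.IsPrime]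
      (φ : A →+* B) (h : P = P'.comap φ) (hs : Function.Surjective (Ideal.ResidueField.map P P' φ h))
      (P₂ : Ideal A) [P₂.IsPrime] (h₂ : P₂ = P'.comap φ) : Function.Surjective (Ideal.ResidueField.map P₂ P' φ h₂) := by
    subst h₂
    subst h
    exact hs

end GrothLib.RG6.Dev
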