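import Mathlib
import Groth.Agent.Lib.RG6.Dev.Devissable
import Groth.Agent.Lib.RG6.Geom.Nhd

/-!
# Open pieces are principal opens
-/

set_option autoImplicit false
set_option linter.style.haveILetI false
set_option linter.unusedSectionVars false

universe u

open TensorProduct

attribute [local instance] Algebra.TensorProduct.rightAlgebra

namespace GrothLib.RG6.Dev

open GrothLib.RG6.Geom (pieceHom IsOpenPiece)

/-- An étale open piece of a base change is a principal open. -/
theorem exists_isAwayPiece {R R' D D' : Type u} [CommRing R] [CommRing R'] [CommRing D] [CommRing D'] [Algebra R R']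
    [Algebra R D] [Algebra R' D'] [Algebra D D'] [Algebra R D'] [IsScalarTower R R' D'] [IsScalarTower R D D']
    [Algebra.Etale R R'] [Algebra.Etale D D'] (h : IsOpenPiece R R' D D') :
    ∃ e : R' ⊗[R] D, IsAwayPiece R R' D D' e := by
  obtain ⟨e, he, hext, hepi⟩ := h
  refine ⟨e, ?_⟩
  let E := R' ⊗[R] D
  let A := Localization.Away e
  letI : Algebra E D' := (pieceHom R R' D D').toRingHom.toAlgebra
  haveI : IsScalarTower D E D' := IsScalarTower.of_algebraMap_eq fun d => by
    show algebraMap D D' d = pieceHom R R' D D' ((1 : R') ⊗ₜ d)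
    exact ((Algebra.TensorProduct.lift_tmul _ _ _ _ _).trans (by rw [map_one, one_mul]; rfl)).symm
  haveI : Algebra.Etale D E := Algebra.Etale.of_equiv
    (show D ⊗[R] R' ≃ₐ[D] E from AlgEquiv.ofRingEquiv (f := (Algebra.TensorProduct.comm R D R').toRingEquiv) fun _ => rfl)
  haveI : Algebra.Etale E D' := Algebra.Etale.of_restrictScalars D E D'
  let j : A →+* D' := IsLocalization.Away.lift (S := A) e he
  letI : Algebra A D' := j.toAlgebra
  haveI : IsScalarTower E A D' := IsScalarTower.of_algebraMap_eq fun x =>
    (IsLocalization.Away.lift_eq (S := A) e he x).symm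
  haveI : Algebra.Etale E A := Algebra.Etale.of_isLocalizationAway e
  haveI : Algebra.Etale A D' := Algebra.Etale.of_restrictScalars E A D'
  haveI : Module.FaithfullyFlat A D' := by
    refine Module.FaithfullyFlat.of_comap_surjective fun a => ?_
    let Ω := a.asIdeal.ResidueField
    let χ : E →+* Ω := (algebraMap A Ω).comp (algebraMap E A)
    obtain ⟨χ', hχ'⟩ := hext Ω χ ((IsLocalization.Away.algebraMap_isUnit (S := A) e).map (algebraMap A Ω)).ne_zero
    refine ⟨⟨RingHom.ker χ', RingHom.ker_isPrime χ'⟩, PrimeSpectrum.ext ?_⟩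
    have h1 : χ'.comp (algebraMap A D') = algebraMap A Ω := by
      refine IsLocalization.ringHom_ext (Submonoid.powers e) ?_
      rw [RingHom.comp_assoc, ← IsScalarTower.algebraMap_eq E A D']
      exact hχ'
    show (RingHom.ker χ').comap (algebraMap A D') = a.asIdeal
    rw [RingHom.comap_ker, h1]
    exact Ideal.ker_algebraMap_residueField a.asIdeal
  have hbij : Function.Bijective (algebraMap A D') := by
    refine ⟨FaithfulSMul.algebraMap_injective A D', ?_⟩
    refine (Module.FaithfullyFlat.lTensor_surjective_iff_surjective A D' (Algebra.linearMap A D')).1 fun z => ?_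
    induction z using TensorProduct.induction_on with
    | zero => exact ⟨0, map_zero _⟩
    | tmul x y =>
      refine ⟨(x * y) ⊗ₜ 1, ?_⟩
      have hy : (Algebra.TensorProduct.includeRight : D' →ₐ[A] D' ⊗[A] D').toRingHom =
          (Algebra.TensorProduct.includeLeftRingHom : D' →+* D' ⊗[A] D') := by
        refine hepi _ _ _ (RingHom.ext fun w => ?_)
        show (Algebra.TensorProduct.includeRight : D' →ₐ[A] D' ⊗[A] D') (algebraMap E D' w) =
          algebraMap E D' w ⊗ₜ[A] (1 : D')
        rw [IsScalarTower.algebraMap_apply E A D', AlgHom.commutes]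
        rfl
      rw [LinearMap.lTensor_tmul, Algebra.linearMap_apply, map_one,
        show (x * y) ⊗ₜ[A] (1 : D') = (x ⊗ₜ[A] (1 : D')) * (y ⊗ₜ[A] (1 : D')) by
          rw [Algebra.TensorProduct.tmul_mul_tmul, one_mul],
        show y ⊗ₜ[A] (1 : D') = (1 : D') ⊗ₜ[A] y from (RingHom.congr_fun hy y).symm, Algebra.TensorProduct.tmul_mul_tmul,
        mul_one, one_mul]
    | add u v hu hv =>
      obtain ⟨a, ha⟩ := hu
      obtain ⟨b, hb⟩ := hv
      exact ⟨a + b, by rw [map_add, ha, hb]⟩
  exact IsLocalization.isLocalization_of_algEquiv (Submonoid.powers e)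
    (AlgEquiv.ofBijective (IsScalarTower.toAlgHom E A D') hbij)

end GrothLib.RG6.Dev
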