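import Mathlib
import Groth.Prelude.Def_FlatCA
import Groth.Prelude.Def_Flat
import Groth.Agent.Lib.RG6.Dev.EtaleLift
import Groth.Agent.Lib.RG6.Dev.PieceLoc
import Groth.Agent.Lib.RG6.Dev.Models
import Groth.Agent.Lib.DevBC13.Fibre

/-!
# Étale localisation of a one-step dévissage
-/

set_option autoImplicit false
set_option linter.style.haveILetI false
set_option linter.unusedSectionVars false
set_option maxHeartbeats 1000000

universe u

open TensorProduct AlgebraicGeometry CategoryTheory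

attribute [local instance] Algebra.TensorProduct.rightAlgebra

namespace GrothLib.RG6.Dev

open GrothLib.RG6.Geom (pieceHom exists_pushout_lift IsOpenPiece)

/-- Subsets of the support have dimension at most that of the annihilator's quotient. -/
theorem topologicalKrullDim_support_le (F : Type u) [CommRing F] (M : Type u) [AddCommGroup M] [Module F M]
    [Module.Finite F M] (U : Set (Module.support F M)) :
    topologicalKrullDim U ≤ topologicalKrullDim (PrimeSpectrum (F ⧸ Module.annihilator F M)) := by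
  let π := Ideal.Quotient.mk (Module.annihilator F M)
  have hemb : Topology.IsEmbedding (PrimeSpectrum.comap π) :=
    (PrimeSpectrum.isClosedEmbedding_comap_of_surjective _ π Ideal.Quotient.mk_surjective).isEmbedding
  have hrange : ∀ z : Module.support F M, z.1 ∈ Set.range (PrimeSpectrum.comap π) := fun z => by
    rw [range_comap_of_surjective (f := π) (hf := Ideal.Quotient.mk_surjective), Ideal.mk_ker,
      ← Module.support_eq_zeroLocus]
    exact z.2
  exact (hemb.toHomeomorph.symm.isInducing.comp (Topology.IsInducing.codRestrict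
    (Topology.IsInducing.subtypeVal.comp Topology.IsInducing.subtypeVal) fun z : U => hrange z.1)).topologicalKrullDim_le

/-- The fibres of a smooth algebra of relative dimension `n` have dimension at most `n`. -/
theorem ringKrullDim_fiber_le {R D : Type u} [CommRing R] [CommRing D] [Algebra R D] (p : Ideal R) [p.IsPrime] {n : ℕ}
    (hsm : FlatCA.SmoothRelDim n R D) : ringKrullDim (p.Fiber D) ≤ n := by
  haveI := GrothLib.RG6.Geom.smooth_of_smoothRelDim hsm
  rw [ringKrullDim_le_iff_isMaximal_height_le]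
  intro m hm
  have h := GrothLib.LocalDimAlg.localDim_eq p.ResidueField (S := p.Fiber D) m
  rw [localDim_fiber (p := p) hsm] at h
  rw [h]
  haveI : Nontrivial (p.Fiber D ⧸ m) := Ideal.Quotient.nontrivial_iff.2 hm.ne_top
  exact le_add_of_nonneg_right ringKrullDim_nonneg_of_nontrivial

/-- The support of the fibre module has dimension at least the local dimensions, at most the dimension of the base. -/
theorem supportDim_fibre_eq {R S D : Type u} [CommRing R] [CommRing S] [CommRing D] [Algebra R S] [Algebra R D]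
    (N : Type u) [AddCommGroup N] [Module S N] [Module R N] [IsScalarTower R S N] [Module.Finite S N]
    (p : Ideal R) [p.IsPrime] (n : ℕ) (hsm : FlatCA.SmoothRelDim n R D)
    (φ : D →ₐ[R] S ⧸ Module.annihilator S N) (hφ : φ.toRingHom.Finite)
    (x : Module.support (p.Fiber S) (FlatCA.fiberMod p S N))
    (hn : FlatMor.localDim (Module.support (p.Fiber S) (FlatCA.fiberMod p S N)) x = n) :
    Module.supportDim (p.Fiber S) (FlatCA.fiberMod p S N) = n := by
  haveI := GrothLib.RG6.Geom.smooth_of_smoothRelDim hsm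
  refine le_antisymm ?_ ?_
  · rw [GrothLib.DevBC13.supportDim_fiberMod_eq]
    let ψ : p.Fiber D →ₐ[R] p.ResidueField ⊗[R] (S ⧸ Module.annihilator S N) :=
      Algebra.TensorProduct.map (AlgHom.id R p.ResidueField) φ
    have hψ : ψ.toRingHom.Finite :=
      RingHom.Finite.tensorProductMap (f := AlgHom.id R p.ResidueField) (g := φ) (RingHom.Finite.id _) hφ
    letI := ψ.toRingHom.toAlgebra
    haveI : Module.Finite (p.Fiber D) (p.ResidueField ⊗[R] (S ⧸ Module.annihilator S N)) := hψ
    exact (GrothLib.Dim.ringKrullDim_le_of_isIntegral (R := p.Fiber D)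
      (S := p.ResidueField ⊗[R] (S ⧸ Module.annihilator S N))).trans (ringKrullDim_fiber_le p hsm)
  · haveI : Module.Finite (p.Fiber S) (FlatCA.fiberMod p S N) :=
      inferInstanceAs (Module.Finite (p.Fiber S) ((p.Fiber S) ⊗[S] N))
    rw [← hn, Module.supportDim_eq_ringKrullDim_quotient_annihilator, ← PrimeSpectrum.topologicalKrullDim_eq_ringKrullDim]
    exact (iInf_le _ ⟨⊤, trivial⟩).trans (topologicalKrullDim_support_le _ _ _)

/-- The one-step dévissage over the new rings. -/
theorem oneStep_finish {R S : Type u} [CommRing R] [CommRing S] [Algebra R S]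
    (N : Type u) [AddCommGroup N] [Module S N] [Module R N] [IsScalarTower R S N] [Module.Finite S N]
    (p : Ideal R) [p.IsPrime] (q : Ideal S) [q.IsPrime] [q.LiesOver p]
    {C G : Type u} [CommRing C] [Algebra S C] [AddCommGroup G] [Module C G] [Module S G]
    [IsScalarTower S C G] [Module.Finite C G] [Algebra.FinitePresentation S C] (eN : N ≃ₗ[S] G) (n : ℕ)
    (h1 : ∃ (ξ : PrimeSpectrum (p.Fiber S)) (hξ : ξ ∈ Module.support (p.Fiber S) (FlatCA.fiberMod p S N)),
      ξ.asIdeal = FlatCA.fiberIdeal p q ∧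
      FlatMor.localDim (Module.support (p.Fiber S) (FlatCA.fiberMod p S N)) ⟨ξ, hξ⟩ = n)
    {R'' D'' C'' S'' : Type u} [CommRing R''] [CommRing D''] [CommRing C''] [CommRing S'']
    [Algebra R R''] [Algebra.Etale R R''] (p'' : Ideal R'') [p''.IsPrime] [p''.LiesOver p]
    [Algebra R'' D''] (hsm : FlatCA.SmoothRelDim n R'' D'') (hint : FlatCA.GeomIntegralFibres R'' D'')
    [Algebra D'' C''] [Module.Finite D'' C''] [Algebra C C''] [Algebra.Etale C C''] [Algebra R'' C'']
    [IsScalarTower R'' D'' C'']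
    [Algebra S S''] [Algebra.Etale S S''] [Algebra R'' S''] [Algebra R S''] [IsScalarTower R R'' S'']
    [IsScalarTower R S S''] [Algebra S'' C''] [Algebra S C''] [IsScalarTower S S'' C''] [IsScalarTower S C C'']
    [IsScalarTower R'' S'' C''] [Algebra.IsPushout S S'' C C''] (hσ : Function.Surjective (algebraMap S'' C''))
    (q'' : Ideal S'') [q''.IsPrime] [q''.LiesOver q] [q''.LiesOver p'']
    (N'' : Type u) [AddCommGroup N''] [Module S'' N''] [Module S N''] [IsScalarTower S S'' N''] [Module R'' N'']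
    [IsScalarTower R'' S'' N''] (gN : N →ₗ[S] N'') (hgN : IsBaseChange S'' gN)
    (G'' : Type u) [AddCommGroup G''] [Module C'' G''] [Module C G''] [IsScalarTower C C'' G''] [Module S'' G'']
    [IsScalarTower S'' C'' G''] (gG : G →ₗ[C] G'') (hgG : IsBaseChange C'' gG) :
    FlatCA.IsOneStepDevissage R'' S'' N'' p'' C'' D'' G'' n ∧
      ∃ (ξ : PrimeSpectrum (p''.Fiber S'')) (hξ : ξ ∈ Module.support (p''.Fiber S'') (FlatCA.fiberMod p'' S'' N'')),
        ξ.asIdeal = FlatCA.fiberIdeal p'' q'' ∧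
        FlatMor.localDim (Module.support (p''.Fiber S'') (FlatCA.fiberMod p'' S'' N'')) ⟨ξ, hξ⟩ = n := by
  haveI : Module.Finite C'' G'' := Module.Finite.equiv hgG.equiv
  haveI : Module.Finite S'' N'' := Module.Finite.equiv hgN.equiv
  let eNG : N'' ≃ₗ[S''] G'' :=
    ((hgN.equiv.symm.trans (TensorProduct.AlgebraTensorModule.congr (LinearEquiv.refl S'' S'') eN)).trans
      (Algebra.IsPushout.cancelBaseChange S S'' C C'' G).symm).trans (hgG.equiv.restrictScalars S'')
  haveI : Algebra.FinitePresentation S C'' := Algebra.FinitePresentation.trans S C C''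
  have hfp : Algebra.FinitePresentation S'' C'' :=
    Algebra.FinitePresentation.of_restrict_scalars_finitePresentation S S'' C''
  obtain ⟨ξ, hξ, hξq, hξn⟩ := h1
  obtain ⟨x'', hx''q, hx''c⟩ := exists_fibre_prime p'' q''
  obtain ⟨x', hx'q, hx'c⟩ := exists_fibre_prime p q
  obtain rfl : ξ = x' := PrimeSpectrum.ext (hξq.trans hx'q.symm)
  obtain ⟨hx'', hdim⟩ := localDim_support_etale (R₁ := R'') (S₁ := S'') N N'' gN hgN p p'' x'' ξ (by
    rw [PrimeSpectrum.comap_asIdeal, PrimeSpectrum.comap_asIdeal, hx''c, hx'c]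
    exact (q''.over_def q).symm) hξ
  rw [hξn] at hdim
  haveI : IsDomain (p''.Fiber D'') := isDomain_fiber p'' hint
  have hkerann : RingHom.ker (algebraMap S'' C'') ≤ Module.annihilator S'' N'' := fun w hw => by
    refine Module.mem_annihilator.2 fun v => eNG.injective ?_
    rw [map_smul, map_zero, ← algebraMap_smul C'' w (eNG v), RingHom.mem_ker.1 hw, zero_smul]
  let π : C'' →+* S'' ⧸ Module.annihilator S'' N'' :=
    RingHom.liftOfSurjective (algebraMap S'' C'') hσ ⟨Ideal.Quotient.mk _, by rw [Ideal.mk_ker]; exact hkerann⟩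
  have hπ : ∀ w, π (algebraMap S'' C'' w) = Ideal.Quotient.mk _ w := fun w =>
    (algebraMap S'' C'').liftOfSurjective_comp_apply hσ _ w
  let φD : D'' →ₐ[R''] S'' ⧸ Module.annihilator S'' N'' :=
    { π.comp (algebraMap D'' C'') with
      commutes' := fun a => by
        show π (algebraMap D'' C'' (algebraMap R'' D'' a)) = _
        rw [← IsScalarTower.algebraMap_apply R'' D'' C'', IsScalarTower.algebraMap_apply R'' S'' C'', hπ]
        rfl }
  have hφD : φD.toRingHom.Finite :=
    RingHom.Finite.comp (RingHom.Finite.of_surjective π fun w => by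
      obtain ⟨w, rfl⟩ := Ideal.Quotient.mk_surjective w
      exact ⟨_, hπ w⟩) (RingHom.finite_algebraMap.2 (inferInstance : Module.Finite D'' C''))
  exact ⟨⟨⟨eNG⟩, hσ, hfp, inferInstance, inferInstance, hsm, (haveI := hint; inferInstance),
    supportDim_fibre_eq N'' p'' n hsm φD hφD ⟨x'', hx''⟩ hdim⟩, x'', hx'', hx''q, hdim⟩

/-- Assembling the étale localisation from its rings. -/
theorem oneStep_assemble {R S : Type u} [CommRing R] [CommRing S] [Algebra R S]
    (N : Type u) [AddCommGroup N] [Module S N] [Module R N] [IsScalarTower R S N] [Module.Finite S N]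
    (p : Ideal R) [p.IsPrime] (q : Ideal S) [q.IsPrime] [q.LiesOver p]
    {C D G : Type u} [CommRing C] [CommRing D] [Algebra D C] [Algebra S C] [AddCommGroup G] [Module C G] [Module S G]
    [IsScalarTower S C G] [Module.Finite C G] [Algebra.FinitePresentation S C] (eN : N ≃ₗ[S] G) (n : ℕ)
    (h1 : ∃ (ξ : PrimeSpectrum (p.Fiber S)) (hξ : ξ ∈ Module.support (p.Fiber S) (FlatCA.fiberMod p S N)),
      ξ.asIdeal = FlatCA.fiberIdeal p q ∧
      FlatMor.localDim (Module.support (p.Fiber S) (FlatCA.fiberMod p S N)) ⟨ξ, hξ⟩ = n)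
    (z : Ideal C) [z.IsPrime]
    {R'' D'' C₂ S₂ : Type u} [CommRing R''] [CommRing D''] [CommRing C₂] [CommRing S₂]
    [Algebra R R''] [Algebra.Etale R R''] (p'' : Ideal R'') [p''.IsPrime] [p''.LiesOver p]
    [Algebra R'' D''] (hsm : FlatCA.SmoothRelDim n R'' D'') (hint : FlatCA.GeomIntegralFibres R'' D'')
    (y'' : Ideal D'') [y''.IsPrime] [y''.LiesOver p''] (hpt : FlatCA.PurelyTranscendental p'' y'')
    [Algebra D'' C₂] [Module.Finite D'' C₂] [Algebra C C₂] [Algebra.Etale C C₂] [Algebra R'' C₂]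
    [IsScalarTower R'' D'' C₂] [Algebra D D''] [Algebra D C₂] [IsScalarTower D D'' C₂] [IsScalarTower D C C₂]
    [Algebra.IsPushout D D'' C C₂]
    (z₀ : Ideal C₂) [z₀.IsPrime] [z₀.LiesOver z] [z₀.LiesOver y'']
    (huniq : ∀ (z₂ : Ideal C₂) [z₂.IsPrime], z₂.LiesOver y'' → z₂ = z₀)
    [Algebra S S₂] [Algebra.Etale S S₂] [Algebra R'' S₂] [Algebra R S₂] [IsScalarTower R R'' S₂]
    [IsScalarTower R S S₂] [Algebra S₂ C₂] [Algebra S C₂] [IsScalarTower S S₂ C₂] [IsScalarTower S C C₂]
    [IsScalarTower R'' S₂ C₂] [Algebra.IsPushout S S₂ C C₂] (hσ : Function.Surjective (algebraMap S₂ C₂))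
    (q₂ : Ideal S₂) [q₂.IsPrime] [q₂.LiesOver q] [q₂.LiesOver p''] [z₀.LiesOver q₂]
    (hq₂ : FlatCA.IsEtaleNhd S S₂ q q₂) :
    ∃ (C'' : Type u) (_ : CommRing C'') (_ : Algebra C C'') (_ : Algebra D'' C'') (_ : Algebra D C'')
      (_ : Algebra R'' C'') (_ : IsScalarTower D D'' C'') (_ : IsScalarTower D C C'') (_ : IsScalarTower R'' D'' C'')
      (z'' : Ideal C'') (_ : z''.IsPrime) (_ : z''.LiesOver z) (_ : z''.LiesOver y''),
      Algebra.IsPushout D D'' C C'' ∧
    ∃ (G'' : Type u) (_ : AddCommGroup G'') (_ : Module C'' G'') (_ : Module C G'') (_ : IsScalarTower C C'' G'')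
      (gG : G →ₗ[C] G''), IsBaseChange C'' gG ∧
    ∃ (S'' : Type u) (_ : CommRing S'') (_ : Algebra S S'') (_ : Algebra R'' S'') (_ : Algebra R S'')
      (_ : IsScalarTower R S S'') (_ : IsScalarTower R R'' S'') (q'' : Ideal S'') (_ : q''.IsPrime)
      (_ : Algebra S'' C'') (_ : Algebra S C'') (_ : IsScalarTower S S'' C'') (_ : IsScalarTower S C C'')
      (_ : IsScalarTower R'' S'' C'') (_ : Module S'' G'') (_ : IsScalarTower S'' C'' G''),
      FlatCA.IsEtaleNhd S S'' q q'' ∧ z''.LiesOver q'' ∧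
    ∃ (N'' : Type u) (_ : AddCommGroup N'') (_ : Module S'' N'') (_ : Module S N'') (_ : IsScalarTower S S'' N'')
      (_ : Module R'' N'') (_ : IsScalarTower R'' S'' N'') (gN : N →ₗ[S] N''), IsBaseChange S'' gN ∧
      FlatCA.IsOneStepDevissage R'' S'' N'' p'' C'' D'' G'' n ∧
      (∃ (ξ : PrimeSpectrum (p''.Fiber S'')) (hξ : ξ ∈ Module.support (p''.Fiber S'') (FlatCA.fiberMod p'' S'' N'')),
        ξ.asIdeal = FlatCA.fiberIdeal p'' q'' ∧
        FlatMor.localDim (Module.support (p''.Fiber S'') (FlatCA.fiberMod p'' S'' N'')) ⟨ξ, hξ⟩ = n) ∧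
      (∀ (z₂ : Ideal C'') [z₂.IsPrime], z₂.LiesOver y'' → z₂ = z'') ∧
      FlatCA.PurelyTranscendental p'' y'' := by
  haveI : SMulCommClass C S₂ C₂ := inferInstance
  haveI : SMulCommClass S R'' S₂ := inferInstance
  let G₂ := C₂ ⊗[C] G
  let N₂ := S₂ ⊗[S] N
  have hfin := oneStep_finish N p q eN n h1 p'' hsm hint (D'' := D'') (C'' := C₂) hσ q₂ N₂
    _ (TensorProduct.isBaseChange S N S₂) G₂ _ (TensorProduct.isBaseChange C G C₂)
  exact ⟨C₂, inferInstance, inferInstance, inferInstance, inferInstance, inferInstance, inferInstance, inferInstance,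
    inferInstance, z₀, inferInstance, inferInstance, inferInstance, inferInstance,
    G₂, inferInstance, inferInstance, inferInstance, inferInstance, _,
    TensorProduct.isBaseChange C G C₂,
    S₂, inferInstance, inferInstance, inferInstance, inferInstance, inferInstance, inferInstance, q₂, inferInstance,
    inferInstance, inferInstance, inferInstance, inferInstance, inferInstance, inferInstance, inferInstance,
    hq₂, inferInstance,
    N₂, inferInstance, inferInstance, inferInstance, inferInstance, inferInstance, inferInstance,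
    _, TensorProduct.isBaseChange S N S₂, hfin.1, hfin.2, huniq, hpt⟩

/-- Étale localisation of a one-step dévissage. -/
theorem exists_oneStep_etale (R S : Type u) [CommRing R] [CommRing S] [Algebra R S] [Algebra.FiniteType R S]
    (N : Type u) [AddCommGroup N] [Module S N] [Module R N] [IsScalarTower R S N] [Module.Finite S N]
    (p : Ideal R) [p.IsPrime] (q : Ideal S) [q.IsPrime] [q.LiesOver p]
    (C D G : Type u) [CommRing C] [CommRing D] [Algebra S C] [Algebra R C] [IsScalarTower R S C]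
    [Algebra R D] [Algebra D C] [IsScalarTower R D C] [AddCommGroup G] [Module C G] [Module S G]
    [IsScalarTower S C G] (n : ℕ)
    (h : FlatCA.IsOneStepDevissage R S N p C D G n)
    (z : Ideal C) [z.IsPrime] (y : Ideal D) [y.IsPrime] [z.LiesOver q] [z.LiesOver y] [y.LiesOver p]
    (h1 : ∃ (ξ : PrimeSpectrum (p.Fiber S)) (hξ : ξ ∈ Module.support (p.Fiber S) (FlatCA.fiberMod p S N)),
      ξ.asIdeal = FlatCA.fiberIdeal p q ∧
      FlatMor.localDim (Module.support (p.Fiber S) (FlatCA.fiberMod p S N)) ⟨ξ, hξ⟩ = n)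
    (h3 : ∀ (z₁ : Ideal C) [z₁.IsPrime], z₁.LiesOver y → z₁ = z)
    (h4 : FlatCA.PurelyTranscendental p y)
    (R' : Type u) [CommRing R'] [Algebra R R'] (p' : Ideal R') [p'.IsPrime] (hR' : FlatCA.IsEtaleNhd R R' p p')
    (D' : Type u) [CommRing D'] [Algebra D D'] [Algebra R' D'] [Algebra R D'] [IsScalarTower R R' D']
    [IsScalarTower R D D'] (y' : Ideal D') [y'.IsPrime] (hD' : FlatCA.IsEtaleNhd D D' y y') [y'.LiesOver p'] :
    ∃ (R'' : Type u) (_ : CommRing R'') (_ : Algebra R' R'') (_ : Algebra R R'') (_ : IsScalarTower R R' R'')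
      (p'' : Ideal R'') (_ : p''.IsPrime),
      FlatCA.IsEtaleNhd R' R'' p' p'' ∧
    ∃ (T : Type u) (_ : CommRing T) (_ : Algebra R' T) (_ : Algebra R'' T) (_ : Algebra D' T)
      (_ : IsScalarTower R' R'' T) (_ : IsScalarTower R' D' T),
      Algebra.IsPushout R' R'' D' T ∧
    ∃ (D'' : Type u) (_ : CommRing D'') (_ : Algebra T D'') (_ : Algebra D' D'') (_ : Algebra R'' D'')
      (_ : Algebra D D'') (_ : Algebra R D'') (_ : IsScalarTower D' T D'') (_ : IsScalarTower R'' T D'')
      (_ : IsScalarTower D D' D'') (_ : IsScalarTower R R'' D'') (_ : IsScalarTower R D D'')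
      (y'' : Ideal D'') (_ : y''.IsPrime) (_ : y''.LiesOver y') (_ : y''.LiesOver p''),
      IsOpenImmersion (Spec.map (CommRingCat.ofHom (algebraMap T D''))) ∧
    ∃ (C'' : Type u) (_ : CommRing C'') (_ : Algebra C C'') (_ : Algebra D'' C'') (_ : Algebra D C'')
      (_ : Algebra R'' C'') (_ : IsScalarTower D D'' C'') (_ : IsScalarTower D C C'') (_ : IsScalarTower R'' D'' C'')
      (z'' : Ideal C'') (_ : z''.IsPrime) (_ : z''.LiesOver z) (_ : z''.LiesOver y''),
      Algebra.IsPushout D D'' C C'' ∧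
    ∃ (G'' : Type u) (_ : AddCommGroup G'') (_ : Module C'' G'') (_ : Module C G'') (_ : IsScalarTower C C'' G'')
      (gG : G →ₗ[C] G''), IsBaseChange C'' gG ∧
    ∃ (S'' : Type u) (_ : CommRing S'') (_ : Algebra S S'') (_ : Algebra R'' S'') (_ : Algebra R S'')
      (_ : IsScalarTower R S S'') (_ : IsScalarTower R R'' S'') (q'' : Ideal S'') (_ : q''.IsPrime)
      (_ : Algebra S'' C'') (_ : Algebra S C'') (_ : IsScalarTower S S'' C'') (_ : IsScalarTower S C C'')
      (_ : IsScalarTower R'' S'' C'') (_ : Module S'' G'') (_ : IsScalarTower S'' C'' G''),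
      FlatCA.IsEtaleNhd S S'' q q'' ∧ z''.LiesOver q'' ∧
    ∃ (N'' : Type u) (_ : AddCommGroup N'') (_ : Module S'' N'') (_ : Module S N'') (_ : IsScalarTower S S'' N'')
      (_ : Module R'' N'') (_ : IsScalarTower R'' S'' N'') (gN : N →ₗ[S] N''), IsBaseChange S'' gN ∧
      FlatCA.IsOneStepDevissage R'' S'' N'' p'' C'' D'' G'' n ∧
      (∃ (ξ : PrimeSpectrum (p''.Fiber S'')) (hξ : ξ ∈ Module.support (p''.Fiber S'') (FlatCA.fiberMod p'' S'' N'')),
        ξ.asIdeal = FlatCA.fiberIdeal p'' q'' ∧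
        FlatMor.localDim (Module.support (p''.Fiber S'') (FlatCA.fiberMod p'' S'' N'')) ⟨ξ, hξ⟩ = n) ∧
      (∀ (z₂ : Ideal C'') [z₂.IsPrime], z₂.LiesOver y'' → z₂ = z'') ∧
      FlatCA.PurelyTranscendental p'' y'' := by
  classical
  obtain ⟨⟨eN⟩, hSC, hSCfp, hDC, hCG, hsm, -, -⟩ := h
  haveI := hSCfp; haveI := hDC; haveI := hCG
  obtain ⟨hR'e, hR'o, hR'b⟩ := id hR'
  obtain ⟨hD'e, hD'o, hD'b⟩ := id hD'
  haveI := hR'e; haveI := hD'e
  have hsm' : FlatCA.SmoothRelDim n R' D' := smoothRelDim_of_etale_base n (smoothRelDim_of_etale (P := D) n hsm)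
  have hpt' : FlatCA.PurelyTranscendental p' y' := purelyTranscendental_map p y p' y' hR'o hD'o hR'b hD'b h4
  -- lifting over the first neighbourhood
  let C' := D' ⊗[D] C
  obtain ⟨z', _, hz'y, hz'r, -, hz'u⟩ := exists_baseChange_point (A' := D') y y' hD'o hD'b z
  haveI : Algebra.Etale C C' := Algebra.Etale.of_equiv
    (show C ⊗[D] D' ≃ₐ[C] C' from AlgEquiv.ofRingEquiv (f := (Algebra.TensorProduct.comm D C D').toRingEquiv) fun _ => rfl)
  letI : Algebra S C' := ((algebraMap C C').comp (algebraMap S C)).toAlgebra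
  haveI : IsScalarTower S C C' := IsScalarTower.of_algebraMap_eq fun _ => rfl
  obtain ⟨c, hc, S₁, _, _, φ₁, hS₁e, hφ₁⟩ := exists_etale_lift (S := S) (C := C) hSC z'
  haveI := hS₁e
  have hcQ : ∀ Q : Ideal C', Q.IsPrime → Q.LiesOver y' → c ∉ Q := fun Q hQ hQy => by
    have hQz : Q.comap (Algebra.TensorProduct.includeRight (R := D) (A := D') (B := C)).toRingHom = z := by
      haveI := hQ
      refine h3 _ ⟨?_⟩
      rw [hD'o.over, hQy.over]
      ext d
      show algebraMap D' C' (algebraMap D D' d) ∈ Q ↔ (Algebra.TensorProduct.includeRight : C →ₐ[D] C') (algebraMap D C d) ∈ Q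
      rw [AlgHom.commutes]
      rfl
    rw [hz'u Q hQ hQy hQz]
    exact hc
  obtain ⟨hh, hhy, m, hdvd⟩ := exists_dvd_pow y' c hcQ
  -- shrinking to a neighbourhood with integral fibres
  let D₁ := Localization.Away hh
  let y₁ : Ideal D₁ := y'.map (algebraMap D' D₁)
  have hdisj : Disjoint (Submonoid.powers hh : Set D') ↑y' := (Ideal.disjoint_powers_iff_notMem_of_isPrime _).2 hhy
  haveI : y₁.IsPrime := IsLocalization.isPrime_of_isPrime_disjoint _ _ y' ‹_› hdisj
  have hy₁ : y₁.comap (algebraMap D' D₁) = y' := IsLocalization.under_map_of_isPrime_disjoint _ _ ‹_› hdisj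
  have hD₁ : FlatCA.IsEtaleNhd D' D₁ y' y₁ := isEtaleNhd_away D₁ hh y' y₁ hy₁
  haveI : Algebra.Etale D' D₁ := hD₁.1
  obtain ⟨-, hD₁o, hD₁b⟩ := id hD₁
  have hsm₁ : FlatCA.SmoothRelDim n R' D₁ := smoothRelDim_of_etale (P := D') n hsm'
  haveI hy₁p' : y₁.LiesOver p' := Ideal.LiesOver.trans y₁ y' p'
  obtain ⟨-, hidp, hidb⟩ := isEtaleNhd_refl R' p'
  have hpt₁ : FlatCA.PurelyTranscendental p' y₁ := purelyTranscendental_map p' y' p' y₁ hidp hD₁o hidb hD₁b hpt'
  obtain ⟨R'', D'', _, _, _, _, _, _, _, _, p'', y'', _, _, hy''p'', hR'', hD''₁, hsm'', hint, hpiece⟩ :=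
    GrothLib.RG6.Geom.exists_geom_nhd n hsm₁ p' y₁ hpt₁
  haveI : Algebra.Etale R' R'' := hR''.1
  haveI : Algebra.Etale D₁ D'' := hD''₁.1
  letI : Algebra R R'' := ((algebraMap R' R'').comp (algebraMap R R')).toAlgebra
  haveI : IsScalarTower R R' R'' := IsScalarTower.of_algebraMap_eq fun _ => rfl
  haveI : Algebra.Etale R R'' := Algebra.Etale.comp R R' R''
  letI : Algebra D' D'' := ((algebraMap D₁ D'').comp (algebraMap D' D₁)).toAlgebra
  haveI : IsScalarTower D' D₁ D'' := IsScalarTower.of_algebraMap_eq fun _ => rfl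
  haveI : Algebra.Etale D' D'' := Algebra.Etale.comp D' D₁ D''
  letI : Algebra D D'' := ((algebraMap D' D'').comp (algebraMap D D')).toAlgebra
  haveI : IsScalarTower D D' D'' := IsScalarTower.of_algebraMap_eq fun _ => rfl
  haveI : Algebra.Etale D D'' := Algebra.Etale.comp D D' D''
  haveI : IsScalarTower R' D' D'' := IsScalarTower.of_algebraMap_eq fun r => by
    rw [IsScalarTower.algebraMap_apply R' D₁ D'', IsScalarTower.algebraMap_apply R' D' D₁]
    rfl
  letI : Algebra R D'' := ((algebraMap R'' D'').comp (algebraMap R R'')).toAlgebra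
  haveI : IsScalarTower R R'' D'' := IsScalarTower.of_algebraMap_eq fun _ => rfl
  haveI : IsScalarTower R D D'' := IsScalarTower.of_algebraMap_eq fun r => by
    show algebraMap R'' D'' (algebraMap R' R'' (algebraMap R R' r)) = algebraMap D' D'' (algebraMap D D' (algebraMap R D r))
    rw [← IsScalarTower.algebraMap_apply R' R'' D'', IsScalarTower.algebraMap_apply R' D' D'',
      ← IsScalarTower.algebraMap_apply R R' D', ← IsScalarTower.algebraMap_apply R D D']
  have hD'' : FlatCA.IsEtaleNhd D D'' y y'' := isEtaleNhd_trans hD' (isEtaleNhd_trans hD₁ hD''₁)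
  obtain ⟨-, hD''o, hD''b⟩ := id hD''
  obtain ⟨-, hy''y', -⟩ := id (isEtaleNhd_trans hD₁ hD''₁)
  -- the piece is a principal open of the base change
  haveI : IsLocalization.Away (1 : R') R' :=
    IsLocalization.away_of_isUnit_of_bijective R' isUnit_one Function.bijective_id
  have hpiece' : IsOpenPiece R' R'' D' D'' :=
    GrothLib.RG6.Geom.isOpenPiece_comp (R₀ := R') (D₁ := D₁) (1 : R') hh hpiece
  obtain ⟨t, ht⟩ := exists_isAwayPiece hpiece'
  let T := R'' ⊗[R'] D'
  letI iT : Algebra T D'' := (pieceHom R' R'' D' D'').toRingHom.toAlgebra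
  haveI : IsLocalization.Away t D'' := ht
  have hTr : ∀ a : R'', algebraMap T D'' (a ⊗ₜ[R'] (1 : D')) = algebraMap R'' D'' a := fun a => by
    show pieceHom R' R'' D' D'' (a ⊗ₜ[R'] (1 : D')) = _
    rw [pieceHom_tmul, map_one, mul_one]
  have hTd : ∀ d : D', algebraMap T D'' ((1 : R'') ⊗ₜ[R'] d) = algebraMap D' D'' d := fun d => by
    show pieceHom R' R'' D' D'' ((1 : R'') ⊗ₜ[R'] d) = _
    rw [pieceHom_tmul, map_one, one_mul]
  haveI : IsScalarTower D' T D'' := IsScalarTower.of_algebraMap_eq fun d => (hTd d).symm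
  haveI : IsScalarTower R'' T D'' := IsScalarTower.of_algebraMap_eq fun a => (hTr a).symm
  have himm : IsOpenImmersion (Spec.map (CommRingCat.ofHom (algebraMap T D''))) := IsOpenImmersion.of_isLocalization t
  -- the closed subscheme over the new base
  let C'' := D'' ⊗[D] C
  haveI : Algebra.Etale C C'' := Algebra.Etale.of_equiv
    (show C ⊗[D] D'' ≃ₐ[C] C'' from AlgEquiv.ofRingEquiv (f := (Algebra.TensorProduct.comm D C D'').toRingEquiv) fun _ => rfl)
  obtain ⟨z'', _, hz''y, hz''r, ⟨hz''z, hz''b⟩, hz''u⟩ := exists_baseChange_point (A' := D'') y y'' hD''o hD''b z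
  letI : Algebra S C'' := ((algebraMap C C'').comp (algebraMap S C)).toAlgebra
  haveI : IsScalarTower S C C'' := IsScalarTower.of_algebraMap_eq fun _ => rfl
  obtain ⟨ψ, hψ⟩ := exists_pushout_lift (k := D) (L := D') (B := C) (C := C'')
    ((algebraMap D'' C'').comp (algebraMap D' D'')) (algebraMap C C'') (fun d => by
      show algebraMap D'' C'' (algebraMap D' D'' (algebraMap D D' d)) =
        (Algebra.TensorProduct.includeRight : C →ₐ[D] C'') (algebraMap D C d)
      rw [AlgHom.commutes]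
      rfl)
  have hψD : ∀ d : D', ψ (algebraMap D' C' d) = algebraMap D'' C'' (algebraMap D' D'' d) := fun d => by
    show ψ (d ⊗ₜ[D] (1 : C)) = _
    rw [hψ, map_one, mul_one]
    rfl
  have hψc : IsUnit (ψ c) := by
    refine isUnit_of_dvd_unit (map_dvd ψ hdvd) ?_
    rw [map_pow, hψD]
    refine (IsUnit.map (algebraMap D'' C'') ?_).pow m
    show IsUnit (algebraMap D₁ D'' (algebraMap D' D₁ hh))
    exact (IsLocalization.Away.algebraMap_isUnit (S := D₁) hh).map _
  let ψ₁ : Localization.Away c →+* C'' := IsLocalization.Away.lift c hψc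
  have hψ₁ : ∀ w, ψ₁ (algebraMap C' _ w) = ψ w := fun w => IsLocalization.Away.lift_eq c hψc w
  letI : Algebra R S₁ := ((algebraMap S S₁).comp (algebraMap R S)).toAlgebra
  haveI : IsScalarTower R S S₁ := IsScalarTower.of_algebraMap_eq fun _ => rfl
  have hψ₁S : ∀ a : S, ψ₁ (φ₁ (algebraMap S S₁ a)) = algebraMap C C'' (algebraMap S C a) := fun a => by
    rw [AlgHom.commutes, IsScalarTower.algebraMap_apply S C' (Localization.Away c), hψ₁]
    show ψ ((1 : D') ⊗ₜ[D] algebraMap S C a) = _
    rw [hψ, map_one, one_mul]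
  obtain ⟨Φ, hΦ⟩ := exists_pushout_lift (k := R) (L := R'') (B := S₁) (C := C'')
    ((algebraMap D'' C'').comp (algebraMap R'' D'')) (ψ₁.comp φ₁.toRingHom) (fun a => by
      show algebraMap D'' C'' (algebraMap R'' D'' (algebraMap R R'' a)) = ψ₁ (φ₁ (algebraMap S S₁ (algebraMap R S a)))
      rw [hψ₁S, ← IsScalarTower.algebraMap_apply R R'' D'', ← IsScalarTower.algebraMap_apply R S C,
        IsScalarTower.algebraMap_apply R D C, IsScalarTower.algebraMap_apply R D D'']
      show algebraMap D D'' (algebraMap R D a) ⊗ₜ[D] (1 : C) = (1 : D'') ⊗ₜ[D] algebraMap D C (algebraMap R D a)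
      rw [Algebra.algebraMap_eq_smul_one (A := D''), Algebra.algebraMap_eq_smul_one (A := C), TensorProduct.smul_tmul])
  have hψrange : ∀ w : C', ψ w ∈ Φ.range := fun w => by
    obtain ⟨a, ha⟩ := hφ₁ (algebraMap C' _ w)
    refine ⟨(1 : R'') ⊗ₜ[R] a, ?_⟩
    rw [hΦ, map_one, one_mul]
    show ψ₁ (φ₁ a) = _
    rw [ha, hψ₁]
  have hTrange : ∀ w : T, algebraMap D'' C'' (algebraMap T D'' w) ∈ Φ.range := fun w => by
    induction w using TensorProduct.induction_on with
    | zero => rw [map_zero, map_zero]; exact zero_mem _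
    | tmul a d =>
      rw [show a ⊗ₜ[R'] d = (a ⊗ₜ[R'] (1 : D')) * ((1 : R'') ⊗ₜ[R'] d) by
        rw [Algebra.TensorProduct.tmul_mul_tmul, mul_one, one_mul], map_mul, map_mul, hTr, hTd, ← hψD]
      refine mul_mem ⟨a ⊗ₜ[R] (1 : S₁), ?_⟩ (hψrange _)
      rw [hΦ, map_one, mul_one]
      rfl
    | add u v hu hv => rw [map_add, map_add]; exact add_mem hu hv
  obtain ⟨s₀, hs₀⟩ := hTrange t
  have hs₀u : IsUnit (Φ s₀) := by
    rw [hs₀]
    exact (IsLocalization.Away.algebraMap_isUnit (S := D'') t).map _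
  let S₀ := R'' ⊗[R] S₁
  letI : Algebra S S₀ := ((algebraMap S₁ S₀).comp (algebraMap S S₁)).toAlgebra
  haveI : IsScalarTower S S₁ S₀ := IsScalarTower.of_algebraMap_eq fun _ => rfl
  haveI : Algebra.Etale S₁ S₀ := Algebra.Etale.of_equiv
    (show S₁ ⊗[R] R'' ≃ₐ[S₁] S₀ from AlgEquiv.ofRingEquiv (f := (Algebra.TensorProduct.comm R S₁ R'').toRingEquiv) fun _ => rfl)
  haveI : Algebra.Etale S S₀ := Algebra.Etale.comp S S₁ S₀
  let S₃ := Localization.Away s₀
  let φ₃ : S₃ →+* C'' := IsLocalization.Away.lift s₀ hs₀u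
  have hφ₃ : ∀ w, φ₃ (algebraMap S₀ S₃ w) = Φ w := fun w => IsLocalization.Away.lift_eq s₀ hs₀u w
  have hsurj₃ : ∀ w : C'', w ∈ φ₃.range := by
    have hbase : ∀ w, w ∈ Φ.range → w ∈ φ₃.range := by
      rintro _ ⟨a, rfl⟩
      exact ⟨algebraMap S₀ S₃ a, hφ₃ a⟩
    intro w
    induction w using TensorProduct.induction_on with
    | zero => exact zero_mem _
    | tmul d b =>
      rw [show d ⊗ₜ[D] b = (d ⊗ₜ[D] (1 : C)) * ((1 : D'') ⊗ₜ[D] b) by
        rw [Algebra.TensorProduct.tmul_mul_tmul, mul_one, one_mul]]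
      refine mul_mem ?_ (hbase _ ?_)
      · obtain ⟨⟨a, ⟨_, k, rfl⟩⟩, hda⟩ := IsLocalization.surj (Submonoid.powers t) d
        obtain ⟨i, hi⟩ := ((IsLocalization.Away.algebraMap_isUnit (S := S₃) s₀).pow k).exists_right_inv
        obtain ⟨a', ha'⟩ := hTrange a
        refine ⟨algebraMap S₀ S₃ a' * i, ?_⟩
        rw [map_mul, hφ₃, ha', ← hda, map_mul, map_pow, map_pow,
          show algebraMap D'' C'' d = d ⊗ₜ[D] (1 : C) from rfl, mul_assoc, ← hs₀]
        have h2 := congrArg φ₃ hi
        rw [map_mul, map_pow, hφ₃, map_one] at h2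
        rw [h2, mul_one]
      · have hb : (1 : D'') ⊗ₜ[D] b = ψ ((1 : D') ⊗ₜ[D] b) := by rw [hψ, map_one, one_mul]; rfl
        rw [hb]
        exact hψrange _
    | add u v hu hv => exact add_mem hu hv
  have hφ₃S : ∀ a : S, φ₃ (algebraMap S S₃ a) = algebraMap S C'' a := fun a => by
    rw [IsScalarTower.algebraMap_apply S S₀ S₃, hφ₃]
    show Φ ((1 : R'') ⊗ₜ[R] algebraMap S S₁ a) = _
    rw [hΦ, map_one, one_mul]
    exact hψ₁S a
  haveI : Algebra.Etale S₀ S₃ := Algebra.Etale.of_isLocalizationAway s₀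
  haveI : Algebra.Etale S S₃ := Algebra.Etale.comp S S₀ S₃
  let φ₃' : S₃ →ₐ[S] C'' := { φ₃ with commutes' := hφ₃S }
  obtain ⟨s, hsu, hscut⟩ := exists_cut (S := S) (C := C) hSC φ₃' hsurj₃
  let S'' := Localization.Away s
  let σ : S'' →+* C'' := IsLocalization.Away.lift (S := S'') s (g := φ₃) hsu
  have hσ : ∀ w, σ (algebraMap S₃ S'' w) = φ₃ w := fun w => IsLocalization.Away.lift_eq s hsu w
  letI : Algebra S'' C'' := σ.toAlgebra
  haveI : IsScalarTower S S'' C'' := IsScalarTower.of_algebraMap_eq fun a => by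
    show _ = σ (algebraMap S S'' a)
    rw [IsScalarTower.algebraMap_apply S S₃ S'', hσ, hφ₃S]
  have hσsurj : Function.Surjective (algebraMap S'' C'') := fun w => by
    obtain ⟨a, ha⟩ := hsurj₃ w
    exact ⟨algebraMap S₃ S'' a, (hσ a).trans ha⟩
  have hker : RingHom.ker (algebraMap S'' C'') ≤ (RingHom.ker (algebraMap S C)).map (algebraMap S S'') := by
    intro w hw
    obtain ⟨⟨a, ⟨_, k, rfl⟩⟩, hwa⟩ := IsLocalization.surj (Submonoid.powers s) w
    have ha0 : φ₃' a = 0 := by
      show φ₃ a = 0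
      rw [← hσ, ← hwa, map_mul, show σ w = 0 from RingHom.mem_ker.1 hw, zero_mul]
    have hmem := Ideal.mem_map_of_mem (algebraMap S₃ S'') (hscut a ha0)
    rw [Ideal.map_map, ← IsScalarTower.algebraMap_eq S S₃ S'', map_mul, ← hwa, mul_left_comm] at hmem
    exact (Ideal.mul_unit_mem_iff_mem _ ((IsLocalization.Away.algebraMap_isUnit (S := S'') s).mul
      (by rw [map_pow]; exact (IsLocalization.Away.algebraMap_isUnit (S := S'') s).pow k))).1 hmem
  haveI hpo : Algebra.IsPushout S S'' C C'' := isPushout_of_surjective hSC hσsurj hker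
  haveI : IsScalarTower R'' S'' C'' := IsScalarTower.of_algebraMap_eq fun a => by
    show algebraMap D'' C'' (algebraMap R'' D'' a) = σ (algebraMap R'' S'' a)
    rw [IsScalarTower.algebraMap_apply R'' S₃ S'', hσ, IsScalarTower.algebraMap_apply R'' S₀ S₃, hφ₃]
    show _ = Φ (a ⊗ₜ[R] (1 : S₁))
    rw [hΦ, map_one, mul_one]
    rfl
  haveI : IsScalarTower R R'' S'' := inferInstance
  haveI : IsScalarTower R S S'' := IsScalarTower.of_algebraMap_eq (R := R) (S := S) (A := S'') fun a => by
    rw [IsScalarTower.algebraMap_apply R R'' S'']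
    rw [IsScalarTower.algebraMap_apply R'' S₀ S'', IsScalarTower.algebraMap_apply S S₀ S'']
    congr 1
    show algebraMap R R'' a ⊗ₜ[R] (1 : S₁) = (1 : R'') ⊗ₜ[R] algebraMap S S₁ (algebraMap R S a)
    rw [← IsScalarTower.algebraMap_apply R S S₁, Algebra.algebraMap_eq_smul_one (A := R''),
      Algebra.algebraMap_eq_smul_one (A := S₁), TensorProduct.smul_tmul]
  haveI : Algebra.Etale S₃ S'' := Algebra.Etale.of_isLocalizationAway s
  haveI : Algebra.Etale S S'' := Algebra.Etale.comp S S₃ S''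
  let q'' : Ideal S'' := z''.comap (algebraMap S'' C'')
  haveI : q''.IsPrime := Ideal.IsPrime.comap _
  haveI hz''q'' : z''.LiesOver q'' := ⟨rfl⟩
  haveI hq''q : q''.LiesOver q := by
    haveI : z''.LiesOver q := Ideal.LiesOver.trans z'' z q
    exact Ideal.LiesOver.tower_bot z'' q'' q
  haveI hq''p'' : q''.LiesOver p'' := by
    haveI : z''.LiesOver p'' := Ideal.LiesOver.trans z'' y'' p''
    exact Ideal.LiesOver.tower_bot z'' q'' p''
  have hS'' : FlatCA.IsEtaleNhd S S'' q q'' :=
    ⟨inferInstance, hq''q, bijective_residue_of_surjective hSC q z q'' hq''q z'' hz''z hz''b⟩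
  -- assembly
  obtain ⟨-, hp''p, -⟩ := id (isEtaleNhd_trans hR' hR'')
  haveI := hp''p
  haveI := hz''z
  have hpt'' : FlatCA.PurelyTranscendental p'' y'' :=
    purelyTranscendental_map p' y₁ p'' y'' hR''.2.choose hD''₁.2.choose hR''.2.choose_spec hD''₁.2.choose_spec hpt₁
  refine ⟨R'', inferInstance, inferInstance, inferInstance, inferInstance, p'', inferInstance, hR'',
    T, inferInstance, inferInstance, inferInstance, inferInstance, inferInstance, inferInstance, inferInstance,
    D'', inferInstance, iT, inferInstance, inferInstance, inferInstance, inferInstance, inferInstance, inferInstance,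
    inferInstance, inferInstance, inferInstance, y'', inferInstance, hy''y', hy''p'', himm, ?_⟩
  refine oneStep_assemble (C₂ := C'') (S₂ := S'') N p q eN n h1 z p'' hsm'' hint y'' hpt'' z'' ?_ hσsurj q'' hS''
  intro z₂ _ hz₂
  refine hz''u z₂ inferInstance hz₂ (h3 _ ⟨?_⟩)
  rw [hD''o.over, hz₂.over]
  ext d
  show algebraMap D'' C'' (algebraMap D D'' d) ∈ z₂ ↔ (Algebra.TensorProduct.includeRight : C →ₐ[D] C'') (algebraMap D C d) ∈ z₂
  rw [AlgHom.commutes]
  rfl

end GrothLib.RG6.Dev
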