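import Mathlib
import Groth.Prelude.Def_FlatCA
import Groth.Prelude.Def_Flat
import Groth.Agent.Lib.RG6.Dev.OneStepNhd
import Groth.Agent.Lib.RG6.Dev.GeomIrred

/-!
# Standard shrinkings of one-step dévissages
-/

set_option autoImplicit false
set_option linter.style.haveILetI false
set_option linter.unusedSectionVars false
set_option maxHeartbeats 1000000

universe u

open TensorProduct AlgebraicGeometry CategoryTheory

namespace GrothLib.RG6.Dev

/-- Standard shrinking of a one-step dévissage. -/
theorem exists_shrink_oneStep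
    (R S : Type u) [CommRing R] [CommRing S] [Algebra R S] [Algebra.FiniteType R S]
    (N : Type u) [AddCommGroup N] [Module S N] [Module R N] [IsScalarTower R S N] [Module.Finite S N]
    (p : Ideal R) [p.IsPrime] (q : Ideal S) [q.IsPrime] [q.LiesOver p]
    (C D G : Type u) [CommRing C] [CommRing D] [Algebra S C] [Algebra R C] [IsScalarTower R S C]
    [Algebra R D] [Algebra D C] [IsScalarTower R D C] [AddCommGroup G] [Module C G] [Module S G]
    [IsScalarTower S C G] (n : ℕ)
    (h : FlatCA.IsOneStepDevissage R S N p C D G n)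
    (z : Ideal C) [z.IsPrime] (y : Ideal D) [y.IsPrime] [z.LiesOver q] [z.LiesOver y] [y.LiesOver p]
    (h1 : ∃ (ξ : PrimeSpectrum (p.Fiber S)) (hξ : ξ ∈ Module.support (p.Fiber S) (FlatCA.fiberMod p S N)),
      ξ.asIdeal = FlatCA.fiberIdeal p q ∧
      FlatMor.localDim (Module.support (p.Fiber S) (FlatCA.fiberMod p S N)) ⟨ξ, hξ⟩ = n)
    (h3 : ∀ (z₁ : Ideal C) [z₁.IsPrime], z₁.LiesOver y → z₁ = z)
    (h4 : FlatCA.PurelyTranscendental p y)
    (u : S) (hu : u ∉ q) (w : D) (hw : w ∉ y) (m : ℕ) (hdvd : algebraMap S C u ∣ algebraMap D C w ^ m) :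
    ∃ (g : R) (hX : S) (hZ : C), g ∉ p ∧ hX ∉ q ∧ hZ ∉ z ∧ IsUnit (algebraMap S (Localization.Away hX) u) ∧
      ∃ (_ : Algebra (Localization.Away g) (Localization.Away hX)) (_ : IsScalarTower R (Localization.Away g) (Localization.Away hX))
        (_ : Algebra (Localization.Away g) (Localization.Away hZ)) (_ : IsScalarTower R (Localization.Away g) (Localization.Away hZ))
        (_ : Algebra (Localization.Away g) (Localization.Away (w * algebraMap R D g))) (_ : IsScalarTower R (Localization.Away g) (Localization.Away (w * algebraMap R D g)))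
        (_ : Algebra (Localization.Away hX) (Localization.Away hZ)) (_ : IsScalarTower S (Localization.Away hX) (Localization.Away hZ))
        (_ : IsScalarTower (Localization.Away g) (Localization.Away hX) (Localization.Away hZ))
        (_ : Algebra (Localization.Away (w * algebraMap R D g)) (Localization.Away hZ)) (_ : IsScalarTower D (Localization.Away (w * algebraMap R D g)) (Localization.Away hZ))
        (_ : IsScalarTower (Localization.Away g) (Localization.Away (w * algebraMap R D g)) (Localization.Away hZ))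
        (_ : Module (Localization.Away g) (LocalizedModule (Submonoid.powers hX) N)) (_ : IsScalarTower (Localization.Away g) (Localization.Away hX) (LocalizedModule (Submonoid.powers hX) N))
        (_ : Module (Localization.Away hX) (LocalizedModule (Submonoid.powers hZ) G)) (_ : IsScalarTower (Localization.Away hX) (Localization.Away hZ) (LocalizedModule (Submonoid.powers hZ) G))
        (_ : (Ideal.map (algebraMap R (Localization.Away g)) p).IsPrime) (_ : (Ideal.map (algebraMap D (Localization.Away (w * algebraMap R D g))) y).IsPrime) (_ : (Ideal.map (algebraMap D (Localization.Away (w * algebraMap R D g))) y).LiesOver (Ideal.map (algebraMap R (Localization.Away g)) p)),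
        FlatCA.IsOneStepDevissage (Localization.Away g) (Localization.Away hX) (LocalizedModule (Submonoid.powers hX) N) (Ideal.map (algebraMap R (Localization.Away g)) p) (Localization.Away hZ) (Localization.Away (w * algebraMap R D g)) (LocalizedModule (Submonoid.powers hZ) G) n ∧
        (∃ (ξ : PrimeSpectrum ((Ideal.map (algebraMap R (Localization.Away g)) p).Fiber (Localization.Away hX)))
            (hξ : ξ ∈ Module.support ((Ideal.map (algebraMap R (Localization.Away g)) p).Fiber (Localization.Away hX)) (FlatCA.fiberMod (Ideal.map (algebraMap R (Localization.Away g)) p) (Localization.Away hX) (LocalizedModule (Submonoid.powers hX) N))),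
          ξ.asIdeal = FlatCA.fiberIdeal (Ideal.map (algebraMap R (Localization.Away g)) p) (Ideal.map (algebraMap S (Localization.Away hX)) q) ∧
          FlatMor.localDim (Module.support ((Ideal.map (algebraMap R (Localization.Away g)) p).Fiber (Localization.Away hX)) (FlatCA.fiberMod (Ideal.map (algebraMap R (Localization.Away g)) p) (Localization.Away hX) (LocalizedModule (Submonoid.powers hX) N))) ⟨ξ, hξ⟩ = n) ∧
        (Ideal.map (algebraMap C (Localization.Away hZ)) z).LiesOver (Ideal.map (algebraMap S (Localization.Away hX)) q) ∧ (Ideal.map (algebraMap C (Localization.Away hZ)) z).LiesOver (Ideal.map (algebraMap D (Localization.Away (w * algebraMap R D g))) y) ∧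
        (∀ (z₂ : Ideal (Localization.Away hZ)) [z₂.IsPrime], z₂.LiesOver (Ideal.map (algebraMap D (Localization.Away (w * algebraMap R D g))) y) → z₂ = Ideal.map (algebraMap C (Localization.Away hZ)) z) ∧
        FlatCA.PurelyTranscendental (Ideal.map (algebraMap R (Localization.Away g)) p) (Ideal.map (algebraMap D (Localization.Away (w * algebraMap R D g))) y) := by
  classical
  obtain ⟨⟨eN⟩, hSC, hSCfp, hDC, hCG, hsm, hirr, -⟩ := h
  haveI := hSCfp; haveI := hDC; haveI := hCG
  haveI := GrothLib.RG6.Geom.smooth_of_smoothRelDim hsm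
  -- the principal open of the base
  have himo : IsOpen (PrimeSpectrum.comap (algebraMap R D) '' (PrimeSpectrum.basicOpen w : Set _)) :=
    PrimeSpectrum.isOpenMap_comap_of_hasGoingDown_of_finitePresentation _ (PrimeSpectrum.basicOpen w).isOpen
  obtain ⟨_, ⟨g, rfl⟩, hgp, hgIm⟩ := PrimeSpectrum.isTopologicalBasis_basic_opens.exists_subset_of_mem_open
    (a := (⟨p, ‹_›⟩ : PrimeSpectrum R))
    ((Set.mem_image _ _ _).2 ⟨⟨y, inferInstance⟩, hw, PrimeSpectrum.ext (y.over_def p).symm⟩) himo
  have hgp' : g ∉ p := hgp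
  let hY : D := w * algebraMap R D g
  have hgy : algebraMap R D g ∉ y := fun h => hgp' ((SetLike.ext_iff.1 (y.over_def p) g).2 h)
  have hYy : hY ∉ y := fun h => (‹y.IsPrime›.mem_or_mem h).elim hw hgy
  obtain ⟨a, ha⟩ := hSC (algebraMap D C w)
  let hX : S := u * a * algebraMap R S g
  let hZ : C := algebraMap S C hX
  have hZeq : hZ = algebraMap S C u * algebraMap D C hY := by
    show algebraMap S C hX = _
    rw [map_mul, map_mul, ha, ← IsScalarTower.algebraMap_apply R S C, map_mul, ← IsScalarTower.algebraMap_apply R D C,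
      mul_assoc]
  have hYz : algebraMap D C hY ∉ z := fun h => hYy ((SetLike.ext_iff.1 (z.over_def y) hY).2 h)
  have hUz : algebraMap S C u ∉ z := fun h => hu ((SetLike.ext_iff.1 (z.over_def q) u).2 h)
  have hZz : hZ ∉ z := by
    rw [hZeq]
    exact fun h => (‹z.IsPrime›.mem_or_mem h).elim hUz hYz
  have hXq : hX ∉ q := fun h => hZz ((SetLike.ext_iff.1 (z.over_def q) hX).1 h)
  let R₁ := Localization.Away g
  let S₁ := Localization.Away hX
  let C₁ := Localization.Away hZ
  let D₁ := Localization.Away hY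
  have huX : IsUnit (algebraMap S S₁ u) := by
    have h' : IsUnit (algebraMap S S₁ hX) := IsLocalization.Away.algebraMap_isUnit hX
    rw [map_mul, map_mul] at h'
    exact isUnit_of_mul_isUnit_left (isUnit_of_mul_isUnit_left h')
  have hgS : IsUnit (algebraMap R S₁ g) := by
    have h' : IsUnit (algebraMap S S₁ hX) := IsLocalization.Away.algebraMap_isUnit hX
    rw [map_mul, ← IsScalarTower.algebraMap_apply R S S₁] at h'
    exact isUnit_of_mul_isUnit_right h'
  have hYC : IsUnit (algebraMap D C₁ hY) := by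
    have h' : IsUnit (algebraMap C C₁ hZ) := IsLocalization.Away.algebraMap_isUnit hZ
    rw [show algebraMap C C₁ hZ = _ from congrArg (algebraMap C C₁) hZeq, map_mul,
      ← IsScalarTower.algebraMap_apply D C C₁] at h'
    exact isUnit_of_mul_isUnit_right h'
  have hgC : IsUnit (algebraMap R C₁ g) := by
    rw [IsScalarTower.algebraMap_apply R C C₁, IsScalarTower.algebraMap_apply R D C]
    rw [map_mul, ← IsScalarTower.algebraMap_apply R D C₁] at hYC
    rw [← IsScalarTower.algebraMap_apply D C C₁, ← IsScalarTower.algebraMap_apply R D C₁]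
    exact isUnit_of_mul_isUnit_right hYC
  have hgD : IsUnit (algebraMap R D₁ g) := by
    have h' : IsUnit (algebraMap D D₁ hY) := IsLocalization.Away.algebraMap_isUnit hY
    rw [map_mul, ← IsScalarTower.algebraMap_apply R D D₁] at h'
    exact isUnit_of_mul_isUnit_right h'
  have hXC : IsUnit (algebraMap S C₁ hX) := by
    rw [IsScalarTower.algebraMap_apply S C C₁]
    exact IsLocalization.Away.algebraMap_isUnit hZ
  letI : Algebra R₁ S₁ := (IsLocalization.Away.lift (S := R₁) g hgS).toAlgebra
  letI : Algebra R₁ C₁ := (IsLocalization.Away.lift (S := R₁) g hgC).toAlgebra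
  letI : Algebra R₁ D₁ := (IsLocalization.Away.lift (S := R₁) g hgD).toAlgebra
  letI : Algebra S₁ C₁ := (IsLocalization.Away.lift (S := S₁) hX hXC).toAlgebra
  letI : Algebra D₁ C₁ := (IsLocalization.Away.lift (S := D₁) hY hYC).toAlgebra
  haveI : IsScalarTower R R₁ S₁ := IsScalarTower.of_algebraMap_eq fun c =>
    (IsLocalization.Away.lift_eq (S := R₁) g hgS c).symm
  haveI : IsScalarTower R R₁ C₁ := IsScalarTower.of_algebraMap_eq fun c =>
    (IsLocalization.Away.lift_eq (S := R₁) g hgC c).symm
  haveI : IsScalarTower R R₁ D₁ := IsScalarTower.of_algebraMap_eq fun c =>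
    (IsLocalization.Away.lift_eq (S := R₁) g hgD c).symm
  haveI : IsScalarTower S S₁ C₁ := IsScalarTower.of_algebraMap_eq fun c =>
    (IsLocalization.Away.lift_eq (S := S₁) hX hXC c).symm
  haveI : IsScalarTower D D₁ C₁ := IsScalarTower.of_algebraMap_eq fun c =>
    (IsLocalization.Away.lift_eq (S := D₁) hY hYC c).symm
  haveI : IsScalarTower R₁ S₁ C₁ := IsScalarTower.of_algebraMap_eq' (IsLocalization.ringHom_ext (Submonoid.powers g)
    (RingHom.ext fun c => by
      show algebraMap R₁ C₁ (algebraMap R R₁ c) = algebraMap S₁ C₁ (algebraMap R₁ S₁ (algebraMap R R₁ c))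
      rw [← IsScalarTower.algebraMap_apply R R₁ C₁, ← IsScalarTower.algebraMap_apply R R₁ S₁,
        IsScalarTower.algebraMap_apply R S S₁, ← IsScalarTower.algebraMap_apply S S₁ C₁,
        ← IsScalarTower.algebraMap_apply R S C₁]))
  haveI : IsScalarTower R₁ D₁ C₁ := IsScalarTower.of_algebraMap_eq' (IsLocalization.ringHom_ext (Submonoid.powers g)
    (RingHom.ext fun c => by
      show algebraMap R₁ C₁ (algebraMap R R₁ c) = algebraMap D₁ C₁ (algebraMap R₁ D₁ (algebraMap R R₁ c))
      rw [← IsScalarTower.algebraMap_apply R R₁ C₁, ← IsScalarTower.algebraMap_apply R R₁ D₁,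
        IsScalarTower.algebraMap_apply R D D₁, ← IsScalarTower.algebraMap_apply D D₁ C₁,
        ← IsScalarTower.algebraMap_apply R D C₁]))
  letI : Module R₁ (LocalizedModule (Submonoid.powers hX) N) :=
    Module.compHom _ (algebraMap R₁ S₁)
  haveI : IsScalarTower R₁ S₁ (LocalizedModule (Submonoid.powers hX) N) :=
    IsScalarTower.of_algebraMap_smul fun _ _ => rfl
  letI : Module S₁ (LocalizedModule (Submonoid.powers hZ) G) := Module.compHom _ (algebraMap S₁ C₁)
  haveI : IsScalarTower S₁ C₁ (LocalizedModule (Submonoid.powers hZ) G) :=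
    IsScalarTower.of_algebraMap_smul fun _ _ => rfl
  -- the isomorphism
  let fN := LocalizedModule.mkLinearMap (Submonoid.powers hX) N
  let fG := LocalizedModule.mkLinearMap (Submonoid.powers hZ) G
  haveI : IsScalarTower S C₁ (LocalizedModule (Submonoid.powers hZ) G) := inferInstance
  haveI : IsScalarTower S S₁ (LocalizedModule (Submonoid.powers hZ) G) := IsScalarTower.of_algebraMap_smul fun c v => by
    show algebraMap S₁ C₁ (algebraMap S S₁ c) • v = c • v
    rw [← IsScalarTower.algebraMap_apply S S₁ C₁, algebraMap_smul]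
  haveI : IsScalarTower S C (LocalizedModule (Submonoid.powers hZ) G) := inferInstance
  haveI : IsLocalizedModule (Submonoid.powers hX) (fG.restrictScalars S) :=
    IsLocalizedModule.restrictScalars_powers hX fG
  haveI : IsLocalizedModule (Submonoid.powers hX) ((fG.restrictScalars S).comp eN.toLinearMap) :=
    IsLocalizedModule.of_linearEquiv_right _ _ eN
  let eS : LocalizedModule (Submonoid.powers hX) N ≃ₗ[S] LocalizedModule (Submonoid.powers hZ) G :=
    IsLocalizedModule.linearEquiv (Submonoid.powers hX) fN ((fG.restrictScalars S).comp eN.toLinearMap)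
  let e₁ := eS.extendScalarsOfIsLocalization (Submonoid.powers hX) S₁
  -- surjectivity and finiteness
  have hσ : Function.Surjective (algebraMap S₁ C₁) := fun v => by
    obtain ⟨⟨c, ⟨_, k, rfl⟩⟩, hc⟩ := IsLocalization.surj (Submonoid.powers hZ) v
    obtain ⟨s, rfl⟩ := hSC c
    obtain ⟨i, hi⟩ := ((IsLocalization.Away.algebraMap_isUnit (S := S₁) hX).pow k).exists_right_inv
    refine ⟨algebraMap S S₁ s * i, ?_⟩
    rw [map_mul, ← IsScalarTower.algebraMap_apply S S₁ C₁, IsScalarTower.algebraMap_apply S C C₁, ← hc, map_pow,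
      mul_assoc, show algebraMap C C₁ hZ = algebraMap S₁ C₁ (algebraMap S S₁ hX) by
        rw [← IsScalarTower.algebraMap_apply S S₁ C₁, IsScalarTower.algebraMap_apply S C C₁],
      ← map_pow (algebraMap S₁ C₁), ← map_mul, hi, map_one, mul_one]
  have hfp : Algebra.FinitePresentation S₁ C₁ := by
    haveI : Algebra.FinitePresentation C C₁ := IsLocalization.Away.finitePresentation hZ
    haveI : Algebra.FinitePresentation S C₁ := Algebra.FinitePresentation.trans S C C₁
    exact Algebra.FinitePresentation.of_restrict_scalars_finitePresentation S S₁ C₁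
  haveI : IsLocalization (Algebra.algebraMapSubmonoid C (Submonoid.powers hY)) C₁ := by
    rw [Algebra.algebraMapSubmonoid_powers]
    have hgood : hZ ∣ algebraMap D C hY ^ (m + 1) := by
      obtain ⟨c, hc⟩ := hdvd
      refine ⟨c * algebraMap D C (algebraMap R D g) ^ m, ?_⟩
      rw [hZeq, map_mul, pow_succ, mul_pow, hc]
      ring
    obtain ⟨e, he⟩ := hgood
    refine IsLocalization.Away.mk _ ?_ (fun v => ?_) (fun c d hcd => ?_)
    · rw [← IsScalarTower.algebraMap_apply D C C₁]
      exact hYC
    · obtain ⟨⟨c, ⟨_, k, rfl⟩⟩, hc⟩ := IsLocalization.surj (Submonoid.powers hZ) v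
      refine ⟨(m + 1) * k, c * e ^ k, ?_⟩
      rw [← map_pow, pow_mul, he, mul_pow, map_mul, map_mul, ← hc]
      ring
    · obtain ⟨k, hk⟩ := IsLocalization.Away.exists_of_eq hZ hcd
      refine ⟨(m + 1) * k, ?_⟩
      rw [pow_mul, he, mul_pow]
      linear_combination e ^ k * hk
  have hfinD : Module.Finite D₁ C₁ := Module.Finite.of_isLocalization D C (Submonoid.powers hY)
  have hfinG : Module.Finite C₁ (LocalizedModule (Submonoid.powers hZ) G) :=
    Module.Finite.of_isLocalizedModule (Submonoid.powers hZ) fG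
  -- smoothness
  have hsm₁ : FlatCA.SmoothRelDim n R₁ D₁ := GrothLib.RG6.Geom.smoothRelDim_of_localization g hY n hsm
  have hirr₁ : FlatCA.GeomIrredFibres R₁ D₁ := geomIrred_of_localization g hY hirr fun b => by
    obtain ⟨x, hxw, hx⟩ := hgIm (show PrimeSpectrum.comap (algebraMap R R₁) b ∈ (PrimeSpectrum.basicOpen g : Set _) from
      fun h' => b.2.ne_top (Ideal.eq_top_of_isUnit_mem _ h' (IsLocalization.Away.algebraMap_isUnit g)))
    have hxY : x ∈ Set.range (PrimeSpectrum.comap (algebraMap D D₁)) := by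
      rw [PrimeSpectrum.localization_away_comap_range D₁ hY]
      intro h'
      refine (x.2.mem_or_mem h').elim hxw fun h2 => ?_
      have h3 : g ∈ (PrimeSpectrum.comap (algebraMap R R₁) b).asIdeal := hx ▸ h2
      exact b.2.ne_top (Ideal.eq_top_of_isUnit_mem _ h3 (IsLocalization.Away.algebraMap_isUnit g))
    obtain ⟨x₁, rfl⟩ := hxY
    refine ⟨x₁, PrimeSpectrum.localization_comap_injective R₁ (Submonoid.powers g) ?_⟩
    rw [← hx, ← PrimeSpectrum.comap_comp_apply, ← PrimeSpectrum.comap_comp_apply, ← IsScalarTower.algebraMap_eq,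
      ← IsScalarTower.algebraMap_eq]
  -- primes
  have dp : Disjoint (Submonoid.powers g : Set R) ↑p := (Ideal.disjoint_powers_iff_notMem_of_isPrime _).2 hgp'
  have dq : Disjoint (Submonoid.powers hX : Set S) ↑q := (Ideal.disjoint_powers_iff_notMem_of_isPrime _).2 hXq
  have dy : Disjoint (Submonoid.powers hY : Set D) ↑y := (Ideal.disjoint_powers_iff_notMem_of_isPrime _).2 hYy
  have dz : Disjoint (Submonoid.powers hZ : Set C) ↑z := (Ideal.disjoint_powers_iff_notMem_of_isPrime _).2 hZz
  haveI : (p.map (algebraMap R R₁)).IsPrime := IsLocalization.isPrime_of_isPrime_disjoint _ _ p ‹_› dp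
  haveI : (q.map (algebraMap S S₁)).IsPrime := IsLocalization.isPrime_of_isPrime_disjoint _ _ q ‹_› dq
  haveI : (y.map (algebraMap D D₁)).IsPrime := IsLocalization.isPrime_of_isPrime_disjoint _ _ y ‹_› dy
  haveI : (z.map (algebraMap C C₁)).IsPrime := IsLocalization.isPrime_of_isPrime_disjoint _ _ z ‹_› dz
  have cp : (p.map (algebraMap R R₁)).comap (algebraMap R R₁) = p := IsLocalization.under_map_of_isPrime_disjoint _ _ ‹_› dp
  have cq : (q.map (algebraMap S S₁)).comap (algebraMap S S₁) = q := IsLocalization.under_map_of_isPrime_disjoint _ _ ‹_› dq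
  have cy : (y.map (algebraMap D D₁)).comap (algebraMap D D₁) = y := IsLocalization.under_map_of_isPrime_disjoint _ _ ‹_› dy
  have cz : (z.map (algebraMap C C₁)).comap (algebraMap C C₁) = z := IsLocalization.under_map_of_isPrime_disjoint _ _ ‹_› dz
  haveI hy₁p : (y.map (algebraMap D D₁)).LiesOver (p.map (algebraMap R R₁)) := ⟨by
    rw [← IsLocalization.map_under (Submonoid.powers g) R₁ ((y.map (algebraMap D D₁)).under R₁)]
    congr 1
    rw [Ideal.under, Ideal.under, Ideal.comap_comap, ← IsScalarTower.algebraMap_eq, IsScalarTower.algebraMap_eq R D D₁,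
      ← Ideal.comap_comap, cy]
    exact y.over_def p⟩
  have hz₁q : (z.map (algebraMap C C₁)).LiesOver (q.map (algebraMap S S₁)) := ⟨by
    rw [← IsLocalization.map_under (Submonoid.powers hX) S₁ ((z.map (algebraMap C C₁)).under S₁)]
    congr 1
    rw [Ideal.under, Ideal.under, Ideal.comap_comap, ← IsScalarTower.algebraMap_eq, IsScalarTower.algebraMap_eq S C C₁,
      ← Ideal.comap_comap, cz]
    exact z.over_def q⟩
  have hz₁y : (z.map (algebraMap C C₁)).LiesOver (y.map (algebraMap D D₁)) := ⟨by
    rw [← IsLocalization.map_under (Submonoid.powers hY) D₁ ((z.map (algebraMap C C₁)).under D₁)]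
    congr 1
    rw [Ideal.under, Ideal.under, Ideal.comap_comap, ← IsScalarTower.algebraMap_eq, IsScalarTower.algebraMap_eq D C C₁,
      ← Ideal.comap_comap, cz]
    exact z.over_def y⟩
  have huniq : ∀ (z₂ : Ideal C₁) [z₂.IsPrime], z₂.LiesOver (y.map (algebraMap D D₁)) → z₂ = z.map (algebraMap C C₁) := by
    intro z₂ _ hz₂
    rw [← IsLocalization.map_under (Submonoid.powers hZ) C₁ z₂]
    congr 1
    haveI : (z₂.under C).IsPrime := Ideal.IsPrime.comap _
    refine h3 _ ⟨?_⟩
    rw [← cy, hz₂.over]
    simp only [Ideal.under, Ideal.comap_comap, ← IsScalarTower.algebraMap_eq]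
  have hR₁ : FlatCA.IsEtaleNhd R R₁ p (p.map (algebraMap R R₁)) := isEtaleNhd_away R₁ g p _ cp
  have hS₁ : FlatCA.IsEtaleNhd S S₁ q (q.map (algebraMap S S₁)) := isEtaleNhd_away S₁ hX q _ cq
  have hD₁ : FlatCA.IsEtaleNhd D D₁ y (y.map (algebraMap D D₁)) := isEtaleNhd_away D₁ hY y _ cy
  haveI := hR₁.1; haveI := hS₁.1
  haveI := hR₁.2.choose; haveI := hS₁.2.choose
  have hpt₁ : FlatCA.PurelyTranscendental (p.map (algebraMap R R₁)) (y.map (algebraMap D D₁)) :=
    purelyTranscendental_map p y _ _ hR₁.2.choose hD₁.2.choose hR₁.2.choose_spec hD₁.2.choose_spec h4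
  -- the dimension
  obtain ⟨ξ, hξ, hξq, hξn⟩ := h1
  haveI hq₁p₁ : (q.map (algebraMap S S₁)).LiesOver (p.map (algebraMap R R₁)) := ⟨by
    rw [← IsLocalization.map_under (Submonoid.powers g) R₁ ((q.map (algebraMap S S₁)).under R₁)]
    congr 1
    rw [Ideal.under, Ideal.under, Ideal.comap_comap, ← IsScalarTower.algebraMap_eq, IsScalarTower.algebraMap_eq R S S₁,
      ← Ideal.comap_comap, cq]
    exact q.over_def p⟩
  obtain ⟨x₁, hx₁q, hx₁c⟩ := exists_fibre_prime (p.map (algebraMap R R₁)) (q.map (algebraMap S S₁))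
  obtain ⟨x', hx'q, hx'c⟩ := exists_fibre_prime p q
  obtain rfl : ξ = x' := PrimeSpectrum.ext (hξq.trans hx'q.symm)
  haveI : IsScalarTower S S₁ (LocalizedModule (Submonoid.powers hX) N) := inferInstance
  haveI : IsLocalization (Submonoid.powers hX) S₁ := inferInstance
  have hbc : IsBaseChange S₁ fN := (isLocalizedModule_iff_isBaseChange (Submonoid.powers hX) S₁ fN).1 inferInstance
  haveI : Module.Finite S₁ (LocalizedModule (Submonoid.powers hX) N) := Module.Finite.equiv hbc.equiv
  obtain ⟨hx₁, hdim⟩ := localDim_support_etale (R₁ := R₁) (S₁ := S₁) N (LocalizedModule (Submonoid.powers hX) N) fN hbc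
    p (p.map (algebraMap R R₁)) x₁ ξ (by
    rw [PrimeSpectrum.comap_asIdeal, PrimeSpectrum.comap_asIdeal, hx₁c, hx'c]
    exact cq) hξ
  rw [hξn] at hdim
  have hker : RingHom.ker (algebraMap S₁ C₁) ≤ Module.annihilator S₁ (LocalizedModule (Submonoid.powers hX) N) :=
    fun v hv => by
      refine Module.mem_annihilator.2 fun x => e₁.injective ?_
      rw [map_smul, map_zero, ← algebraMap_smul C₁ v (e₁ x), RingHom.mem_ker.1 hv, zero_smul]
  let π : C₁ →+* S₁ ⧸ Module.annihilator S₁ (LocalizedModule (Submonoid.powers hX) N) :=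
    RingHom.liftOfSurjective (algebraMap S₁ C₁) hσ ⟨Ideal.Quotient.mk _, by rw [Ideal.mk_ker]; exact hker⟩
  have hπ : ∀ v, π (algebraMap S₁ C₁ v) = Ideal.Quotient.mk _ v := fun v =>
    (algebraMap S₁ C₁).liftOfSurjective_comp_apply hσ _ v
  let φD : D₁ →ₐ[R₁] S₁ ⧸ Module.annihilator S₁ (LocalizedModule (Submonoid.powers hX) N) :=
    { π.comp (algebraMap D₁ C₁) with
      commutes' := fun c => by
        show π (algebraMap D₁ C₁ (algebraMap R₁ D₁ c)) = _
        rw [← IsScalarTower.algebraMap_apply R₁ D₁ C₁, IsScalarTower.algebraMap_apply R₁ S₁ C₁, hπ]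
        rfl }
  have hφD : φD.toRingHom.Finite :=
    RingHom.Finite.comp (RingHom.Finite.of_surjective π fun v => by
      obtain ⟨v, rfl⟩ := Ideal.Quotient.mk_surjective v
      exact ⟨_, hπ v⟩) (RingHom.finite_algebraMap.2 hfinD)
  exact ⟨g, hX, hZ, hgp', hXq, hZz, huX, inferInstance, inferInstance, inferInstance, inferInstance, inferInstance,
    inferInstance, inferInstance, inferInstance, inferInstance, inferInstance, inferInstance, inferInstance,
    inferInstance, inferInstance, inferInstance, inferInstance, inferInstance, inferInstance, hy₁p,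
    ⟨⟨e₁⟩, hσ, hfp, hfinD, hfinG, hsm₁, hirr₁,
      supportDim_fibre_eq (LocalizedModule (Submonoid.powers hX) N) _ n hsm₁ φD hφD ⟨x₁, hx₁⟩ hdim⟩,
    ⟨x₁, hx₁, hx₁q, hdim⟩, hz₁q, hz₁y, huniq, hpt₁⟩

end GrothLib.RG6.Dev
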