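import Mathlib
import Groth.Prelude.Def_FlatCA
import Groth.Agent.Lib.RG6.Dev.Step

/-!
# Auxiliary facts for shrinking complete dévissages
-/

set_option autoImplicit false
set_option linter.style.haveILetI false
set_option linter.unusedSectionVars false

universe u

open TensorProduct

namespace GrothLib.RG6.Dev

/-- An element outside the unique prime over `y` divides the image of an element outside `y`. -/
theorem exists_dvd_image {B A : Type u} [CommRing B] [CommRing A] [Algebra B A] [Module.Finite B A]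
    (y : Ideal B) [y.IsPrime] (z : Ideal A) (huniq : ∀ (Q : Ideal A) [Q.IsPrime], Q.LiesOver y → Q = z)
    (e : A) (he : e ∉ z) : ∃ c : B, c ∉ y ∧ e ∣ algebraMap B A c := by
  by_contra hcon
  have hle : (Ideal.span {e}).comap (algebraMap B A) ≤ y := fun c hc => by
    by_contra hy
    exact hcon ⟨c, hy, Ideal.mem_span_singleton.1 hc⟩
  haveI : Algebra.IsIntegral B A := Algebra.IsIntegral.of_finite B A
  obtain ⟨Q, hQle, hQ, hQy⟩ := Ideal.exists_ideal_over_prime_of_isIntegral y (Ideal.span {e}) hle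
  exact he (huniq Q ⟨hQy.symm⟩ ▸ hQle (Ideal.mem_span_singleton_self e))

section family

variable {R S : Type u} [CommRing R] [CommRing S] [Algebra R S] {N : Type u} [AddCommGroup N] [Module S N]
  {p : Ideal R} [p.IsPrime] {q : Ideal S} [q.IsPrime]
  (𝒟 : FlatCA.CompleteDevissage R S N p) (𝒜 : FlatCA.CompleteDevissageAt R S N p q 𝒟)

theorem image_notMem {i : ℕ} {c : 𝒟.B i} (hc : c ∉ 𝒜.qB i) :
    algebraMap (𝒟.B i) (𝒟.A i) c ∉ 𝒜.qA i := fun h =>
  hc ((SetLike.ext_iff.1 (@Ideal.over_def _ _ _ _ _ (𝒜.qA i) (𝒜.qB i) (𝒜.overA i)) c).2 h)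

theorem step_notMem {i : ℕ} (hi : i + 1 < 𝒟.n) {c : 𝒟.B i} (hc : c ∉ 𝒜.qB i) :
    algebraMap (𝒟.B i) (𝒟.A (i + 1)) c ∉ 𝒜.qA (i + 1) := fun h =>
  hc ((SetLike.ext_iff.1 (𝒜.qStep i hi) c).1 h)

/-- Going up: a chain of elements whose images divide each other, starting at a multiple of `e`. -/
theorem exists_chain_up (e : 𝒟.A 0) (he : e ∉ 𝒜.qA 0) :
    ∃ w : ∀ i, 𝒟.B i, (∀ i, w i ∉ 𝒜.qB i) ∧ e ∣ algebraMap (𝒟.B 0) (𝒟.A 0) (w 0) ∧
      ∀ i, i + 1 < 𝒟.n →
        algebraMap (𝒟.B i) (𝒟.A (i + 1)) (w i) ∣ algebraMap (𝒟.B (i + 1)) (𝒟.A (i + 1)) (w (i + 1)) := by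
  classical
  have step : ∀ i (e : 𝒟.A i), i < 𝒟.n → e ∉ 𝒜.qA i → ∃ c : 𝒟.B i, c ∉ 𝒜.qB i ∧ e ∣ algebraMap (𝒟.B i) (𝒟.A i) c :=
    fun i e hi he => by
      haveI := 𝒟.finiteBA i hi
      haveI := 𝒜.hqB i
      exact exists_dvd_image (𝒜.qB i) (𝒜.qA i) (fun Q hQ h => by haveI := hQ; exact 𝒜.uniq i hi Q h) e he
  obtain ⟨c₀, hc₀, hd₀⟩ := step 0 e 𝒟.pos he
  let nxt : ∀ i, {c : 𝒟.B i // c ∉ 𝒜.qB i} → {c : 𝒟.B (i + 1) // c ∉ 𝒜.qB (i + 1)} := fun i c =>
    if h : i + 1 < 𝒟.n then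
      ⟨(step (i + 1) _ h (step_notMem 𝒟 𝒜 h c.2)).choose, (step (i + 1) _ h (step_notMem 𝒟 𝒜 h c.2)).choose_spec.1⟩
    else ⟨1, fun h => (𝒜.hqB (i + 1)).ne_top ((Ideal.eq_top_iff_one _).2 h)⟩
  let w : ∀ i, {c : 𝒟.B i // c ∉ 𝒜.qB i} := fun i => Nat.rec (motive := fun i => {c : 𝒟.B i // c ∉ 𝒜.qB i}) ⟨c₀, hc₀⟩ nxt i
  refine ⟨fun i => (w i).1, fun i => (w i).2, hd₀, fun i hi => ?_⟩
  show _ ∣ algebraMap (𝒟.B (i + 1)) (𝒟.A (i + 1)) (nxt i (w i)).1
  simp only [nxt, dif_pos hi]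
  exact (step (i + 1) _ hi (step_notMem 𝒟 𝒜 hi (w i).2)).choose_spec.2

/-- Going down: elements with equal images, prescribed at the end, multiples of a given chain. -/
theorem exists_chain_down (w : ∀ i, 𝒟.B i)
    (hup : ∀ i, i + 1 < 𝒟.n →
      algebraMap (𝒟.B i) (𝒟.A (i + 1)) (w i) ∣ algebraMap (𝒟.B (i + 1)) (𝒟.A (i + 1)) (w (i + 1)))
    (last : 𝒟.B (𝒟.n - 1)) (hlast : last ∉ 𝒜.qB (𝒟.n - 1)) (hdvd : w (𝒟.n - 1) ∣ last) :
    ∃ c : ∀ i, 𝒟.B i, (∀ i, c i ∉ 𝒜.qB i) ∧ c (𝒟.n - 1) = last ∧ (∀ i, i < 𝒟.n → w i ∣ c i) ∧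
      ∀ i, i + 1 < 𝒟.n →
        algebraMap (𝒟.B i) (𝒟.A (i + 1)) (c i) = algebraMap (𝒟.B (i + 1)) (𝒟.A (i + 1)) (c (i + 1)) := by
  classical
  suffices h : ∀ j, ∃ c : ∀ i, 𝒟.B i, (∀ i, c i ∉ 𝒜.qB i) ∧ c (𝒟.n - 1) = last ∧
      (∀ i, i < 𝒟.n → 𝒟.n - 1 ≤ i + j → w i ∣ c i) ∧
      ∀ i, i + 1 < 𝒟.n → 𝒟.n - 1 ≤ i + j →
        algebraMap (𝒟.B i) (𝒟.A (i + 1)) (c i) = algebraMap (𝒟.B (i + 1)) (𝒟.A (i + 1)) (c (i + 1)) by
    obtain ⟨c, h1, h2, h3, h4⟩ := h 𝒟.n
    exact ⟨c, h1, h2, fun i hi => h3 i hi (by omega), fun i hi => h4 i hi (by omega)⟩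
  intro j
  induction j with
  | zero =>
    refine ⟨Function.update (fun i => (1 : 𝒟.B i)) (𝒟.n - 1) last, fun i => ?_, Function.update_self .., ?_, ?_⟩
    · by_cases h : i = 𝒟.n - 1
      · subst h; rw [Function.update_self]; exact hlast
      · rw [Function.update_of_ne h]; exact fun h' => (𝒜.hqB i).ne_top ((Ideal.eq_top_iff_one _).2 h')
    · intro i hi hj
      obtain rfl : i = 𝒟.n - 1 := by omega
      rw [Function.update_self]; exact hdvd
    · intro i hi hj; omega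
  | succ j ih =>
    obtain ⟨c, h1, h2, h3, h4⟩ := ih
    by_cases hj : 𝒟.n - 1 ≤ j
    · exact ⟨c, h1, h2, fun i hi _ => h3 i hi (by omega), fun i hi _ => h4 i hi (by omega)⟩
    let k := 𝒟.n - 2 - j
    have hk : k + 1 < 𝒟.n := by omega
    obtain ⟨ρ, hρ⟩ : algebraMap (𝒟.B k) (𝒟.A (k + 1)) (w k) ∣ algebraMap (𝒟.B (k + 1)) (𝒟.A (k + 1)) (c (k + 1)) :=
      (hup k hk).trans (map_dvd _ (h3 (k + 1) hk (by omega)))
    obtain ⟨l, hl⟩ := 𝒟.surjBA' k hk ρ
    have himg : algebraMap (𝒟.B k) (𝒟.A (k + 1)) (w k * l) = algebraMap (𝒟.B (k + 1)) (𝒟.A (k + 1)) (c (k + 1)) := by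
      rw [map_mul, hl, hρ]
    refine ⟨Function.update c k (w k * l), fun i => ?_, ?_, ?_, ?_⟩
    · by_cases h : i = k
      · subst h
        rw [Function.update_self]
        exact fun hmem => image_notMem 𝒟 𝒜 (h1 (k + 1)) (himg ▸ (SetLike.ext_iff.1 (𝒜.qStep k hk) _).2 hmem)
      · rw [Function.update_of_ne h]; exact h1 i
    · rw [Function.update_of_ne (by omega)]; exact h2
    · intro i hi hij
      by_cases h : i = k
      · subst h; rw [Function.update_self]; exact Dvd.intro _ rfl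
      · rw [Function.update_of_ne h]; exact h3 i hi (by omega)
    · intro i hi hij
      by_cases h : i = k
      · subst h
        rw [Function.update_self, Function.update_of_ne (by omega)]
        exact himg
      · rw [Function.update_of_ne h, Function.update_of_ne (by omega)]; exact h4 i hi (by omega)

end family

/-- A finitely presented quotient stays one after localising compatibly. -/
theorem surjective_fp_away {S C : Type u} [CommRing S] [CommRing C] [Algebra S C] (x : S)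
    (hs : Function.Surjective (algebraMap S C)) (hfp : Algebra.FinitePresentation S C)
    (S₁ C₁ : Type u) [CommRing S₁] [CommRing C₁] [Algebra S S₁] [Algebra C C₁] [IsLocalization.Away x S₁]
    [IsLocalization.Away (algebraMap S C x) C₁] [Algebra S₁ C₁] [Algebra S C₁] [IsScalarTower S S₁ C₁]
    [IsScalarTower S C C₁] : Function.Surjective (algebraMap S₁ C₁) ∧ Algebra.FinitePresentation S₁ C₁ := by
  refine ⟨fun v => ?_, ?_⟩
  · obtain ⟨⟨c, ⟨_, k, rfl⟩⟩, hc⟩ := IsLocalization.surj (Submonoid.powers (algebraMap S C x)) v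
    obtain ⟨s, rfl⟩ := hs c
    obtain ⟨i, hi⟩ := ((IsLocalization.Away.algebraMap_isUnit (S := S₁) x).pow k).exists_right_inv
    refine ⟨algebraMap S S₁ s * i, ?_⟩
    rw [map_mul, ← IsScalarTower.algebraMap_apply S S₁ C₁, IsScalarTower.algebraMap_apply S C C₁, ← hc, map_pow,
      mul_assoc, show algebraMap C C₁ (algebraMap S C x) = algebraMap S₁ C₁ (algebraMap S S₁ x) by
        rw [← IsScalarTower.algebraMap_apply S S₁ C₁, IsScalarTower.algebraMap_apply S C C₁],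
      ← map_pow (algebraMap S₁ C₁), ← map_mul, hi, map_one, mul_one]
  · haveI := hfp
    haveI : Algebra.FinitePresentation C C₁ := IsLocalization.Away.finitePresentation (algebraMap S C x)
    haveI : Algebra.FinitePresentation S C₁ := Algebra.FinitePresentation.trans S C C₁
    haveI : Algebra.FinitePresentation S S₁ := IsLocalization.Away.finitePresentation x
    exact Algebra.FinitePresentation.of_restrict_scalars_finitePresentation S S₁ C₁

variable {B A A' B' A₁' M M' M₂ M₂' : Type u} [CommRing B] [CommRing B'] [Algebra B B'] [AddCommGroup M] [AddCommGroup M']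
  [Module B M] [Module B' M']

/-- The range of a map given on generators. -/
theorem range_shrink [CommRing A] [Module A M] [Module A M'] {r : ℕ} (αo : (Fin r → B) →ₗ[B] M)
    (g : M →ₗ[A] M') (α : (Fin r → B') →ₗ[B'] M')
    (hα : ∀ c : Fin r → B', α c = ∑ j, c j • g (αo (Pi.single j 1)))
    (hsmul : ∀ (x : B) (m : M), g (x • m) = algebraMap B B' x • g m) :
    LinearMap.range α = Submodule.span B' (g '' (LinearMap.range αo : Set M)) := by
  classical
  refine le_antisymm ?_ (Submodule.span_le.2 ?_)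
  · rintro _ ⟨c, rfl⟩
    rw [hα]
    exact Submodule.sum_mem _ fun j _ => Submodule.smul_mem _ _ (Submodule.subset_span ⟨_, ⟨_, rfl⟩, rfl⟩)
  · rintro _ ⟨_, ⟨c, rfl⟩, rfl⟩
    refine ⟨fun j => algebraMap B B' (c j), ?_⟩
    rw [hα]
    conv_rhs => rw [pi_eq_sum_univ' c, map_sum, map_sum]
    exact Finset.sum_congr rfl fun j _ => by rw [map_smul, hsmul]

/-- The next module of a shrunken dévissage is the shrunken cokernel. -/
theorem nonempty_isoCoker [AddCommGroup M₂] [AddCommGroup M₂'] [Module B M'] [IsScalarTower B B' M']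
    [Module B M₂] [Module B M₂'] [Module B' M₂'] [IsScalarTower B B' M₂'] {r : ℕ} (αo : (Fin r → B) →ₗ[B] M)
    (e : (M ⧸ LinearMap.range αo) ≃ₗ[B] M₂) (g : M →ₗ[B] M') (hg : IsBaseChange B' g)
    (g₂ : M₂ →ₗ[B] M₂') (hg₂ : IsBaseChange B' g₂) (α : (Fin r → B') →ₗ[B'] M')
    (hα : ∀ c : Fin r → B', α c = ∑ j, c j • g (αo (Pi.single j 1))) :
    Nonempty ((M' ⧸ LinearMap.range α) ≃ₗ[B'] M₂') := by
  classical
  obtain ⟨f₃, hf₃⟩ := isBaseChange_coker g hg fun j => αo (Pi.single j 1)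
  have hαo : Fintype.linearCombination B (fun j => αo (Pi.single j 1)) = αo := LinearMap.ext fun c => by
    conv_rhs => rw [pi_eq_sum_univ' c, map_sum]
    simp [Fintype.linearCombination_apply]
  have hα' : α = Fintype.linearCombination B' (g ∘ fun j => αo (Pi.single j 1)) := LinearMap.ext fun c => by
    simp [hα, Fintype.linearCombination_apply]
  let e' : (M ⧸ LinearMap.range (Fintype.linearCombination B fun j => αo (Pi.single j 1))) ≃ₗ[B] M₂ :=
    (Submodule.quotEquivOfEq _ _ (by rw [hαo])).trans e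
  have h2 : IsBaseChange B' (g₂.comp e'.toLinearMap) := (IsBaseChange.ofEquiv e').comp hg₂
  exact ⟨(Submodule.quotEquivOfEq _ _ (by rw [hα'])).trans (hf₃.equiv.symm.trans h2.equiv)⟩

end GrothLib.RG6.Dev
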