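import Mathlib
import Groth.Prelude.Def_FlatCA
import Groth.Agent.Lib.RG6.Dev.Shrink
import Groth.Agent.Lib.RG6.Dev.Step

/-!
# Standard shrinking of one index of a complete dévissage
-/

set_option autoImplicit false
set_option linter.style.haveILetI false
set_option linter.unusedSectionVars false
set_option maxHeartbeats 1000000

universe u

open TensorProduct

namespace GrothLib.RG6.Dev

variable {R S : Type u} [CommRing R] [CommRing S] [Algebra R S] {N : Type u} [AddCommGroup N] [Module S N]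
  {p : Ideal R} [p.IsPrime] {q : Ideal S} [q.IsPrime] {g : R} {p₁ : Ideal (Localization.Away g)} [p₁.IsPrime]

/-- The localisation data relating a shrunken index to the original one. -/
structure ShrinkData (𝒟 : FlatCA.CompleteDevissage R S N p) (𝒜 : FlatCA.CompleteDevissageAt R S N p q 𝒟)
    (b : ∀ i, 𝒟.B i) (i : ℕ) {A B M : Type u} [CommRing A] [CommRing B] [Algebra (Localization.Away g) A]
    [Algebra (Localization.Away g) B] [Algebra B A] [AddCommGroup M] [Module A M] [Module B M]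
    (r : ℕ) (α : (Fin r → B) →ₗ[B] M) (qA : Ideal A) (qB : Ideal B) : Type u where
  hr : r = 𝒟.r i
  [aA : Algebra (𝒟.A i) A]
  [aB : Algebra (𝒟.B i) B]
  eRA : ∀ x : R, algebraMap (Localization.Away g) A (algebraMap R _ x) = algebraMap (𝒟.A i) A (algebraMap R _ x)
  eRB : ∀ x : R, algebraMap (Localization.Away g) B (algebraMap R _ x) = algebraMap (𝒟.B i) B (algebraMap R _ x)
  eBA : ∀ x, algebraMap B A (algebraMap (𝒟.B i) B x) = algebraMap (𝒟.A i) A (algebraMap (𝒟.B i) (𝒟.A i) x)
  locA : IsLocalization.Away (algebraMap (𝒟.B i) (𝒟.A i) (b i)) A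
  locB : IsLocalization.Away (b i) B
  [mA : Module (𝒟.A i) M]
  tAM : IsScalarTower (𝒟.A i) A M
  gM : 𝒟.M i →ₗ[𝒟.A i] M
  locM : IsLocalizedModule (Submonoid.powers (algebraMap (𝒟.B i) (𝒟.A i) (b i))) gM
  hα : ∀ c : Fin r → B, α c = ∑ j, c j • gM (𝒟.α i (Pi.single (Fin.cast hr j) 1))
  hqA : qA.comap (algebraMap (𝒟.A i) A) = 𝒜.qA i
  hqB : qB.comap (algebraMap (𝒟.B i) B) = 𝒜.qB i

/-- A shrunken index. -/
structure ShrinkPiece (𝒟 : FlatCA.CompleteDevissage R S N p) (𝒜 : FlatCA.CompleteDevissageAt R S N p q 𝒟)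
    (b : ∀ i, 𝒟.B i) (p₁ : Ideal (Localization.Away g)) [p₁.IsPrime] (X : Type u) [CommRing X]
    [Algebra (Localization.Away g) X] (i : ℕ) : Type (u + 1) where
  A : Type u
  B : Type u
  M : Type u
  [cA : CommRing A] [cB : CommRing B] [aRA : Algebra (Localization.Away g) A]
  [aRB : Algebra (Localization.Away g) B] [aBA : Algebra B A]
  [tRBA : IsScalarTower (Localization.Away g) B A] [gGrp : AddCommGroup M] [mAM : Module A M] [mBM : Module B M]
  [tBAM : IsScalarTower B A M] [mRM : Module (Localization.Away g) M] [tRBM : IsScalarTower (Localization.Away g) B M]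
  [hp : (p₁.map (algebraMap (Localization.Away g) B)).IsPrime]
  α : (Fin (𝒟.r i) → B) →ₗ[B] M
  qB : Ideal B
  qA : Ideal A
  [hqB : qB.IsPrime] [hqA : qA.IsPrime] [overB : qB.LiesOver p₁] [overA : qA.LiesOver qB]
  finiteBA : i < 𝒟.n → Module.Finite B A
  smooth : i < 𝒟.n → Algebra.Smooth (Localization.Away g) B
  geomIrred : i < 𝒟.n → FlatCA.GeomIrredFibres (Localization.Away g) B
  finiteM : i < 𝒟.n → Module.Finite A M
  fibreIso : i < 𝒟.n → Function.Bijective (α.baseChange (p₁.map (algebraMap (Localization.Away g) B)).ResidueField)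
  pureTrans : i < 𝒟.n → FlatCA.PurelyTranscendental p₁ qB
  uniq : i < 𝒟.n → ∀ (Q : Ideal A) [Q.IsPrime], Q.LiesOver qB → Q = qA
  relDim : i < 𝒟.n → FlatCA.SmoothRelDim (𝒜.d i) (Localization.Away g) B
  locDim : i < 𝒟.n → ∃ (x : PrimeSpectrum (p₁.Fiber B))
    (hx : x ∈ Module.support (p₁.Fiber B) (FlatCA.fiberMod p₁ B M)),
    x.asIdeal = FlatCA.fiberIdeal p₁ qB ∧
    FlatMor.localDim (Module.support (p₁.Fiber B) (FlatCA.fiberMod p₁ B M)) ⟨x, hx⟩ = 𝒜.d i
  toX : 𝒟.n ≤ i + 1 → B →ₐ[Localization.Away g] X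
  fromX : 𝒟.n ≤ i → X →ₐ[Localization.Away g] A
  data : i < 𝒟.n → ShrinkData (g := g) 𝒟 𝒜 b i (𝒟.r i) α qA qB

attribute [instance] ShrinkPiece.cA ShrinkPiece.cB ShrinkPiece.aRA ShrinkPiece.aRB ShrinkPiece.aBA ShrinkPiece.tRBA
  ShrinkPiece.gGrp ShrinkPiece.mAM ShrinkPiece.mBM ShrinkPiece.tBAM ShrinkPiece.mRM ShrinkPiece.tRBM ShrinkPiece.hp
  ShrinkPiece.hqB ShrinkPiece.hqA ShrinkPiece.overB ShrinkPiece.overA

variable (𝒟 : FlatCA.CompleteDevissage R S N p) (𝒜 : FlatCA.CompleteDevissageAt R S N p q 𝒟)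
  (b : ∀ i, 𝒟.B i)

/-- The two structures of algebra over the shrunken base on the same ring agree. -/
theorem nonempty_toX {R S : Type u} [CommRing R] [CommRing S] [Algebra R S] {N : Type u} [AddCommGroup N] [Module S N]
    {p : Ideal R} [p.IsPrime] {g : R} (𝒟 : FlatCA.CompleteDevissage R S N p) (b : ∀ i, 𝒟.B i) (i j : ℕ)
    (hij : i = j) [I₁ : Algebra (Localization.Away g) (Localization.Away (b i))]
    [IsScalarTower R (Localization.Away g) (Localization.Away (b i))]
    [I₂ : Algebra (Localization.Away g) (Localization.Away (b j))]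
    [IsScalarTower R (Localization.Away g) (Localization.Away (b j))] :
    Nonempty (Localization.Away (b i) →ₐ[Localization.Away g] Localization.Away (b j)) := by
  subst hij
  have h₁ : ∀ z : R, @algebraMap _ _ _ _ I₁ (algebraMap R (Localization.Away g) z) = algebraMap R (Localization.Away (b i)) z :=
    fun z => by
      letI := I₁
      exact (IsScalarTower.algebraMap_apply R (Localization.Away g) (Localization.Away (b i)) z).symm
  have h₂ : ∀ z : R, @algebraMap _ _ _ _ I₂ (algebraMap R (Localization.Away g) z) = algebraMap R (Localization.Away (b i)) z :=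
    fun z => by
      letI := I₂
      exact (IsScalarTower.algebraMap_apply R (Localization.Away g) (Localization.Away (b i)) z).symm
  have e : @algebraMap _ _ _ _ I₁ = @algebraMap _ _ _ _ I₂ :=
    IsLocalization.ringHom_ext (Submonoid.powers g) (RingHom.ext fun z => (h₁ z).trans (h₂ z).symm)
  cases Algebra.algebra_ext I₁ I₂ fun r => RingHom.congr_fun e r
  exact ⟨AlgHom.id _ _⟩

/-- The shrinking at one index. -/
theorem exists_shrinkPiece (hg : g ∉ p) (hp₁ : p₁ = p.map (algebraMap R (Localization.Away g)))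
    (c : ∀ i, 𝒟.B i) (hb : ∀ i, b i = c i * algebraMap R (𝒟.B i) g) (hc : ∀ i, c i ∉ 𝒜.qB i)
    (hIm : ∀ i, i < 𝒟.n → (PrimeSpectrum.basicOpen g : Set (PrimeSpectrum R)) ⊆
      PrimeSpectrum.comap (algebraMap R (𝒟.B i)) '' (PrimeSpectrum.basicOpen (c i) : Set _))
    [Algebra (Localization.Away g) (Localization.Away (b (𝒟.n - 1)))]
    [IsScalarTower R (Localization.Away g) (Localization.Away (b (𝒟.n - 1)))] (i : ℕ) :
    Nonempty (ShrinkPiece 𝒟 𝒜 b p₁ (Localization.Away (b (𝒟.n - 1))) i) := by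
  classical
  subst hp₁
  let R₁ := Localization.Away g
  have dp : Disjoint (Submonoid.powers g : Set R) ↑p := (Ideal.disjoint_powers_iff_notMem_of_isPrime _).2 hg
  have cp : (p.map (algebraMap R R₁)).comap (algebraMap R R₁) = p :=
    IsLocalization.under_map_of_isPrime_disjoint _ _ ‹_› dp
  haveI := 𝒜.hqB; haveI := 𝒜.hqA; haveI := 𝒜.overB; haveI := 𝒜.overA
  have hgqB : ∀ j, algebraMap R (𝒟.B j) g ∉ 𝒜.qB j := fun j h =>
    hg ((SetLike.ext_iff.1 ((𝒜.qB j).over_def p) g).2 h)
  have hbq : ∀ j, b j ∉ 𝒜.qB j := fun j h => by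
    rw [hb j] at h
    exact ((𝒜.hqB j).mem_or_mem h).elim (hc j) (hgqB j)
  -- primes of localisations
  have hq₁ : ∀ (j : ℕ) (B₁ : Type u) [CommRing B₁] [Algebra (𝒟.B j) B₁] [IsLocalization.Away (b j) B₁] [Algebra R B₁]
      [IsScalarTower R (𝒟.B j) B₁] [Algebra R₁ B₁] [IsScalarTower R R₁ B₁],
      ((𝒜.qB j).map (algebraMap (𝒟.B j) B₁)).IsPrime ∧
      ((𝒜.qB j).map (algebraMap (𝒟.B j) B₁)).comap (algebraMap (𝒟.B j) B₁) = 𝒜.qB j ∧
      ((𝒜.qB j).map (algebraMap (𝒟.B j) B₁)).LiesOver (p.map (algebraMap R R₁)) ∧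
      ((p.map (algebraMap R R₁)).map (algebraMap R₁ B₁)).IsPrime ∧
      ((p.map (algebraMap R R₁)).map (algebraMap R₁ B₁)).comap (algebraMap (𝒟.B j) B₁) =
        p.map (algebraMap R (𝒟.B j)) := by
    intro j B₁ _ _ _ _ _ _ _
    have d1 : Disjoint (Submonoid.powers (b j) : Set (𝒟.B j)) ↑(𝒜.qB j) :=
      (Ideal.disjoint_powers_iff_notMem_of_isPrime _).2 (hbq j)
    have hle : p.map (algebraMap R (𝒟.B j)) ≤ 𝒜.qB j :=
      Ideal.map_le_iff_le_comap.2 ((𝒜.qB j).over_def p).le
    have d2 : Disjoint (Submonoid.powers (b j) : Set (𝒟.B j)) ↑(p.map (algebraMap R (𝒟.B j))) :=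
      d1.mono_right hle
    have c1 : ((𝒜.qB j).map (algebraMap (𝒟.B j) B₁)).comap (algebraMap (𝒟.B j) B₁) = 𝒜.qB j :=
      IsLocalization.under_map_of_isPrime_disjoint (Submonoid.powers (b j)) _ (𝒜.hqB j) d1
    have e : (p.map (algebraMap R R₁)).map (algebraMap R₁ B₁) =
        (p.map (algebraMap R (𝒟.B j))).map (algebraMap (𝒟.B j) B₁) := by
      rw [Ideal.map_map, Ideal.map_map, ← IsScalarTower.algebraMap_eq, ← IsScalarTower.algebraMap_eq]
    refine ⟨IsLocalization.isPrime_of_isPrime_disjoint (Submonoid.powers (b j)) _ _ (𝒜.hqB j) d1, c1, ⟨?_⟩,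
      e ▸ IsLocalization.isPrime_of_isPrime_disjoint (Submonoid.powers (b j)) _ _ (𝒟.hp j) d2,
      e ▸ IsLocalization.under_map_of_isPrime_disjoint (Submonoid.powers (b j)) _ (𝒟.hp j) d2⟩
    rw [← IsLocalization.map_under (Submonoid.powers g) R₁ (((𝒜.qB j).map (algebraMap (𝒟.B j) B₁)).under R₁)]
    congr 1
    rw [Ideal.under, Ideal.under, Ideal.comap_comap, ← IsScalarTower.algebraMap_eq,
      IsScalarTower.algebraMap_eq R (𝒟.B j) B₁, ← Ideal.comap_comap, c1]
    exact (𝒜.qB j).over_def p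
  rcases Nat.lt_or_ge i 𝒟.n with hi | hi
  swap
  · -- indices beyond the length
    let X := Localization.Away (b (𝒟.n - 1))
    obtain ⟨h1, -, h3, h4, -⟩ := hq₁ (𝒟.n - 1) X
    exact ⟨{
      A := X
      B := X
      M := X
      α := 0
      qB := (𝒜.qB (𝒟.n - 1)).map (algebraMap (𝒟.B (𝒟.n - 1)) X)
      qA := (𝒜.qB (𝒟.n - 1)).map (algebraMap (𝒟.B (𝒟.n - 1)) X)
      hp := h4
      hqB := h1
      hqA := h1
      overB := h3
      overA := ⟨(Ideal.comap_id _).symm⟩
      finiteBA := fun h => absurd h (not_lt.2 hi)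
      smooth := fun h => absurd h (not_lt.2 hi)
      geomIrred := fun h => absurd h (not_lt.2 hi)
      finiteM := fun h => absurd h (not_lt.2 hi)
      fibreIso := fun h => absurd h (not_lt.2 hi)
      pureTrans := fun h => absurd h (not_lt.2 hi)
      uniq := fun h => absurd h (not_lt.2 hi)
      relDim := fun h => absurd h (not_lt.2 hi)
      locDim := fun h => absurd h (not_lt.2 hi)
      toX := fun _ => AlgHom.id _ _
      fromX := fun _ => AlgHom.id _ _
      data := fun h => absurd h (not_lt.2 hi) }⟩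
  let A := 𝒟.A i
  let B := 𝒟.B i
  let M := 𝒟.M i
  let a : A := algebraMap B A (b i)
  let A₁ := Localization.Away a
  let B₁ := Localization.Away (b i)
  let M₁ := LocalizedModule (Submonoid.powers a) M
  have hgA : IsUnit (algebraMap R A₁ g) := by
    have h' : IsUnit (algebraMap A A₁ a) := IsLocalization.Away.algebraMap_isUnit a
    have e : algebraMap A A₁ a = algebraMap A A₁ (algebraMap B A (c i)) * algebraMap R A₁ g := by
      rw [IsScalarTower.algebraMap_apply R A A₁, ← map_mul, IsScalarTower.algebraMap_apply R B A, ← map_mul, ← hb]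
    rw [e] at h'
    exact isUnit_of_mul_isUnit_right h'
  have hgB : IsUnit (algebraMap R B₁ g) := by
    have h' : IsUnit (algebraMap B B₁ (b i)) := IsLocalization.Away.algebraMap_isUnit (b i)
    have e : algebraMap B B₁ (b i) = algebraMap B B₁ (c i) * algebraMap R B₁ g := by
      rw [IsScalarTower.algebraMap_apply R B B₁, ← map_mul, ← hb]
    rw [e] at h'
    exact isUnit_of_mul_isUnit_right h'
  have hbA : IsUnit (algebraMap B A₁ (b i)) := by
    rw [IsScalarTower.algebraMap_apply B A A₁]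
    exact IsLocalization.Away.algebraMap_isUnit a
  letI : Algebra R₁ A₁ := (IsLocalization.Away.lift (S := R₁) g hgA).toAlgebra
  letI : Algebra R₁ B₁ := (IsLocalization.Away.lift (S := R₁) g hgB).toAlgebra
  letI : Algebra B₁ A₁ := (IsLocalization.Away.lift (S := B₁) (b i) hbA).toAlgebra
  haveI : IsScalarTower R R₁ A₁ := IsScalarTower.of_algebraMap_eq fun x =>
    (IsLocalization.Away.lift_eq (S := R₁) g hgA x).symm
  haveI : IsScalarTower R R₁ B₁ := IsScalarTower.of_algebraMap_eq fun x =>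
    (IsLocalization.Away.lift_eq (S := R₁) g hgB x).symm
  haveI : IsScalarTower B B₁ A₁ := IsScalarTower.of_algebraMap_eq fun x =>
    (IsLocalization.Away.lift_eq (S := B₁) (b i) hbA x).symm
  haveI : IsScalarTower R₁ B₁ A₁ := IsScalarTower.of_algebraMap_eq' (IsLocalization.ringHom_ext (Submonoid.powers g)
    (RingHom.ext fun x => by
      show algebraMap R₁ A₁ (algebraMap R R₁ x) = algebraMap B₁ A₁ (algebraMap R₁ B₁ (algebraMap R R₁ x))
      rw [← IsScalarTower.algebraMap_apply R R₁ A₁, ← IsScalarTower.algebraMap_apply R R₁ B₁,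
        IsScalarTower.algebraMap_apply R B B₁, ← IsScalarTower.algebraMap_apply B B₁ A₁,
        ← IsScalarTower.algebraMap_apply R B A₁]))
  letI : Module B₁ M₁ := Module.compHom _ (algebraMap B₁ A₁)
  haveI : IsScalarTower B₁ A₁ M₁ := IsScalarTower.of_algebraMap_smul fun _ _ => rfl
  letI : Module R₁ M₁ := Module.compHom _ (algebraMap R₁ B₁)
  haveI : IsScalarTower R₁ B₁ M₁ := IsScalarTower.of_algebraMap_smul fun _ _ => rfl
  let f := LocalizedModule.mkLinearMap (Submonoid.powers a) M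
  haveI : IsScalarTower B A M₁ := inferInstance
  haveI : IsScalarTower B B₁ M₁ := IsScalarTower.of_algebraMap_smul fun x v => by
    show algebraMap B₁ A₁ (algebraMap B B₁ x) • v = x • v
    rw [← IsScalarTower.algebraMap_apply B B₁ A₁, algebraMap_smul]
  haveI : IsLocalizedModule (Submonoid.powers (b i)) (f.restrictScalars B) :=
    IsLocalizedModule.restrictScalars_powers (b i) f
  have hbc : IsBaseChange B₁ (f.restrictScalars B) :=
    (isLocalizedModule_iff_isBaseChange (Submonoid.powers (b i)) B₁ (f.restrictScalars B)).1 inferInstance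
  haveI := 𝒟.finiteBA i hi
  haveI := 𝒟.finiteM i hi
  haveI : Module.Finite B M := Module.Finite.trans A M
  haveI : IsLocalization (Algebra.algebraMapSubmonoid A (Submonoid.powers (b i))) A₁ := by
    rw [Algebra.algebraMapSubmonoid_powers]; infer_instance
  obtain ⟨hq1, hcq, hq3, hp4, hpc⟩ := hq₁ i B₁
  have haA : a ∉ 𝒜.qA i := fun h => hbq i ((SetLike.ext_iff.1 ((𝒜.qA i).over_def (𝒜.qB i)) (b i)).2 h)
  have da : Disjoint (Submonoid.powers a : Set A) ↑(𝒜.qA i) := (Ideal.disjoint_powers_iff_notMem_of_isPrime _).2 haA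
  haveI hA1p : ((𝒜.qA i).map (algebraMap A A₁)).IsPrime :=
    IsLocalization.isPrime_of_isPrime_disjoint _ _ _ (𝒜.hqA i) da
  have ca : ((𝒜.qA i).map (algebraMap A A₁)).comap (algebraMap A A₁) = 𝒜.qA i :=
    IsLocalization.under_map_of_isPrime_disjoint _ _ (𝒜.hqA i) da
  haveI := hq1; haveI := hq3; haveI := hp4
  let qB₁ := (𝒜.qB i).map (algebraMap B B₁)
  let qA₁ := (𝒜.qA i).map (algebraMap A A₁)
  haveI hover : qA₁.LiesOver qB₁ := ⟨by
    rw [← IsLocalization.map_under (Submonoid.powers (b i)) B₁ (qA₁.under B₁)]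
    refine congrArg (Ideal.map _) ?_
    rw [Ideal.under, Ideal.under, Ideal.comap_comap, ← IsScalarTower.algebraMap_eq,
      IsScalarTower.algebraMap_eq B A A₁, ← Ideal.comap_comap, ca]
    exact (𝒜.qA i).over_def (𝒜.qB i)⟩
  have huniq : ∀ (Q : Ideal A₁) [Q.IsPrime], Q.LiesOver qB₁ → Q = qA₁ := by
    intro Q _ hQ
    rw [← IsLocalization.map_under (Submonoid.powers a) A₁ Q]
    refine congrArg (Ideal.map _) ?_
    haveI : (Q.under A).IsPrime := Ideal.IsPrime.comap _
    refine 𝒜.uniq i hi _ ⟨?_⟩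
    rw [← hcq, show (𝒜.qB i).map (algebraMap B B₁) = qB₁ from rfl, hQ.over]
    simp only [Ideal.under, Ideal.comap_comap, ← IsScalarTower.algebraMap_eq]
    exact congrArg (fun φ => Ideal.comap φ Q) (IsScalarTower.algebraMap_eq B A A₁)
  have hR₁ : FlatCA.IsEtaleNhd R R₁ p (p.map (algebraMap R R₁)) := isEtaleNhd_away R₁ g p _ cp
  have hB₁ : FlatCA.IsEtaleNhd B B₁ (𝒜.qB i) qB₁ := isEtaleNhd_away B₁ (b i) (𝒜.qB i) _ hcq
  haveI := hR₁.1; haveI := hB₁.1; haveI := hR₁.2.choose
  have hsm := GrothLib.RG6.Geom.smoothRelDim_of_localization (R₀ := R₁) (D₁ := B₁) g (b i) _ (𝒜.relDim i hi)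
  have hirr : FlatCA.GeomIrredFibres R₁ B₁ := geomIrred_of_localization g (b i) (𝒟.geomIrred i hi) fun y => by
    obtain ⟨x, hxw, hx⟩ := hIm i hi (show PrimeSpectrum.comap (algebraMap R R₁) y ∈ (PrimeSpectrum.basicOpen g : Set _) from
      fun h' => y.2.ne_top (Ideal.eq_top_of_isUnit_mem _ h' (IsLocalization.Away.algebraMap_isUnit g)))
    have hxY : x ∈ Set.range (PrimeSpectrum.comap (algebraMap B B₁)) := by
      rw [PrimeSpectrum.localization_away_comap_range B₁ (b i)]
      intro h'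
      rw [hb i] at h'
      refine (x.2.mem_or_mem h').elim hxw fun h2 => ?_
      have h3 : g ∈ (PrimeSpectrum.comap (algebraMap R R₁) y).asIdeal := hx ▸ h2
      exact y.2.ne_top (Ideal.eq_top_of_isUnit_mem _ h3 (IsLocalization.Away.algebraMap_isUnit g))
    obtain ⟨x₁, rfl⟩ := hxY
    refine ⟨x₁, PrimeSpectrum.localization_comap_injective R₁ (Submonoid.powers g) ?_⟩
    rw [← hx, ← PrimeSpectrum.comap_comp_apply, ← PrimeSpectrum.comap_comp_apply, ← IsScalarTower.algebraMap_eq,
      ← IsScalarTower.algebraMap_eq]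
  let v : Fin (𝒟.r i) → M := fun j => 𝒟.α i (Pi.single j 1)
  let α₁ : (Fin (𝒟.r i) → B₁) →ₗ[B₁] M₁ := Fintype.linearCombination B₁ ((f.restrictScalars B) ∘ v)
  let ξ := p.map (algebraMap R B)
  haveI : ξ.IsPrime := 𝒟.hp i
  let bas := (Algebra.TensorProduct.basis ξ.ResidueField (Pi.basisFun B (Fin (𝒟.r i)))).map
    (LinearEquiv.ofBijective _ (𝒟.fibreIso i hi))
  have hbas : ∀ j, bas j = (1 : ξ.ResidueField) ⊗ₜ v j := fun j => by simp [bas, v]; rfl
  have hfib := (bijective_fibre_map (f.restrictScalars B) hbc ξ _ hpc v bas hbas).1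
  obtain ⟨x, hx, hxq, hxd⟩ := 𝒜.locDim i hi
  obtain ⟨x₁, hx₁q, hx₁c⟩ := exists_fibre_prime (p.map (algebraMap R R₁)) qB₁
  obtain ⟨x', hx'q, hx'c⟩ := exists_fibre_prime p (𝒜.qB i)
  obtain rfl : x = x' := PrimeSpectrum.ext (hxq.trans hx'q.symm)
  obtain ⟨hx₁, hdim⟩ := localDim_support_etale (R₁ := R₁) (S₁ := B₁) M M₁ (f.restrictScalars B) hbc
    p (p.map (algebraMap R R₁)) x₁ x (by
    rw [PrimeSpectrum.comap_asIdeal, PrimeSpectrum.comap_asIdeal, hx₁c, hx'c]
    exact hcq) hx
  exact ⟨{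
    A := A₁
    B := B₁
    M := M₁
    α := α₁
    qB := qB₁
    qA := qA₁
    finiteBA := fun _ => Module.Finite.of_isLocalization B A (Submonoid.powers (b i))
    smooth := fun _ => GrothLib.RG6.Geom.smooth_of_smoothRelDim hsm
    geomIrred := fun _ => hirr
    finiteM := fun _ => Module.Finite.of_isLocalizedModule (Submonoid.powers a) f
    fibreIso := fun _ => hfib
    pureTrans := fun _ => purelyTranscendental_map p (𝒜.qB i) _ _ hR₁.2.choose hB₁.2.choose hR₁.2.choose_spec
      hB₁.2.choose_spec (𝒜.pureTrans i hi)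
    uniq := fun _ => huniq
    relDim := fun _ => hsm
    locDim := fun _ => ⟨x₁, hx₁, hx₁q, hdim.trans hxd⟩
    toX := fun h => (nonempty_toX 𝒟 b (g := g) i (𝒟.n - 1) (by omega)).some
    fromX := fun h => absurd hi (not_lt.2 h)
    data := fun _ =>
      { hr := rfl
        eRA := fun z => by
          rw [← IsScalarTower.algebraMap_apply R R₁ A₁, ← IsScalarTower.algebraMap_apply R A A₁]
        eRB := fun z => by
          rw [← IsScalarTower.algebraMap_apply R R₁ B₁, ← IsScalarTower.algebraMap_apply R B B₁]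
        eBA := fun z => by
          rw [← IsScalarTower.algebraMap_apply B B₁ A₁, ← IsScalarTower.algebraMap_apply B A A₁]
        locA := inferInstance
        locB := inferInstance
        tAM := inferInstance
        gM := f
        locM := inferInstance
        hα := fun e => by simp [α₁, v, Fintype.linearCombination_apply]
        hqA := ca
        hqB := hcq } }⟩

end GrothLib.RG6.Dev
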