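import Mathlib
import Groth.Prelude.Def_FlatCA
import Groth.Agent.Lib.RG6.Dev.ShrinkStep
import Groth.Agent.Lib.RG6.Dev.ShrinkAux

/-!
# Standard shrinkings of complete dévissages
-/

set_option autoImplicit false
set_option linter.style.haveILetI false
set_option linter.unusedSectionVars false
set_option maxHeartbeats 2000000
set_option synthInstance.maxHeartbeats 100000

universe u

open TensorProduct

namespace GrothLib.RG6.Dev

variable (R S : Type u) [CommRing R] [CommRing S] [Algebra R S] [Algebra.FiniteType R S]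
  (N : Type u) [AddCommGroup N] [Module S N] [Module.Finite S N]
  (p : Ideal R) [p.IsPrime] (q : Ideal S) [q.IsPrime] (𝒟 : FlatCA.CompleteDevissage R S N p)
  (𝒜 : FlatCA.CompleteDevissageAt R S N p q 𝒟)

/-- A base open meeting all the opens of a chain. -/
theorem exists_base_open (c : ∀ i, 𝒟.B i) (hc : ∀ i, c i ∉ 𝒜.qB i) :
    ∃ g : R, g ∉ p ∧ ∀ i, i < 𝒟.n → (PrimeSpectrum.basicOpen g : Set (PrimeSpectrum R)) ⊆
      PrimeSpectrum.comap (algebraMap R (𝒟.B i)) '' (PrimeSpectrum.basicOpen (c i) : Set _) := by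
  classical
  have h : ∀ i : Fin 𝒟.n, ∃ g : R, g ∉ p ∧ (PrimeSpectrum.basicOpen g : Set (PrimeSpectrum R)) ⊆
      PrimeSpectrum.comap (algebraMap R (𝒟.B i)) '' (PrimeSpectrum.basicOpen (c i) : Set _) := fun i => by
    haveI := 𝒟.smooth i i.2
    haveI := 𝒜.hqB i
    have ho : IsOpen (PrimeSpectrum.comap (algebraMap R (𝒟.B i)) '' (PrimeSpectrum.basicOpen (c i) : Set _)) :=
      PrimeSpectrum.isOpenMap_comap_of_hasGoingDown_of_finitePresentation _ (PrimeSpectrum.basicOpen (c i)).isOpen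
    obtain ⟨_, ⟨g, rfl⟩, hgp, hgIm⟩ := PrimeSpectrum.isTopologicalBasis_basic_opens.exists_subset_of_mem_open
      (a := (⟨p, ‹_›⟩ : PrimeSpectrum R))
      ((Set.mem_image _ _ _).2 ⟨⟨𝒜.qB i, inferInstance⟩, hc i,
        PrimeSpectrum.ext (@Ideal.over_def _ _ _ _ _ (𝒜.qB i) p (𝒜.overB i)).symm⟩) ho
    exact ⟨g, hgp, hgIm⟩
  choose g hg hgIm using h
  refine ⟨∏ i, g i, fun h => ?_, fun i hi y hy => hgIm ⟨i, hi⟩ fun h' => hy ?_⟩
  · obtain ⟨i, -, hi⟩ := Ideal.IsPrime.prod_mem_iff.1 h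
    exact hg i hi
  · exact Ideal.mem_of_dvd _ (Finset.dvd_prod_of_mem g (Finset.mem_univ _)) h'

/-- The shrinking of a complete dévissage. -/
theorem exists_shrink_complete (g : R) (hg : g ∉ p) (c b : ∀ i, 𝒟.B i) (hb : ∀ i, b i = c i * algebraMap R (𝒟.B i) g)
    (hc : ∀ i, c i ∉ 𝒜.qB i)
    (hstep : ∀ i, i + 1 < 𝒟.n →
      algebraMap (𝒟.B i) (𝒟.A (i + 1)) (b i) = algebraMap (𝒟.B (i + 1)) (𝒟.A (i + 1)) (b (i + 1)))
    (hIm : ∀ i, i < 𝒟.n → (PrimeSpectrum.basicOpen g : Set (PrimeSpectrum R)) ⊆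
      PrimeSpectrum.comap (algebraMap R (𝒟.B i)) '' (PrimeSpectrum.basicOpen (c i) : Set _))
    (hX : S) (hgX : IsUnit (algebraMap R (Localization.Away hX) g))
    (hX0 : algebraMap S (𝒟.A 0) hX = algebraMap (𝒟.B 0) (𝒟.A 0) (b 0)) :
      ∃ (_ : Algebra (Localization.Away g) (Localization.Away hX)) (_ : IsScalarTower R (Localization.Away g) (Localization.Away hX))
        (_ : Module (Localization.Away g) (LocalizedModule (Submonoid.powers hX) N)) (_ : IsScalarTower (Localization.Away g) (Localization.Away hX) (LocalizedModule (Submonoid.powers hX) N))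
        (_ : (Ideal.map (algebraMap R (Localization.Away g)) p).IsPrime) (_ : (Ideal.map (algebraMap S (Localization.Away hX)) q).IsPrime)
        (𝒟' : FlatCA.CompleteDevissage (Localization.Away g) (Localization.Away hX) (LocalizedModule (Submonoid.powers hX) N) (Ideal.map (algebraMap R (Localization.Away g)) p))
        (𝒜' : FlatCA.CompleteDevissageAt (Localization.Away g) (Localization.Away hX) (LocalizedModule (Submonoid.powers hX) N) (Ideal.map (algebraMap R (Localization.Away g)) p) (Ideal.map (algebraMap S (Localization.Away hX)) q) 𝒟')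
        
      (aA : ∀ i : Fin 𝒟.n, Algebra (𝒟.A i) (𝒟'.A i)) (rA : ∀ i : Fin 𝒟.n, Algebra R (𝒟'.A i))
      (_t1 : ∀ i : Fin 𝒟.n, IsScalarTower R (Localization.Away g) (𝒟'.A i)) (_t2 : ∀ i : Fin 𝒟.n, IsScalarTower R (𝒟.A i) (𝒟'.A i))
      (aB : ∀ i : Fin 𝒟.n, Algebra (𝒟.B i) (𝒟'.B i)) (rB : ∀ i : Fin 𝒟.n, Algebra R (𝒟'.B i))
      (_t3 : ∀ i : Fin 𝒟.n, IsScalarTower R (Localization.Away g) (𝒟'.B i)) (_t4 : ∀ i : Fin 𝒟.n, IsScalarTower R (𝒟.B i) (𝒟'.B i))
      (bA : ∀ i : Fin 𝒟.n, Algebra (𝒟.B i) (𝒟'.A i)) (_t5 : ∀ i : Fin 𝒟.n, IsScalarTower (𝒟.B i) (𝒟.A i) (𝒟'.A i))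
      (_t6 : ∀ i : Fin 𝒟.n, IsScalarTower (𝒟.B i) (𝒟'.B i) (𝒟'.A i))
      (bA' : ∀ i : Fin 𝒟.n, Algebra (𝒟.B i) (𝒟'.A (i + 1)))
      (_t7 : ∀ i : Fin 𝒟.n, IsScalarTower (𝒟.B i) (𝒟'.B i) (𝒟'.A (i + 1)))
      (sA : Algebra S (𝒟'.A 0)) (_t8 : IsScalarTower S (Localization.Away hX) (𝒟'.A 0))
      (mA : ∀ i : Fin 𝒟.n, Module (𝒟.A i) (𝒟'.M i)) (_t9 : ∀ i : Fin 𝒟.n, IsScalarTower (𝒟.A i) (𝒟'.A i) (𝒟'.M i))
      (gM : ∀ i : Fin 𝒟.n, 𝒟.M i →ₗ[𝒟.A i] 𝒟'.M i),
        𝒟'.n = 𝒟.n ∧ 𝒟'.r = 𝒟.r ∧ 𝒜'.d = 𝒜.d ∧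
        (letI := aA ⟨0, 𝒟.pos⟩; IsScalarTower S (𝒟.A 0) (𝒟'.A 0)) ∧
      (∀ x : N, 𝒟'.isoN (LocalizedModule.mkLinearMap (Submonoid.powers hX) N x) = gM ⟨0, 𝒟.pos⟩ (𝒟.isoN x)) ∧
      (∀ (i : Fin 𝒟.n) (h : (i : ℕ) + 1 < 𝒟.n),
        letI := aA ⟨i + 1, h⟩; IsScalarTower (𝒟.B i) (𝒟.A (i + 1)) (𝒟'.A (i + 1))) ∧
        ∀ i : Fin 𝒟.n,
          algebraMap (𝒟.B i) (𝒟.A i) (b i) ∉ 𝒜.qA i ∧ b i ∉ 𝒜.qB i ∧
          IsLocalization.Away (algebraMap (𝒟.B i) (𝒟.A i) (b i)) (𝒟'.A i) ∧ IsLocalization.Away (b i) (𝒟'.B i) ∧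
          IsLocalizedModule (Submonoid.powers (algebraMap (𝒟.B i) (𝒟.A i) (b i))) (gM i) ∧
          (𝒜'.qA i).LiesOver (𝒜.qA i) ∧ (𝒜'.qB i).LiesOver (𝒜.qB i) ∧
          LinearMap.range (𝒟'.α i) =
            Submodule.span (𝒟'.B i) ((gM i) '' (LinearMap.range (𝒟.α i) : Set (𝒟.M i))) := by  classical
  haveI := 𝒜.hqB
  haveI := 𝒜.hqA
  haveI := 𝒜.overB
  haveI := 𝒜.overA
  let R₁ := Localization.Away g
  let S₁ := Localization.Away hX
  let X := Localization.Away (b (𝒟.n - 1))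
  have dp : Disjoint (Submonoid.powers g : Set R) ↑p := (Ideal.disjoint_powers_iff_notMem_of_isPrime _).2 hg
  have cp : (p.map (algebraMap R R₁)).comap (algebraMap R R₁) = p :=
    IsLocalization.under_map_of_isPrime_disjoint _ _ ‹_› dp
  haveI : (p.map (algebraMap R R₁)).IsPrime := IsLocalization.isPrime_of_isPrime_disjoint _ _ p ‹_› dp
  have hbq : ∀ i, b i ∉ 𝒜.qB i := fun i h => by
    rw [hb i] at h
    exact ((𝒜.hqB i).mem_or_mem h).elim (hc i) fun h' => hg ((SetLike.ext_iff.1 ((𝒜.qB i).over_def p) g).2 h')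
  have haq : ∀ i, algebraMap (𝒟.B i) (𝒟.A i) (b i) ∉ 𝒜.qA i := fun i => image_notMem 𝒟 𝒜 (hbq i)
  have hXq : hX ∉ q := fun h => haq 0 (hX0 ▸ (SetLike.ext_iff.1 𝒜.q0 hX).2 h)
  have dq : Disjoint (Submonoid.powers hX : Set S) ↑q := (Ideal.disjoint_powers_iff_notMem_of_isPrime _).2 hXq
  haveI : (q.map (algebraMap S S₁)).IsPrime := IsLocalization.isPrime_of_isPrime_disjoint _ _ q ‹_› dq
  letI : Algebra R₁ S₁ := (IsLocalization.Away.lift (S := R₁) g hgX).toAlgebra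
  haveI : IsScalarTower R R₁ S₁ := IsScalarTower.of_algebraMap_eq fun x =>
    (IsLocalization.Away.lift_eq (S := R₁) g hgX x).symm
  have hgXu : IsUnit (algebraMap R X g) := by
    have h' : IsUnit (algebraMap (𝒟.B (𝒟.n - 1)) X (b (𝒟.n - 1))) := IsLocalization.Away.algebraMap_isUnit (b (𝒟.n - 1))
    have e : algebraMap (𝒟.B (𝒟.n - 1)) X (b (𝒟.n - 1)) =
        algebraMap (𝒟.B (𝒟.n - 1)) X (c (𝒟.n - 1)) * algebraMap R X g := by
      rw [IsScalarTower.algebraMap_apply R (𝒟.B (𝒟.n - 1)) X, ← map_mul, ← hb]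
    rw [e] at h'
    exact isUnit_of_mul_isUnit_right h'
  letI : Algebra R₁ X := (IsLocalization.Away.lift (S := R₁) g hgXu).toAlgebra
  haveI : IsScalarTower R R₁ X := IsScalarTower.of_algebraMap_eq fun x =>
    (IsLocalization.Away.lift_eq (S := R₁) g hgXu x).symm
  let p₁ := p.map (algebraMap R R₁)
  let P : ∀ i, ShrinkPiece 𝒟 𝒜 b p₁ X i := fun i => (exists_shrinkPiece 𝒟 𝒜 b hg rfl c hb hc hIm i).some
  let aA : ∀ i : Fin 𝒟.n, Algebra (𝒟.A i) (P i).A := fun i => ((P i).data i.2).aA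
  let aB : ∀ i : Fin 𝒟.n, Algebra (𝒟.B i) (P i).B := fun i => ((P i).data i.2).aB
  let rA : ∀ i, Algebra R (P i).A := fun i => ((algebraMap R₁ (P i).A).comp (algebraMap R R₁)).toAlgebra
  let rB : ∀ i, Algebra R (P i).B := fun i => ((algebraMap R₁ (P i).B).comp (algebraMap R R₁)).toAlgebra
  -- the links between consecutive indices
  have hlink : ∀ i (h : i + 1 < 𝒟.n), ∃ φ : (P i).B →ₐ[R₁] (P (i + 1)).A, ∀ x,
      φ (@algebraMap _ _ _ _ (aB ⟨i, Nat.lt_of_succ_lt h⟩) x) =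
        @algebraMap _ _ _ _ (aA ⟨i + 1, h⟩) (algebraMap (𝒟.B i) (𝒟.A (i + 1)) x) := by
    intro i h
    letI : Algebra (𝒟.B i) (P i).B := aB ⟨i, Nat.lt_of_succ_lt h⟩
    letI : Algebra (𝒟.A (i + 1)) (P (i + 1)).A := aA ⟨i + 1, h⟩
    haveI : IsLocalization.Away (b i) (P i).B := ((P i).data (Nat.lt_of_succ_lt h)).locB
    haveI : IsLocalization.Away (algebraMap (𝒟.B (i + 1)) (𝒟.A (i + 1)) (b (i + 1))) (P (i + 1)).A := ((P (i + 1)).data h).locA
    let j : 𝒟.B i →+* (P (i + 1)).A := (algebraMap (𝒟.A (i + 1)) (P (i + 1)).A).comp (algebraMap (𝒟.B i) (𝒟.A (i + 1)))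
    have hu : IsUnit (j (b i)) := by
      show IsUnit (algebraMap (𝒟.A (i + 1)) (P (i + 1)).A (algebraMap (𝒟.B i) (𝒟.A (i + 1)) (b i)))
      rw [hstep i h]
      exact IsLocalization.Away.algebraMap_isUnit _
    let φ : (P i).B →+* (P (i + 1)).A := IsLocalization.Away.lift (b i) hu
    have hφ : ∀ x, φ (algebraMap (𝒟.B i) (P i).B x) = j x := fun x => IsLocalization.Away.lift_eq (b i) hu x
    refine ⟨{ φ with commutes' := fun r => RingHom.congr_fun (IsLocalization.ringHom_ext (Submonoid.powers g)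
      (j := φ.comp (algebraMap R₁ (P i).B)) (k := algebraMap R₁ (P (i + 1)).A) (RingHom.ext fun z => ?_)) r }, hφ⟩
    show φ (algebraMap R₁ (P i).B (algebraMap R R₁ z)) = algebraMap R₁ (P (i + 1)).A (algebraMap R R₁ z)
    rw [((P i).data (Nat.lt_of_succ_lt h)).eRB z, ((P (i + 1)).data h).eRA z]
    refine (hφ _).trans ?_
    show algebraMap (𝒟.A (i + 1)) _ (algebraMap (𝒟.B i) (𝒟.A (i + 1)) (algebraMap R _ z)) = _
    rw [← IsScalarTower.algebraMap_apply R (𝒟.B i) (𝒟.A (i + 1))]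
  choose φ hφ using hlink
  let link : ∀ i, (P i).B →ₐ[R₁] (P (i + 1)).A := fun i =>
    if h : i + 1 < 𝒟.n then φ i h else ((P (i + 1)).fromX (not_lt.1 h)).comp ((P i).toX (not_lt.1 h))
  have hlink' : ∀ i (h : i + 1 < 𝒟.n), link i = φ i h := fun i h => dif_pos h
  letI aBA' : ∀ i, Algebra (P i).B (P (i + 1)).A := fun i => (link i).toRingHom.toAlgebra
  haveI tRBA' : ∀ i, IsScalarTower R₁ (P i).B (P (i + 1)).A := fun i =>
    IsScalarTower.of_algebraMap_eq fun r => ((link i).commutes r).symm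
  letI mB'M : ∀ i, Module (P i).B (P (i + 1)).M := fun i => Module.compHom _ (algebraMap (P i).B (P (i + 1)).A)
  haveI tB'AM : ∀ i, IsScalarTower (P i).B (P (i + 1)).A (P (i + 1)).M := fun i =>
    IsScalarTower.of_algebraMap_smul fun _ _ => rfl
  -- the ring at the start
  let d0 := (P 0).data 𝒟.pos
  letI iA0 : Algebra (𝒟.A 0) (P 0).A := aA ⟨0, 𝒟.pos⟩
  letI iA0M : Module (𝒟.A 0) (P 0).M := d0.mA
  haveI : IsScalarTower (𝒟.A 0) (P 0).A (P 0).M := d0.tAM
  haveI : IsLocalization.Away (algebraMap S (𝒟.A 0) hX) (P 0).A := hX0 ▸ d0.locA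
  letI iSA : Algebra S (P 0).A := ((algebraMap (𝒟.A 0) (P 0).A).comp (algebraMap S (𝒟.A 0))).toAlgebra
  haveI tSA : IsScalarTower S (𝒟.A 0) (P 0).A := IsScalarTower.of_algebraMap_eq' rfl
  have hXu : IsUnit (algebraMap S (P 0).A hX) := by
    rw [IsScalarTower.algebraMap_apply S (𝒟.A 0) (P 0).A]
    exact IsLocalization.Away.algebraMap_isUnit _
  letI aSA : Algebra S₁ (P 0).A := (IsLocalization.Away.lift (S := S₁) hX hXu).toAlgebra
  haveI tSSA : IsScalarTower S S₁ (P 0).A := IsScalarTower.of_algebraMap_eq fun x =>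
    (IsLocalization.Away.lift_eq (S := S₁) hX hXu x).symm
  haveI tRSA : IsScalarTower R₁ S₁ (P 0).A := IsScalarTower.of_algebraMap_eq' (IsLocalization.ringHom_ext (Submonoid.powers g)
    (RingHom.ext fun z => by
      show algebraMap R₁ (P 0).A (algebraMap R R₁ z) = algebraMap S₁ (P 0).A (algebraMap R₁ S₁ (algebraMap R R₁ z))
      rw [d0.eRA z, ← IsScalarTower.algebraMap_apply R R₁ S₁, IsScalarTower.algebraMap_apply R S S₁,
        ← IsScalarTower.algebraMap_apply S S₁ (P 0).A, IsScalarTower.algebraMap_apply S (𝒟.A 0) (P 0).A,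
        ← IsScalarTower.algebraMap_apply R S (𝒟.A 0)]
      ))
  letI mSM : Module S₁ (P 0).M := Module.compHom _ (algebraMap S₁ (P 0).A)
  haveI tSAM : IsScalarTower S₁ (P 0).A (P 0).M := IsScalarTower.of_algebraMap_smul fun _ _ => rfl
  letI iSM : Module S (P 0).M := Module.compHom _ (algebraMap S (P 0).A)
  haveI : IsScalarTower S (P 0).A (P 0).M := IsScalarTower.of_algebraMap_smul fun _ _ => rfl
  haveI : IsScalarTower S (𝒟.A 0) (P 0).M := IsScalarTower.of_algebraMap_smul fun x v => by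
    show algebraMap S (𝒟.A 0) x • v = algebraMap S (P 0).A x • v
    rw [IsScalarTower.algebraMap_apply S (𝒟.A 0) (P 0).A]
    exact (algebraMap_smul (P 0).A _ v).symm
  haveI : IsScalarTower S S₁ (P 0).M := IsScalarTower.of_algebraMap_smul fun x v => by
    show algebraMap S₁ (P 0).A (algebraMap S S₁ x) • v = algebraMap S (P 0).A x • v
    rw [← IsScalarTower.algebraMap_apply S S₁ (P 0).A]
  let g0 : 𝒟.M 0 →ₗ[𝒟.A 0] (P 0).M := d0.gM
  haveI : IsLocalizedModule (Submonoid.powers (algebraMap S (𝒟.A 0) hX)) g0 := hX0 ▸ d0.locM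
  haveI : IsScalarTower S (𝒟.A 0) (𝒟.M 0) := 𝒟.tSAM
  haveI : IsLocalizedModule (Submonoid.powers hX) (g0.restrictScalars S) := IsLocalizedModule.restrictScalars_powers hX g0
  haveI : IsLocalizedModule (Submonoid.powers hX) ((g0.restrictScalars S).comp 𝒟.isoN.toLinearMap) :=
    IsLocalizedModule.of_linearEquiv_right _ _ 𝒟.isoN
  let fN := LocalizedModule.mkLinearMap (Submonoid.powers hX) N
  let eS : LocalizedModule (Submonoid.powers hX) N ≃ₗ[S] (P 0).M :=
    IsLocalizedModule.linearEquiv (Submonoid.powers hX) fN ((g0.restrictScalars S).comp 𝒟.isoN.toLinearMap)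
  let e₁ := eS.extendScalarsOfIsLocalization (Submonoid.powers hX) S₁
  letI : Module R₁ (LocalizedModule (Submonoid.powers hX) N) := Module.compHom _ (algebraMap R₁ S₁)
  haveI : IsScalarTower R₁ S₁ (LocalizedModule (Submonoid.powers hX) N) := IsScalarTower.of_algebraMap_smul fun _ _ => rfl
  obtain ⟨hSs, hSfp⟩ := surjective_fp_away hX 𝒟.surjSA 𝒟.fpSA S₁ (P 0).A
  -- the cokernels
  have hnext : ∀ i, i + 1 < 𝒟.n → Function.Surjective (algebraMap (P i).B (P (i + 1)).A) ∧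
      Algebra.FinitePresentation (P i).B (P (i + 1)).A ∧
      Nonempty (((P i).M ⧸ LinearMap.range (P i).α) ≃ₗ[(P i).B] (P (i + 1)).M) := by
    intro i h
    let di := (P i).data (Nat.lt_of_succ_lt h)
    let dn := (P (i + 1)).data h
    letI : Algebra (𝒟.B i) (P i).B := aB ⟨i, Nat.lt_of_succ_lt h⟩
    letI : Algebra (𝒟.A i) (P i).A := aA ⟨i, Nat.lt_of_succ_lt h⟩
    letI : Algebra (𝒟.A (i + 1)) (P (i + 1)).A := aA ⟨i + 1, h⟩
    haveI : IsLocalization.Away (b i) (P i).B := di.locB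
    haveI : IsLocalization.Away (algebraMap (𝒟.B i) (𝒟.A (i + 1)) (b i)) (P (i + 1)).A := (hstep i h).symm ▸ dn.locA
    letI : Algebra (𝒟.B i) (P (i + 1)).A :=
      ((algebraMap (𝒟.A (i + 1)) (P (i + 1)).A).comp (algebraMap (𝒟.B i) (𝒟.A (i + 1)))).toAlgebra
    haveI : IsScalarTower (𝒟.B i) (𝒟.A (i + 1)) (P (i + 1)).A := IsScalarTower.of_algebraMap_eq' rfl
    haveI : IsScalarTower (𝒟.B i) (P i).B (P (i + 1)).A := IsScalarTower.of_algebraMap_eq fun x => by
      show _ = link i _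
      rw [hlink' i h, hφ i h x]
      rfl
    obtain ⟨h1, h2⟩ := surjective_fp_away (b i) (𝒟.surjBA' i h) (𝒟.fpBA' i h) (P i).B (P (i + 1)).A
    refine ⟨h1, h2, ?_⟩
    -- the source
    letI : Module (𝒟.A i) (P i).M := di.mA
    haveI : IsScalarTower (𝒟.A i) (P i).A (P i).M := di.tAM
    letI : Module (𝒟.B i) (P i).M := Module.compHom _ (algebraMap (𝒟.B i) (P i).B)
    haveI : IsScalarTower (𝒟.B i) (P i).B (P i).M := IsScalarTower.of_algebraMap_smul fun _ _ => rfl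
    haveI : IsScalarTower (𝒟.B i) (𝒟.A i) (P i).M := IsScalarTower.of_algebraMap_smul fun x v => by
      show algebraMap (𝒟.B i) (𝒟.A i) x • v = algebraMap (𝒟.B i) (P i).B x • v
      rw [← algebraMap_smul (P i).A (algebraMap (𝒟.B i) (𝒟.A i) x) v,
        ← algebraMap_smul (P i).A (algebraMap (𝒟.B i) (P i).B x) v, ← di.eBA x]
    haveI : IsLocalizedModule (Submonoid.powers (algebraMap (𝒟.B i) (𝒟.A i) (b i))) di.gM := di.locM
    haveI : IsLocalizedModule (Submonoid.powers (b i)) (di.gM.restrictScalars (𝒟.B i)) :=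
      IsLocalizedModule.restrictScalars_powers (b i) di.gM
    have hg1 := (isLocalizedModule_iff_isBaseChange (Submonoid.powers (b i)) (P i).B
      (di.gM.restrictScalars (𝒟.B i))).1 inferInstance
    -- the target
    letI : Module (𝒟.A (i + 1)) (P (i + 1)).M := dn.mA
    haveI : IsScalarTower (𝒟.A (i + 1)) (P (i + 1)).A (P (i + 1)).M := dn.tAM
    letI : Module (𝒟.B i) (P (i + 1)).M := Module.compHom _ (algebraMap (𝒟.B i) (P i).B)
    haveI : IsScalarTower (𝒟.B i) (P i).B (P (i + 1)).M := IsScalarTower.of_algebraMap_smul fun _ _ => rfl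
    haveI : IsScalarTower (𝒟.B i) (𝒟.A (i + 1)) (P (i + 1)).M := IsScalarTower.of_algebraMap_smul fun x v => by
      show algebraMap (𝒟.B i) (𝒟.A (i + 1)) x • v = algebraMap (P i).B (P (i + 1)).A (algebraMap (𝒟.B i) (P i).B x) • v
      rw [← algebraMap_smul (P (i + 1)).A (algebraMap (𝒟.B i) (𝒟.A (i + 1)) x) v,
        ← IsScalarTower.algebraMap_apply (𝒟.B i) (P i).B (P (i + 1)).A,
        ← IsScalarTower.algebraMap_apply (𝒟.B i) (𝒟.A (i + 1)) (P (i + 1)).A]
    haveI : IsLocalizedModule (Submonoid.powers (algebraMap (𝒟.B i) (𝒟.A (i + 1)) (b i))) dn.gM :=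
      (hstep i h).symm ▸ dn.locM
    haveI : IsLocalizedModule (Submonoid.powers (b i)) (dn.gM.restrictScalars (𝒟.B i)) :=
      IsLocalizedModule.restrictScalars_powers (b i) dn.gM
    have hg2 := (isLocalizedModule_iff_isBaseChange (Submonoid.powers (b i)) (P i).B
      (dn.gM.restrictScalars (𝒟.B i))).1 inferInstance
    exact nonempty_isoCoker (𝒟.α i) (𝒟.isoCoker i h) (di.gM.restrictScalars (𝒟.B i)) hg1
      (dn.gM.restrictScalars (𝒟.B i)) hg2 (P i).α di.hα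
  -- ranges
  have hrange : ∀ i (h : i < 𝒟.n), LinearMap.range (P i).α =
      Submodule.span (P i).B (((P i).data h).gM '' (LinearMap.range (𝒟.α i) : Set (𝒟.M i))) := by
    intro i h
    letI : Algebra (𝒟.B i) (P i).B := ((P i).data h).aB
    letI : Algebra (𝒟.A i) (P i).A := ((P i).data h).aA
    letI : Module (𝒟.A i) (P i).M := ((P i).data h).mA
    haveI : IsScalarTower (𝒟.A i) (P i).A (P i).M := ((P i).data h).tAM
    refine range_shrink (𝒟.α i) _ (P i).α ((P i).data h).hα fun x m => ?_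
    rw [← algebraMap_smul (𝒟.A i) x m, map_smul, ← algebraMap_smul (P i).A (algebraMap (𝒟.B i) (𝒟.A i) x),
      ← algebraMap_smul (P i).A (algebraMap (𝒟.B i) (P i).B x), ← ((P i).data h).eBA x]
  have hlast : Function.Surjective (P (𝒟.n - 1)).α := by
    have h : 𝒟.n - 1 < 𝒟.n := Nat.sub_one_lt_of_lt 𝒟.pos
    let dl := (P (𝒟.n - 1)).data h
    letI : Algebra (𝒟.B (𝒟.n - 1)) (P (𝒟.n - 1)).B := dl.aB
    letI : Algebra (𝒟.A (𝒟.n - 1)) (P (𝒟.n - 1)).A := dl.aA
    letI : Module (𝒟.A (𝒟.n - 1)) (P (𝒟.n - 1)).M := dl.mA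
    haveI : IsScalarTower (𝒟.A (𝒟.n - 1)) (P (𝒟.n - 1)).A (P (𝒟.n - 1)).M := dl.tAM
    letI : Module (𝒟.B (𝒟.n - 1)) (P (𝒟.n - 1)).M := Module.compHom _ (algebraMap (𝒟.B (𝒟.n - 1)) (P (𝒟.n - 1)).B)
    haveI : IsScalarTower (𝒟.B (𝒟.n - 1)) (P (𝒟.n - 1)).B (P (𝒟.n - 1)).M :=
      IsScalarTower.of_algebraMap_smul fun _ _ => rfl
    haveI : IsScalarTower (𝒟.B (𝒟.n - 1)) (𝒟.A (𝒟.n - 1)) (P (𝒟.n - 1)).M := IsScalarTower.of_algebraMap_smul fun x v => by
      show algebraMap (𝒟.B (𝒟.n - 1)) (𝒟.A (𝒟.n - 1)) x • v = algebraMap (𝒟.B (𝒟.n - 1)) (P (𝒟.n - 1)).B x • v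
      rw [← algebraMap_smul (P (𝒟.n - 1)).A (algebraMap (𝒟.B (𝒟.n - 1)) (𝒟.A (𝒟.n - 1)) x) v,
        ← algebraMap_smul (P (𝒟.n - 1)).A (algebraMap (𝒟.B (𝒟.n - 1)) (P (𝒟.n - 1)).B x) v, ← dl.eBA x]
    haveI : IsLocalization.Away (b (𝒟.n - 1)) (P (𝒟.n - 1)).B := dl.locB
    haveI : IsLocalizedModule (Submonoid.powers (algebraMap (𝒟.B (𝒟.n - 1)) (𝒟.A (𝒟.n - 1)) (b (𝒟.n - 1)))) dl.gM := dl.locM
    haveI : IsLocalizedModule (Submonoid.powers (b (𝒟.n - 1))) (dl.gM.restrictScalars (𝒟.B (𝒟.n - 1))) :=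
      IsLocalizedModule.restrictScalars_powers (b (𝒟.n - 1)) dl.gM
    have hbc := (isLocalizedModule_iff_isBaseChange (Submonoid.powers (b (𝒟.n - 1))) (P (𝒟.n - 1)).B
      (dl.gM.restrictScalars (𝒟.B (𝒟.n - 1)))).1 inferInstance
    rw [← LinearMap.range_eq_top, hrange _ h, eq_top_iff]
    intro v _
    induction v using hbc.inductionOn with
    | zero => exact Submodule.zero_mem _
    | tmul m => exact Submodule.subset_span ⟨m, 𝒟.cokerLast m, rfl⟩
    | smul s v hv => exact Submodule.smul_mem _ _ (hv trivial)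
    | add v w hv hw => exact Submodule.add_mem _ (hv trivial) (hw trivial)
  let D' : FlatCA.CompleteDevissage R₁ S₁ (LocalizedModule (Submonoid.powers hX) N) p₁ :=
    { n := 𝒟.n
      pos := 𝒟.pos
      A := fun i => (P i).A
      B := fun i => (P i).B
      M := fun i => (P i).M
      r := fun i => 𝒟.r i
      cA := fun i => (P i).cA
      cB := fun i => (P i).cB
      aRA := fun i => (P i).aRA
      aRB := fun i => (P i).aRB
      aBA := fun i => (P i).aBA
      tRBA := fun i => (P i).tRBA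
      aSA := aSA
      tRSA := tRSA
      aBA' := aBA'
      tRBA' := tRBA'
      gM := fun i => (P i).gGrp
      mAM := fun i => (P i).mAM
      mBM := fun i => (P i).mBM
      tBAM := fun i => (P i).tBAM
      mRM := fun i => (P i).mRM
      tRBM := fun i => (P i).tRBM
      mSM := mSM
      tSAM := tSAM
      mB'M := mB'M
      tB'AM := tB'AM
      hp := fun i => (P i).hp
      α := fun i => (P i).α
      surjSA := hSs
      fpSA := hSfp
      surjBA' := fun i h => (hnext i h).1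
      fpBA' := fun i h => (hnext i h).2.1
      finiteBA := fun i h => (P i).finiteBA h
      smooth := fun i h => (P i).smooth h
      geomIrred := fun i h => (P i).geomIrred h
      finiteM := fun i h => (P i).finiteM h
      isoN := e₁
      isoCoker := fun i h => (hnext i h).2.2.some
      fibreIso := fun i h => (P i).fibreIso h
      cokerLast := hlast }
  have hq0 : (P 0).qA.comap (algebraMap S₁ (P 0).A) = q.map (algebraMap S S₁) := by
    rw [← IsLocalization.map_under (Submonoid.powers hX) S₁ ((P 0).qA.comap (algebraMap S₁ (P 0).A))]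
    refine congrArg (Ideal.map _) ?_
    rw [Ideal.under, Ideal.comap_comap, ← IsScalarTower.algebraMap_eq S S₁ (P 0).A,
      IsScalarTower.algebraMap_eq S (𝒟.A 0) (P 0).A, ← Ideal.comap_comap]
    exact (congrArg (Ideal.comap (algebraMap S (𝒟.A 0))) d0.hqA).trans 𝒜.q0
  have hqStep : ∀ i, i + 1 < 𝒟.n → (P (i + 1)).qA.comap (algebraMap (P i).B (P (i + 1)).A) = (P i).qB := by
    intro i h
    letI : Algebra (𝒟.B i) (P i).B := aB ⟨i, Nat.lt_of_succ_lt h⟩
    haveI : IsLocalization.Away (b i) (P i).B := ((P i).data (Nat.lt_of_succ_lt h)).locB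
    rw [← IsLocalization.map_under (Submonoid.powers (b i)) (P i).B ((P (i + 1)).qA.comap (algebraMap (P i).B (P (i + 1)).A)),
      ← IsLocalization.map_under (Submonoid.powers (b i)) (P i).B (P i).qB]
    refine congrArg (Ideal.map _) ?_
    show Ideal.comap (algebraMap (𝒟.B i) (P i).B) _ = Ideal.comap (algebraMap (𝒟.B i) (P i).B) (P i).qB
    rw [Ideal.comap_comap, show (P i).qB.comap (algebraMap (𝒟.B i) (P i).B) = 𝒜.qB i from
      ((P i).data (Nat.lt_of_succ_lt h)).hqB, ← 𝒜.qStep i h, ← ((P (i + 1)).data h).hqA, Ideal.comap_comap]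
    refine congrArg (fun f => Ideal.comap f (P (i + 1)).qA) (RingHom.ext fun x => ?_)
    show link i _ = _
    rw [hlink' i h, hφ i h x]
    rfl
  let A' : FlatCA.CompleteDevissageAt R₁ S₁ (LocalizedModule (Submonoid.powers hX) N) p₁ (q.map (algebraMap S S₁)) D' :=
    { qB := fun i => (P i).qB
      qA := fun i => (P i).qA
      hqB := fun i => (P i).hqB
      hqA := fun i => (P i).hqA
      overB := fun i => (P i).overB
      overA := fun i => (P i).overA
      pureTrans := fun i h => (P i).pureTrans h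
      uniq := fun i h Q hQ hl => by haveI := hQ; exact (P i).uniq h Q hl
      q0 := hq0
      qStep := hqStep
      d := 𝒜.d
      relDim := fun i h => (P i).relDim h
      locDim := fun i h => (P i).locDim h }
  let bA : ∀ i : Fin 𝒟.n, Algebra (𝒟.B i) (P i).A := fun i =>
    ((@algebraMap _ _ _ _ (aA i)).comp (algebraMap (𝒟.B i) (𝒟.A i))).toAlgebra
  let bA' : ∀ i : Fin 𝒟.n, Algebra (𝒟.B i) (P (i + 1)).A := fun i =>
    ((link i).toRingHom.comp (@algebraMap _ _ _ _ (aB i))).toAlgebra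
  refine ⟨inferInstance, inferInstance, inferInstance, inferInstance, inferInstance, inferInstance, D', A', aA,
    fun i => rA i, fun i => @IsScalarTower.of_algebraMap_eq R R₁ (P i).A _ _ _ _ _ (rA i) fun _ => rfl,
    fun i => @IsScalarTower.of_algebraMap_eq R (𝒟.A i) (P i).A _ _ _ _ (aA i) (rA i) fun z => ((P i).data i.2).eRA z,
    aB, fun i => rB i, fun i => @IsScalarTower.of_algebraMap_eq R R₁ (P i).B _ _ _ _ _ (rB i) fun _ => rfl,
    fun i => @IsScalarTower.of_algebraMap_eq R (𝒟.B i) (P i).B _ _ _ _ (aB i) (rB i) fun z => ((P i).data i.2).eRB z,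
    bA, fun i => @IsScalarTower.of_algebraMap_eq (𝒟.B i) (𝒟.A i) (P i).A _ _ _ _ (aA i) (bA i) fun _ => rfl,
    fun i => @IsScalarTower.of_algebraMap_eq (𝒟.B i) (P i).B (P i).A _ _ _ (aB i) _ (bA i) fun z =>
      (((P i).data i.2).eBA z).symm,
    bA', fun i => @IsScalarTower.of_algebraMap_eq (𝒟.B i) (P i).B (P (i + 1)).A _ _ _ (aB i) _ (bA' i) fun _ => rfl,
    iSA, tSSA, fun i => ((P i).data i.2).mA, fun i => ((P i).data i.2).tAM, fun i => ((P i).data i.2).gM,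
    rfl, rfl, rfl, tSA, fun x => ?_, fun i h => ?_, fun i => ⟨haq i, hbq i, ((P i).data i.2).locA, ((P i).data i.2).locB,
      ((P i).data i.2).locM, ⟨((P i).data i.2).hqA.symm⟩, ⟨((P i).data i.2).hqB.symm⟩, hrange i i.2⟩⟩
  · show eS (fN x) = g0 (𝒟.isoN x)
    rw [IsLocalizedModule.linearEquiv_apply]
    rfl
  · refine @IsScalarTower.of_algebraMap_eq (𝒟.B i) (𝒟.A (i + 1)) (P (i + 1)).A _ _ _ _ (aA ⟨i + 1, h⟩) (bA' i) fun z => ?_
    show link i _ = _
    rw [hlink' i h, hφ i h z]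

end GrothLib.RG6.Dev
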