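import Mathlib
import Groth.Prelude.Def_FlatCA
import Groth.Prelude.Def_Hens2
import Groth.Agent.Lib.RG6.Dev.Strong
import Groth.Agent.Lib.RG6.Dev.LocalStructure

/-!
# Local structure: finite over smooth with geometrically integral fibres, after étale localisation
-/

set_option autoImplicit false
set_option linter.style.haveILetI false
set_option linter.unusedSectionVars false

universe u

open TensorProduct AlgebraicGeometry CategoryTheory

attribute [local instance] Algebra.TensorProduct.rightAlgebra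

namespace GrothLib.RG6.Dev

/-- A trivial residue field extension gives a bijective map on residue fields of spectra. -/
theorem residueFieldMap_bijective_of_mapₐ {A B : Type u} [CommRing A] [CommRing B] [Algebra A B] (P : Ideal A) [P.IsPrime]
    (P' : Ideal B) [hP' : P'.IsPrime] (h : P'.LiesOver P)
    (hb : Function.Bijective (Ideal.ResidueField.mapₐ P P' (Algebra.ofId A B) h.over)) :
    Function.Bijective ((Spec.map (CommRingCat.ofHom (algebraMap A B))).residueFieldMap
      (⟨P', hP'⟩ : PrimeSpectrum B)) := by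
  have h' := congrArg (fun m => (m.hom : _ → _))
    (GrothLib.EtaPt.residueFieldMap_spec (algebraMap A B) (⟨P', hP'⟩ : PrimeSpectrum B))
  simp only [CommRingCat.hom_comp, RingHom.coe_comp, CommRingCat.hom_ofHom] at h'
  have hi := ConcreteCategory.bijective_of_isIso
    (Scheme.Spec.residueFieldIso (.of A) (PrimeSpectrum.comap (algebraMap A B) ⟨P', hP'⟩)).inv
  have hj := ConcreteCategory.bijective_of_isIso (Scheme.Spec.residueFieldIso (.of B) (⟨P', hP'⟩ : PrimeSpectrum B)).inv
  refine (Function.Bijective.of_comp_iff _ hi).1 ?_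
  refine (iff_of_eq (congrArg Function.Bijective h')).2 (hj.comp ?_)
  exact bijective_residue_map P P' (algebraMap A B) h.over hb _ rfl
where
  bijective_residue_map {A B : Type u} [CommRing A] [CommRing B] (P : Ideal A) [P.IsPrime] (P' : Ideal B) [P'.IsPrime]
      (φ : A →+* B) (h : P = P'.comap φ) (hs : Function.Bijective (Ideal.ResidueField.map P P' φ h))
      (P₂ : Ideal A) [P₂.IsPrime] (h₂ : P₂ = P'.comap φ) : Function.Bijective (Ideal.ResidueField.map P₂ P' φ h₂) := by
    subst h₂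
    subst h
    exact hs

/-- The strong structure theorem on an affine chart. -/
theorem exists_chart_strong {R S : Type u} [CommRing R] [CommRing S] [Algebra R S] [Algebra.FiniteType R S]
    (p : Ideal R) [p.IsPrime] (q : Ideal S) [q.IsPrime] [q.LiesOver p] (n : ℕ) (Q : PrimeSpectrum (p.Fiber S))
    (hQ : Q.asIdeal.comap (Algebra.TensorProduct.includeRight (R := R) (A := p.ResidueField) (B := S)).toRingHom = q)
    (hn : FlatMor.localDim (PrimeSpectrum (p.Fiber S)) Q = n) :
    ∃ (R' S' D : Type u) (_ : CommRing R') (_ : CommRing S') (_ : CommRing D) (_ : Algebra R R') (_ : Algebra S S')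
      (_ : Algebra R' D) (ρ : D →+* S') (p' : Ideal R') (q' : Ideal S') (_ : p'.IsPrime) (_ : q'.IsPrime),
      FlatCA.IsEtaleNhd R R' p p' ∧ FlatCA.IsEtaleNhd S S' q q' ∧
      (algebraMap S S').comp (algebraMap R S) = (ρ.comp (algebraMap R' D)).comp (algebraMap R R') ∧
      ρ.Finite ∧ FlatCA.SmoothRelDim n R' D ∧ FlatCA.GeomIntegralFibres R' D ∧
      (q'.comap ρ).comap (algebraMap R' D) = p' ∧
      ∀ z : Ideal S', z.IsPrime → z.comap ρ = q'.comap ρ → z = q' := by
  have hxq : Q.asIdeal = FlatCA.fiberIdeal p q := by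
    refine le_antisymm (fun z hz => ?_) (Ideal.map_le_iff_le_comap.2 hQ.ge)
    obtain ⟨w, hw, s, hs⟩ := Ideal.Fiber.exists_smul_eq_one_tmul p z
    have hu : IsUnit (algebraMap R (p.Fiber S) w) := by
      rw [IsScalarTower.algebraMap_apply R p.ResidueField (p.Fiber S)]
      exact (isUnit_iff_ne_zero.2 (Ideal.algebraMap_residueField_eq_zero.not.2 hw)).map _
    refine (Ideal.unit_mul_mem_iff_mem _ hu).1 ?_
    rw [← Algebra.smul_def, hs]
    refine Ideal.mem_map_of_mem _ ?_
    rw [← hQ]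
    show (1 : p.ResidueField) ⊗ₜ[R] s ∈ Q.asIdeal
    rw [← hs, Algebra.smul_def]
    exact Ideal.mul_mem_left _ _ hz
  have hsupp : Module.support (p.Fiber S) (FlatCA.fiberMod p S S) = Set.univ := by
    show Module.support (p.Fiber S) ((p.Fiber S) ⊗[S] S) = _
    rw [GrothLib.DevBC13.support_tensor, Module.support_eq_zeroLocus, Module.annihilator_eq_bot.2 inferInstance,
      Submodule.bot_coe, PrimeSpectrum.zeroLocus_singleton_zero, Set.preimage_univ]
  have hx : Q ∈ Module.support (p.Fiber S) (FlatCA.fiberMod p S S) := by rw [hsupp]; trivial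
  have hn' : FlatMor.localDim (Module.support (p.Fiber S) (FlatCA.fiberMod p S S)) ⟨Q, hx⟩ = n := by
    let h : PrimeSpectrum (p.Fiber S) ≃ₜ Module.support (p.Fiber S) (FlatCA.fiberMod p S S) :=
      (Homeomorph.Set.univ _).symm.trans (Homeomorph.setCongr hsupp.symm)
    rw [← hn, ← localDim_homeo h Q]
    rfl
  obtain ⟨R', S', D, _, _, _, _, _, _, _, _, _, _, _, _, p', q', y, _, _, _, hyp, hqy, J, hetR, hetS, -, hJq, hJ, hfin,
    huniq, -, hsm, hgi⟩ := exists_strong_elem (R := R) (S := S) S p q n Q hxq hx hn'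
  have hJ0 : J = ⊥ := by
    refine eq_bot_iff.2 (fun j hj => ?_)
    have h1 := Module.mem_annihilator.1 (hJ hj) (1 ⊗ₜ[S] 1)
    have h2 := congrArg (TensorProduct.AlgebraTensorModule.rid S S' S') h1
    simpa [TensorProduct.smul_tmul'] using h2
  have hmk : Function.Bijective (Ideal.Quotient.mk J) :=
    ⟨by rw [RingHom.injective_iff_ker_eq_bot, Ideal.mk_ker, hJ0], Ideal.Quotient.mk_surjective⟩
  haveI : Module.Finite D S' :=
    Module.Finite.equiv (AlgEquiv.ofBijective (Ideal.Quotient.mkₐ D J) hmk).symm.toLinearEquiv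
  refine ⟨R', S', D, inferInstance, inferInstance, inferInstance, inferInstance, inferInstance, inferInstance,
    algebraMap D S', p', q', inferInstance, inferInstance, hetR, hetS, ?_, RingHom.finite_algebraMap.2 inferInstance,
    hsm, hgi, ?_, ?_⟩
  · rw [← IsScalarTower.algebraMap_eq R' D S', ← IsScalarTower.algebraMap_eq R R' S',
      ← IsScalarTower.algebraMap_eq R S S']
  · show (q'.under D).under R' = p'
    rw [← hqy.over, ← hyp.over]
  · intro z hz hzy
    have hc : (z.map (Ideal.Quotient.mk J)).comap (Ideal.Quotient.mk J) = z :=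
      Ideal.comap_map_of_bijective _ hmk
    haveI : (z.map (Ideal.Quotient.mk J)).IsPrime :=
      Ideal.map_isPrime_of_surjective hmk.2 (by rw [Ideal.mk_ker, hJ0]; exact bot_le)
    have hl : (z.map (Ideal.Quotient.mk J)).LiesOver y := by
      refine ⟨?_⟩
      show y = (z.map (Ideal.Quotient.mk J)).comap ((Ideal.Quotient.mk J).comp (algebraMap D S'))
      rw [← Ideal.comap_comap, hc, hzy]
      exact hqy.over
    rw [← hc, huniq _ inferInstance hl]
    exact Ideal.comap_map_of_bijective _ hmk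

/-- The global strong form. -/
theorem strong_local_structure {X S : Scheme.{u}} (f : X ⟶ S) [LocallyOfFiniteType f] (x : X) (n : ℕ)
    (hn : FlatMor.fibreDimAt f x = n) :
    ∃ (S' Y' X' : Scheme.{u}) (e : S' ⟶ S) (h : Y' ⟶ S') (π : X' ⟶ Y') (g : X' ⟶ X) (s' : S') (x' : X'),
      IsAffine S' ∧ IsAffine Y' ∧ IsAffine X' ∧ Hens2.IsEtaleNbhd e s' (f x) ∧ Hens2.IsEtaleNbhd g x' x ∧
      g ≫ f = π ≫ h ≫ e ∧ SmoothOfRelativeDimension n h ∧ GeometricallyIntegral h ∧ IsFinite π ∧ h (π x') = s' ∧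
      ∀ z : X', π z = π x' → z = x' := by
  obtain ⟨_, ⟨V, hV, rfl⟩, hxV, -⟩ := S.isBasis_affineOpens.exists_subset_of_mem_open (Set.mem_univ (f x)) isOpen_univ
  obtain ⟨_, ⟨U, hU, rfl⟩, hxU, hUV⟩ := X.isBasis_affineOpens.exists_subset_of_mem_open (show x ∈ f ⁻¹ᵁ V from hxV) (f ⁻¹ᵁ V).2
  replace hV : IsAffineOpen V := hV
  replace hU : IsAffineOpen U := hU
  letI : Algebra Γ(S, V) Γ(X, U) := (f.appLE V U hUV).hom.toAlgebra
  haveI : Algebra.FiniteType Γ(S, V) Γ(X, U) :=
    HasRingHomProperty.appLE (P := @LocallyOfFiniteType) f inferInstance ⟨V, hV⟩ ⟨U, hU⟩ hUV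
  let q : PrimeSpectrum Γ(X, U) := hU.primeIdealOf ⟨x, hxU⟩
  obtain ⟨Q, hQ⟩ := GrothLib.SmoothRank4.exists_fibre_point (R := Γ(S, V)) q
  have hjf : hU.fromSpec ≫ f = Spec.map (CommRingCat.ofHom (algebraMap Γ(S, V) Γ(X, U))) ≫ hV.fromSpec :=
    (IsAffineOpen.SpecMap_appLE_fromSpec f hV hU hUV).symm
  have hjq : hU.fromSpec q = x := hU.fromSpec_primeIdealOf _
  have hdim := GrothLib.SmoothRank4.fibreDimAt_chart f hU.fromSpec hV.fromSpec hjf q Q hQ
  rw [hjq, hn] at hdim
  haveI : q.asIdeal.LiesOver (q.asIdeal.under Γ(S, V)) := ⟨rfl⟩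
  obtain ⟨R', S', D, _, _, _, _, _, _, ρ, p', q', _, _, ⟨hetR, hp', hbR⟩, ⟨hetS, hq', hbS⟩, hcomm, hfin, hsm, hgi, hqp,
    huniq⟩ := exists_chart_strong (q.asIdeal.under Γ(S, V)) q.asIdeal n Q hQ hdim.symm
  haveI : AlgebraicGeometry.Etale (Spec.map (CommRingCat.ofHom (algebraMap Γ(X, U) S'))) := by
    rw [HasRingHomProperty.Spec_iff (P := @AlgebraicGeometry.Etale)]
    exact RingHom.etale_algebraMap.mpr hetS
  haveI : AlgebraicGeometry.Etale (Spec.map (CommRingCat.ofHom (algebraMap Γ(S, V) R'))) := by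
    rw [HasRingHomProperty.Spec_iff (P := @AlgebraicGeometry.Etale)]
    exact RingHom.etale_algebraMap.mpr hetR
  let e₀ : Spec (CommRingCat.of R') ⟶ Spec Γ(S, V) := Spec.map (CommRingCat.ofHom (algebraMap Γ(S, V) R'))
  let g₀ : Spec (CommRingCat.of S') ⟶ Spec Γ(X, U) := Spec.map (CommRingCat.ofHom (algebraMap Γ(X, U) S'))
  let x' : ↥(Spec (CommRingCat.of S')) := ⟨q', ‹_›⟩
  let s' : ↥(Spec (CommRingCat.of R')) := ⟨p', ‹_›⟩
  refine ⟨Spec (CommRingCat.of R'), Spec (CommRingCat.of D), Spec (CommRingCat.of S'), e₀ ≫ hV.fromSpec,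
    Spec.map (CommRingCat.ofHom (algebraMap R' D)), Spec.map (CommRingCat.ofHom ρ), g₀ ≫ hU.fromSpec, s', x',
    inferInstance, inferInstance, inferInstance, ⟨inferInstance, ?_, ?_⟩, ⟨inferInstance, ?_, ?_⟩, ?_, hsm, hgi,
    (IsFinite.SpecMap_iff _).2 hfin, ?_, ?_⟩
  · show hV.fromSpec (PrimeSpectrum.comap (algebraMap Γ(S, V) R') s') = f x
    rw [show PrimeSpectrum.comap (algebraMap Γ(S, V) R') s' =
        PrimeSpectrum.comap (algebraMap Γ(S, V) Γ(X, U)) q from PrimeSpectrum.ext hp'.over.symm, ← hjq]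
    exact (congrArg (fun m => m q) hjf).symm
  · rw [Scheme.residueFieldMap_comp]
    exact (residueFieldMap_bijective_of_mapₐ _ p' hp' hbR).comp
      (ConcreteCategory.bijective_of_isIso (hV.fromSpec.residueFieldMap (e₀ s')))
  · show hU.fromSpec (PrimeSpectrum.comap (algebraMap Γ(X, U) S') x') = x
    rw [show PrimeSpectrum.comap (algebraMap Γ(X, U) S') x' = q from PrimeSpectrum.ext hq'.over.symm, hjq]
  · rw [Scheme.residueFieldMap_comp]
    exact (residueFieldMap_bijective_of_mapₐ _ q' hq' hbS).comp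
      (ConcreteCategory.bijective_of_isIso (hU.fromSpec.residueFieldMap (g₀ x')))
  · rw [Category.assoc, hjf]
    simp only [← Category.assoc]
    congr 1
    show Spec.map _ ≫ Spec.map _ = (Spec.map _ ≫ Spec.map _) ≫ Spec.map _
    rw [← Spec.map_comp, ← Spec.map_comp, ← Spec.map_comp, ← CommRingCat.ofHom_comp, ← CommRingCat.ofHom_comp,
      ← CommRingCat.ofHom_comp, hcomm, RingHom.comp_assoc]
  · show PrimeSpectrum.comap (algebraMap R' D) (PrimeSpectrum.comap ρ x') = s'
    exact PrimeSpectrum.ext hqp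
  · intro z hz
    exact PrimeSpectrum.ext (huniq z.asIdeal z.2 (congrArg PrimeSpectrum.asIdeal hz))

end GrothLib.RG6.Dev
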